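import Mathlib
import Cfsg.Agent.Lib.CoprimeHyperplane
import Cfsg.Agent.Characters.CNBasic
import Cfsg.Agent.S0262
import Cfsg.Agent.Sigma.Symp
import Cfsg.Agent.S0243
import Cfsg.Agent.S0242
import Cfsg.Agent.FastGrp
import Cfsg.Agent.Prune
set_option linter.all false
prune_inst 0x7ff0bcf90fa885dfffff7e3ffed5dffdf0a86fffefdff98b7fe869ff0fdf4b0249c5fb858be810fe0ed6e29410f87b13f9ffcabfea6bdc7ffffd5ff45ffbff9fedfebd0031968c340f3c6ffff3f07f8e6f3fffffffffffffffffffffffffffbefffffbfeffff
open scoped Cfsg.Agent.FastGrp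

-- part: H846/Basic
section
/-!
# 3-local recognition of `McL`: basic tools (helper846)
-/

set_option autoImplicit false

namespace Cfsg.Agent.H846

open Subgroup

/-- elementary abelian subgroups of order 81 -/
structure IsE81 {G : Type*} [Group G] (A : Subgroup G) : Prop where
  comm : ∀ x ∈ A, ∀ y ∈ A, x * y = y * x
  cube : ∀ x ∈ A, x ^ 3 = 1
  card : Nat.card A = 81

variable {G : Type*} [Group G]

/-- the number of elements of an invariant subgroup modulo a prime -/
theorem card_modEq_fix [Finite G] {p : ℕ} (hp : p.Prime) {g : G} (hg : g ^ p = 1) (W : Subgroup G)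
    (hW : ∀ w ∈ W, g * w * g⁻¹ ∈ W) :
    Nat.card W ≡ Nat.card (W ⊓ centralizer {g} : Subgroup G) [MOD p] := by
  classical
  have := Fact.mk hp
  let _ : Fintype W := Fintype.ofFinite W
  let f : Function.End W := fun w => ⟨g * w * g⁻¹, hW w w.2⟩
  have hpow : ∀ n : ℕ, ∀ w : W, (((f ^ n : Function.End W) w : W) : G) = g ^ n * w * (g ^ n)⁻¹ := by
    intro n
    induction n with
    | zero => intro w; simp; rfl
    | succ n ih =>
      intro w
      rw [pow_succ' f, pow_succ' g]
      change g * (((f ^ n : Function.End W) w : W) : G) * g⁻¹ = _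
      rw [ih]
      group
  have hf : f ^ p ^ 1 = 1 := by
    rw [pow_one]
    funext w
    apply Subtype.ext
    rw [hpow, hg]
    simp
    rfl
  have h := Equiv.Perm.card_fixedPoints_modEq (f := f) (p := p) (n := 1) hf
  rw [Nat.card_eq_fintype_card]
  refine h.trans ?_
  rw [← Nat.card_eq_fintype_card]
  have : Nat.card (Function.fixedPoints f) = Nat.card (W ⊓ centralizer {g} : Subgroup G) := by
    refine Nat.card_congr
      { toFun := fun x => ⟨x.1.1, mem_inf.2 ⟨x.1.2, mem_centralizer_singleton_iff.2 ?_⟩⟩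
        invFun := fun x => ⟨⟨x.1, (mem_inf.1 x.2).1⟩, ?_⟩
        left_inv := fun x => rfl
        right_inv := fun x => rfl }
    · have h1 : g * x.1.1 * g⁻¹ = x.1.1 := congrArg Subtype.val x.2
      rw [mul_inv_eq_iff_eq_mul] at h1
      exact h1.symm
    · have h1 := mem_centralizer_singleton_iff.1 (mem_inf.1 x.2).2
      apply Subtype.ext
      change g * x.1 * g⁻¹ = x.1
      rw [mul_inv_eq_iff_eq_mul]
      exact h1.symm
  rw [this]

/-- a subgroup of a group of order `p ^ n` -/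
theorem card_pow_of_le [Finite G] {p n : ℕ} (hp : p.Prime) {A B : Subgroup G} (hAB : A ≤ B)
    (hB : Nat.card B = p ^ n) : ∃ k ≤ n, Nat.card A = p ^ k := by
  have h := card_dvd_of_le hAB
  rw [hB] at h
  exact (Nat.dvd_prime_pow hp).1 h

/-- an element of order five acts trivially on an invariant group of order 3, 9 or 27 -/
theorem five_trivial [Finite G] {g : G} (hg : g ^ 5 = 1) {W : Subgroup G} {k : ℕ} (hk : k ≤ 3)
    (hW : Nat.card W = 3 ^ k) (hgW : ∀ w ∈ W, g * w * g⁻¹ ∈ W) : ∀ w ∈ W, g * w = w * g := by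
  have h := card_modEq_fix (by norm_num : Nat.Prime 5) hg W hgW
  obtain ⟨j, hj, hc⟩ := card_pow_of_le Nat.prime_three
    (inf_le_left : (W ⊓ centralizer {g} : Subgroup G) ≤ W) hW
  rw [hc, hW] at h
  have hjk : j = k := by
    have h' : 3 ^ k % 5 = 3 ^ j % 5 := h
    interval_cases k <;> interval_cases j <;> simp_all only [_root_.zero_le, _root_.pow_zero, _root_.Subgroup.card_eq_one, _root_.bot_le, _root_.inf_of_le_left, _root_.Subgroup.mem_bot, _root_.Nat.card_eq_fintype_card, _root_.Fintype.card_unique, _root_.Std.le_refl, _root_.Nat.one_mod, _root_.Nat.one_le_ofNat, _root_.pow_one, _root_.Subgroup.mem_inf, _root_.Nat.reduceMod, _root_.OfNat.ofNat_ne_one, _root_.Nat.reduceLeDiff, _root_.Nat.reducePow, _root_.Nat.succ_ne_self, _root_.Nat.reduceEqDiff]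
  subst hjk
  have heq : (W ⊓ centralizer {g} : Subgroup G) = W :=
    Subgroup.eq_of_le_of_card_ge inf_le_left (by rw [hc, hW])
  intro w hw
  rw [← heq] at hw
  exact (mem_centralizer_singleton_iff.1 (mem_inf.1 hw).2).symm

end Cfsg.Agent.H846
end

-- part: H846/ASix
section
/-!
# The alternating group of degree 6 (helper846)
-/

set_option autoImplicit false

namespace Cfsg.Agent.H846.ASix

open Subgroup Equiv

/-- the alternating group of degree 6 -/
abbrev A6 : Type := alternatingGroup (Fin 6)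

theorem card : Nat.card A6 = 360 := by
  rw [nat_card_alternatingGroup]
  simp
  decide

theorem simple : IsSimpleGroup A6 := alternatingGroup.isSimpleGroup (by simp)

/-- `(0 1 2)` -/
def cP : Perm (Fin 6) := c[0, 1, 2]
/-- `(3 4 5)` -/
def dP : Perm (Fin 6) := c[3, 4, 5]
/-- `(0 3 1 4)(2 5)` -/
def wP : Perm (Fin 6) := c[0, 3, 1, 4] * c[2, 5]

/-- `(0 1 2)` -/
def c : A6 := ⟨cP, Perm.mem_alternatingGroup.2 (by decide)⟩
/-- `(3 4 5)` -/
def d : A6 := ⟨dP, Perm.mem_alternatingGroup.2 (by decide)⟩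
/-- `(0 3 1 4)(2 5)` -/
def w : A6 := ⟨wP, Perm.mem_alternatingGroup.2 (by decide)⟩

theorem w_c : w * c * w⁻¹ = d := Subtype.ext (by decide)
theorem w_d : w * d * w⁻¹ = c⁻¹ := Subtype.ext (by decide)
theorem cd : c * d = d * c := Subtype.ext (by decide)
theorem c_cube : c ^ 3 = 1 := Subtype.ext (by decide)
theorem d_cube : d ^ 3 = 1 := Subtype.ext (by decide)
theorem c_ne : c ≠ 1 := fun h => by
  have : cP = 1 := congrArg Subtype.val h
  exact absurd this (by decide)
theorem w_order : orderOf w = 4 := by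
  have h1 : w ^ 2 ^ (1 + 1) = 1 := Subtype.ext (by decide)
  have h2 : ¬ w ^ 2 ^ 1 = 1 := fun h => by
    have : wP ^ 2 ^ 1 = 1 := (congrArg Subtype.val h :)
    exact absurd this (by decide)
  exact orderOf_eq_prime_pow h2 h1

theorem c_order : orderOf c = 3 := orderOf_eq_prime c_cube c_ne

theorem d_notMem : d ∉ zpowers c := by
  rw [mem_zpowers_iff_mem_range_orderOf, c_order]
  simp only [Finset.mem_image, Finset.mem_range, not_exists, not_and]
  intro k hk h
  have h' : cP ^ k = dP := congrArg Subtype.val h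
  revert h'
  interval_cases k <;> decide

/-- elements of 3-power order have order 3 -/
theorem cube_of_pow {x : A6} {n : ℕ} (h : x ^ 3 ^ n = 1) : x ^ 3 = 1 := by
  obtain ⟨k, hk, hx⟩ := (Nat.dvd_prime_pow Nat.prime_three).1 (orderOf_dvd_of_pow_eq_one h)
  have hd : orderOf x ∣ 360 := by
    rw [← card]; exact _root_.orderOf_dvd_natCard x
  have hk2 : k ≤ 2 := by
    by_contra hcon
    have : (3 : ℕ) ^ 3 ∣ 360 := (pow_dvd_pow 3 (by omega : 3 ≤ k)).trans (hx ▸ hd)
    omega
  have hk1 : k ≤ 1 := by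
    by_contra hcon
    have hk' : k = 2 := by omega
    subst hk'
    -- a permutation of six points has no order 9
    have h9 : orderOf (x : Perm (Fin 6)) = 9 := by
      rw [Subgroup.orderOf_coe, hx]; norm_num
    have h1 : 9 ∣ (x : Perm (Fin 6)).cycleType.lcm := by
      rw [Perm.lcm_cycleType, h9]
    have h2 : ∃ m ∈ (x : Perm (Fin 6)).cycleType, 9 ∣ m := by
      by_contra hno
      push Not at hno
      have h3 : ∀ m ∈ (x : Perm (Fin 6)).cycleType, m ∣ 3 := by
        intro m hm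
        have hm9 : m ∣ 9 := by
          rw [← h9, ← Perm.lcm_cycleType]
          exact Multiset.dvd_lcm hm
        have hm' : m ∣ 3 ^ 2 := by simpa using hm9
        obtain ⟨j, hj, rfl⟩ := (Nat.dvd_prime_pow Nat.prime_three).1 hm'
        have : j ≠ 2 := by
          rintro rfl
          exact hno _ hm (by norm_num)
        exact (pow_dvd_pow 3 (by omega : j ≤ 1)).trans (by norm_num)
      have h4 : (x : Perm (Fin 6)).cycleType.lcm ∣ 3 := Multiset.lcm_dvd.2 h3
      rw [Perm.lcm_cycleType, h9] at h4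
      omega
    obtain ⟨m, hm, h9m⟩ := h2
    have h5 : m ≤ 6 := by
      have := Perm.le_card_support_of_mem_cycleType hm
      refine this.trans ?_
      exact (Finset.card_le_univ _).trans (by simp)
    have h6 : 0 < m := by
      have := Perm.two_le_of_mem_cycleType hm
      omega
    have := Nat.le_of_dvd h6 h9m
    omega
  have : orderOf x ∣ 3 := by
    rw [hx]
    exact (pow_dvd_pow 3 hk1).trans (by norm_num)
  exact orderOf_dvd_iff_pow_eq_one.1 this

/-- every element of order 3 is conjugate in the symmetric group to `c` or `c * d` -/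
theorem exists_conj {x : A6} (h3 : x ^ 3 = 1) (h1 : x ≠ 1) :
    ∃ s : Perm (Fin 6), (x : Perm (Fin 6)) = s * cP * s⁻¹ ∨ (x : Perm (Fin 6)) = s * (cP * dP) * s⁻¹ := by
  have ho : orderOf (x : Perm (Fin 6)) = 3 := by
    rw [Subgroup.orderOf_coe]
    exact orderOf_eq_prime h3 h1
  obtain ⟨n, hn⟩ := Perm.cycleType_prime_order (σ := (x : Perm (Fin 6))) (by rw [ho]; norm_num)
  rw [ho] at hn
  have hs := Perm.sum_cycleType_le (x : Perm (Fin 6))
  rw [hn] at hs
  simp at hs
  have hn1 : n = 0 ∨ n = 1 := by omega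
  have hc : cP.cycleType = {3} := card_support_eq_three_iff.1 (by decide)
  have hd : dP.cycleType = {3} := card_support_eq_three_iff.1 (by decide)
  have hcd : (cP * dP).cycleType = {3} + {3} := by
    rw [Perm.Disjoint.cycleType_mul, hc, hd]
    rw [Perm.disjoint_iff_disjoint_support]
    decide
  rcases hn1 with rfl | rfl
  · have h : IsConj cP (x : Perm (Fin 6)) := by
      rw [Perm.isConj_iff_cycleType_eq, hn, hc]; rfl
    obtain ⟨s, hs⟩ := isConj_iff.1 h
    exact ⟨s, Or.inl hs.symm⟩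
  · have h : IsConj (cP * dP) (x : Perm (Fin 6)) := by
      rw [Perm.isConj_iff_cycleType_eq, hn, hcd]; rfl
    obtain ⟨s, hs⟩ := isConj_iff.1 h
    exact ⟨s, Or.inr hs.symm⟩

/-- an element of order 3 commutes with a conjugate outside the group it generates -/
theorem exists_partner {x : A6} (h3 : x ^ 3 = 1) (h1 : x ≠ 1) :
    ∃ g : A6, x * (g * x * g⁻¹) = (g * x * g⁻¹) * x ∧ g * x * g⁻¹ ∉ zpowers x := by
  obtain ⟨s, hs⟩ := exists_conj h3 h1
  have key : ∀ y : Perm (Fin 6), y ^ 3 = 1 → (x : Perm (Fin 6)) = s * y * s⁻¹ →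
      y * (wP * y * wP⁻¹) = (wP * y * wP⁻¹) * y → (wP * y * wP⁻¹) ≠ 1 → (wP * y * wP⁻¹) ≠ y →
      (wP * y * wP⁻¹) ≠ y * y →
      ∃ g : A6, x * (g * x * g⁻¹) = (g * x * g⁻¹) * x ∧ g * x * g⁻¹ ∉ zpowers x := by
    intro y hy3 hxy hcomm hne1 hney hneyy
    refine ⟨⟨s * wP * s⁻¹, (alternatingGroup.normal (α := Fin 6)).conj_mem _ w.2 s⟩, ?_, ?_⟩
    · apply Subtype.ext
      change (x : Perm (Fin 6)) * ((s * wP * s⁻¹) * x * (s * wP * s⁻¹)⁻¹) =
        ((s * wP * s⁻¹) * x * (s * wP * s⁻¹)⁻¹) * x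
      rw [hxy]
      have e1 : s * y * s⁻¹ * (s * wP * s⁻¹ * (s * y * s⁻¹) * (s * wP * s⁻¹)⁻¹) =
        s * (y * (wP * y * wP⁻¹)) * s⁻¹ := by group
      have e2 : s * wP * s⁻¹ * (s * y * s⁻¹) * (s * wP * s⁻¹)⁻¹ * (s * y * s⁻¹) =
        s * ((wP * y * wP⁻¹) * y) * s⁻¹ := by group
      rw [e1, e2, hcomm]
    · intro hmem
      have ho : orderOf x = 3 := orderOf_eq_prime h3 h1
      rw [mem_zpowers_iff_mem_range_orderOf, ho] at hmem
      simp only [Finset.mem_image, Finset.mem_range] at hmem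
      obtain ⟨k, hk, hxk⟩ := hmem
      have hxk' : (x : Perm (Fin 6)) ^ k = (s * wP * s⁻¹) * x * (s * wP * s⁻¹)⁻¹ :=
        congrArg Subtype.val hxk
      rw [hxy, conj_pow] at hxk'
      have e3 : (s * wP * s⁻¹) * (s * y * s⁻¹) * (s * wP * s⁻¹)⁻¹ = s * (wP * y * wP⁻¹) * s⁻¹ := by
        group
      rw [e3] at hxk'
      have e4 : y ^ k = wP * y * wP⁻¹ := by
        have := mul_right_cancel hxk'
        exact mul_left_cancel this
      interval_cases k
      · rw [pow_zero] at e4; exact hne1 e4.symm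
      · rw [pow_one] at e4; exact hney e4.symm
      · rw [pow_two] at e4; exact hneyy e4.symm
  rcases hs with hs | hs
  · exact key cP (by decide) hs (by decide) (by decide) (by decide) (by decide)
  · exact key (cP * dP) (by decide) hs (by decide +kernel) (by decide) (by decide) (by decide)

theorem card_sylow (P : Sylow 3 A6) : Nat.card P = 9 := by
  have := Fact.mk Nat.prime_three
  obtain ⟨k, hk⟩ := (IsPGroup.iff_card (p := 3)).1 P.isPGroup'
  have h1 : 3 ^ 2 ∣ Nat.card P := P.pow_dvd_card_of_pow_dvd_card (by rw [card]; norm_num)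
  have h2 : Nat.card P ∣ 360 := by rw [← card]; exact card_subgroup_dvd_card _
  rw [hk] at h1 h2 ⊢
  have h3 : 2 ≤ k := (Nat.pow_dvd_pow_iff_le_right (by norm_num)).1 h1
  have h4 : k ≤ 2 := by
    by_contra hcon
    have : (3 : ℕ) ^ 3 ∣ 360 := (pow_dvd_pow 3 (by omega : 3 ≤ k)).trans h2
    omega
  have h5 : k = 2 := le_antisymm h4 h3
  rw [h5]; norm_num

/-- the normaliser of a Sylow 3-subgroup has order divisible by 36 -/
theorem dvd_normalizer (P : Sylow 3 A6) : 36 ∣ Nat.card (normalizer ((P : Subgroup A6) : Set A6)) := by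
  have := Fact.mk Nat.prime_three
  have hpc : IsPGroup 3 (zpowers c) := IsPGroup.of_card (n := 1) (by rw [Nat.card_zpowers, c_order]; norm_num)
  have d_ne : d ≠ 1 := fun h => d_notMem (h ▸ one_mem _)
  have hpd : IsPGroup 3 (zpowers d) := IsPGroup.of_card (n := 1) (by
    rw [Nat.card_zpowers, orderOf_eq_prime d_cube d_ne]; norm_num)
  have hn : zpowers c ≤ normalizer ((zpowers d : Subgroup A6) : Set A6) := by
    rw [zpowers_le]
    rw [mem_normalizer_iff]
    have hcd : ∀ n : ℤ, c * d ^ n * c⁻¹ = d ^ n := by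
      intro n
      rw [mul_inv_eq_iff_eq_mul]
      exact (show Commute c d from cd).zpow_right n
    intro x
    constructor
    · rintro ⟨n, rfl⟩
      exact ⟨n, (hcd n).symm⟩
    · rintro ⟨n, hn⟩
      have hn' : c * x * c⁻¹ = d ^ n := hn.symm
      refine ⟨n, ?_⟩
      change d ^ n = x
      have : x = c⁻¹ * d ^ n * c := by rw [← hn']; group
      rw [this]
      conv_rhs => rw [← hcd n]
      group
  have hT0 : IsPGroup 3 (zpowers c ⊔ zpowers d : Subgroup A6) := hpc.to_sup_of_normal_right' hpd hn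
  obtain ⟨P0, hP0⟩ := hT0.exists_le_sylow
  have hcT : c ∈ (zpowers c ⊔ zpowers d : Subgroup A6) := le_sup_left (a := zpowers c) (mem_zpowers c)
  have hdT : d ∈ (zpowers c ⊔ zpowers d : Subgroup A6) := le_sup_right (a := zpowers c) (mem_zpowers d)
  have hcard : Nat.card (zpowers c ⊔ zpowers d : Subgroup A6) = 9 := by
    have h1 : Nat.card (zpowers c ⊔ zpowers d : Subgroup A6) ∣ 3 ^ 2 := by
      have := card_dvd_of_le hP0
      rwa [card_sylow] at this
    obtain ⟨k, hk, hk'⟩ := (Nat.dvd_prime_pow Nat.prime_three).1 h1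
    have h2 : 3 < Nat.card (zpowers c ⊔ zpowers d : Subgroup A6) := by
      rw [← c_order, ← Nat.card_zpowers]
      by_contra hcon
      push Not at hcon
      have := Subgroup.eq_of_le_of_card_ge (le_sup_left : zpowers c ≤ zpowers c ⊔ zpowers d) hcon
      rw [← this] at hdT
      exact d_notMem hdT
    rw [hk'] at h2 ⊢
    have h3 : k = 2 := by
      by_contra hcon
      have hk1 : k ≤ 1 := by omega
      have : 3 ^ k ≤ 3 ^ 1 := Nat.pow_le_pow_right (by norm_num) hk1
      omega
    rw [h3]; norm_num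
  have hT : (zpowers c ⊔ zpowers d : Subgroup A6) = P0 :=
    Subgroup.eq_of_le_of_card_ge hP0 (by rw [hcard]; exact (card_sylow P0).le)
  have hw : w ∈ normalizer ((P0 : Subgroup A6) : Set A6) := by
    rw [← hT]
    have hle : (zpowers c ⊔ zpowers d : Subgroup A6).map (MulAut.conj w).toMonoidHom ≤
        (zpowers c ⊔ zpowers d : Subgroup A6) := by
      rw [Subgroup.map_sup, sup_le_iff, MonoidHom.map_zpowers, MonoidHom.map_zpowers, zpowers_le,
        zpowers_le]
      constructor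
      · change w * c * w⁻¹ ∈ _
        rw [w_c]; exact hdT
      · change w * d * w⁻¹ ∈ _
        rw [w_d]; exact inv_mem hcT
    have heq := Subgroup.eq_of_le_of_card_ge hle (by
      rw [Subgroup.card_map_of_injective (MulAut.conj w).injective])
    rw [mem_normalizer_iff]
    intro x
    constructor
    · intro hx
      exact hle (Subgroup.mem_map_of_mem _ hx)
    · intro hx
      have hx' : w * x * w⁻¹ ∈ (zpowers c ⊔ zpowers d : Subgroup A6) := hx
      rw [← heq] at hx'
      obtain ⟨y, hy, hyx⟩ := Subgroup.mem_map.1 hx'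
      have : y = x := (MulAut.conj w).injective hyx
      rw [← this]; exact hy
  have h4 : 4 ∣ Nat.card (normalizer ((P0 : Subgroup A6) : Set A6)) := by
    rw [← w_order, ← Nat.card_zpowers]
    exact card_dvd_of_le ((zpowers_le (H := normalizer ((P0 : Subgroup A6) : Set A6))).2 hw)
  have h9 : 9 ∣ Nat.card (normalizer ((P0 : Subgroup A6) : Set A6)) := by
    rw [← card_sylow P0]
    exact card_dvd_of_le le_normalizer
  have h36 : 36 ∣ Nat.card (normalizer ((P0 : Subgroup A6) : Set A6)) := by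
    have : Nat.Coprime 4 9 := by decide
    exact this.mul_dvd_of_dvd_of_dvd h4 h9
  have hidx : (normalizer ((P : Subgroup A6) : Set A6)).index =
      (normalizer ((P0 : Subgroup A6) : Set A6)).index := by
    exact P.card_eq_index_normalizer.symm.trans P0.card_eq_index_normalizer
  have e1 := Subgroup.card_mul_index (normalizer ((P : Subgroup A6) : Set A6))
  have e2 := Subgroup.card_mul_index (normalizer ((P0 : Subgroup A6) : Set A6))
  rw [hidx, ← e2] at e1
  have e3 := Nat.eq_of_mul_eq_mul_right (Nat.pos_of_ne_zero (index_ne_zero_of_finite)) e1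
  rw [e3]
  exact h36

end Cfsg.Agent.H846.ASix
end

-- part: H846/Core
section
/-!
# 3-local recognition of `McL`: the local analysis (helper846)

`Loc S Z Q` : `S` of order `3^6`, `Z = Z(S)` of order 3, `Q ≤ S` of order `3^5` with commutators in `Z`,
normalised by `N(Z)`, containing its centraliser, whose abelian subgroups have order at most 27.
`JDat J M π` : `J` elementary abelian of order 81, `M / J ≅ A_6` via `π`, `M` normal in `N(J)` and
containing the 3-elements of `N(J)`.
-/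

set_option autoImplicit false

namespace Cfsg.Agent.H846

open Subgroup

variable {G : Type*} [Group G]

/-- local data at the centre of a Sylow 3-subgroup -/
structure Loc (S Z Q : Subgroup G) : Prop where
  cardS : Nat.card S = 3 ^ 6
  cardZ : Nat.card Z = 3
  memZ : ∀ x, x ∈ Z ↔ x ∈ S ∧ ∀ y ∈ S, x * y = y * x
  QS : Q ≤ S
  cardQ : Nat.card Q = 3 ^ 5
  abQ : ∀ A : Subgroup G, A ≤ Q → (∀ x ∈ A, ∀ y ∈ A, x * y = y * x) → Nat.card A ≤ 27
  commQ : ∀ x ∈ Q, ∀ y ∈ Q, x * y * x⁻¹ * y⁻¹ ∈ Z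
  nor : ∀ n, (∀ z ∈ Z, n * z * n⁻¹ ∈ Z) → ∀ q ∈ Q, n * q * n⁻¹ ∈ Q
  cenQ : ∀ x, (∀ q ∈ Q, x * q = q * x) → x ∈ Q
  five : ∃ h, h ^ 5 = 1 ∧ h ≠ 1 ∧ (∀ z ∈ Z, h * z = z * h) ∧ ∀ N : Subgroup G, N.Normal → S ≤ N → h ∈ N

/-- data at the elementary abelian group of order 81 -/
structure JDat (J M : Subgroup G) (π : M →* ASix.A6) : Prop where
  e81 : IsE81 J
  JM : J ≤ M
  surj : Function.Surjective π
  ker : ∀ m : M, π m = 1 ↔ (m : G) ∈ J
  norm : ∀ n, (∀ j ∈ J, n * j * n⁻¹ ∈ J) → ∀ m ∈ M, n * m * n⁻¹ ∈ M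
  three : ∀ x, (∀ j ∈ J, x * j * x⁻¹ ∈ J) → (∃ k : ℕ, x ^ 3 ^ k = 1) → x ∈ M

/-- the image of a subgroup under conjugation -/
abbrev cj (g : G) (H : Subgroup G) : Subgroup G := H.map (MulAut.conj g).toMonoidHom

theorem mem_cj {g : G} {H : Subgroup G} {x : G} : x ∈ cj g H ↔ g⁻¹ * x * g ∈ H := by
  constructor
  · rintro ⟨y, hy, rfl⟩
    change g⁻¹ * (g * y * g⁻¹) * g ∈ H
    have : g⁻¹ * (g * y * g⁻¹) * g = y := by group
    rw [this]; exact hy
  · intro h
    refine ⟨g⁻¹ * x * g, h, ?_⟩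
    change g * (g⁻¹ * x * g) * g⁻¹ = x
    group

theorem mem_cj_of {g : G} {H : Subgroup G} {x : G} (h : x ∈ H) : g * x * g⁻¹ ∈ cj g H := by
  rw [mem_cj]
  have : g⁻¹ * (g * x * g⁻¹) * g = x := by group
  rw [this]; exact h

theorem card_cj (g : G) (H : Subgroup G) : Nat.card (cj g H) = Nat.card H :=
  Subgroup.card_map_of_injective (MulAut.conj g).injective

theorem cj_le_cj (g : G) {H K : Subgroup G} (h : H ≤ K) : cj g H ≤ cj g K := Subgroup.map_mono h

theorem cj_cj (g h : G) (H : Subgroup G) : cj g (cj h H) = cj (g * h) H := by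
  ext x
  rw [mem_cj, mem_cj, mem_cj]
  have : h⁻¹ * (g⁻¹ * x * g) * h = (g * h)⁻¹ * x * (g * h) := by group
  rw [this]

theorem cj_one (H : Subgroup G) : cj 1 H = H := by
  ext x
  rw [mem_cj]; simp

/-- `IsE81` is invariant under conjugation -/
theorem IsE81.cj {A : Subgroup G} (hA : IsE81 A) (g : G) : IsE81 (cj g A) where
  comm := by
    intro x hx y hy
    rw [mem_cj] at hx hy
    have h := hA.comm _ hx _ hy
    have h1 : g⁻¹ * x * g * (g⁻¹ * y * g) = g⁻¹ * (x * y) * g := by group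
    have h2 : g⁻¹ * y * g * (g⁻¹ * x * g) = g⁻¹ * (y * x) * g := by group
    rw [h1, h2] at h
    exact mul_left_cancel (mul_right_cancel h)
  cube := by
    intro x hx
    rw [mem_cj] at hx
    have h := hA.cube _ hx
    have h1 : (g⁻¹ * x * g) ^ 3 = g⁻¹ * x ^ 3 * g := by
      have := conj_pow (i := 3) (a := g⁻¹) (b := x)
      simpa only [_root_.inv_inv] using this
    rw [h1] at h
    have : x ^ 3 = g * (g⁻¹ * x ^ 3 * g) * g⁻¹ := by group
    rw [this, h]; group
  card := by rw [card_cj, hA.card]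

/-- `Loc` is invariant under conjugation -/
theorem Loc.cj {S Z Q : Subgroup G} (L : Loc S Z Q) (g : G) : Loc (cj g S) (cj g Z) (cj g Q) where
  cardS := by rw [card_cj, L.cardS]
  cardZ := by rw [card_cj, L.cardZ]
  memZ := by
    intro x
    rw [mem_cj, L.memZ, mem_cj]
    refine and_congr_right fun _ => ?_
    constructor
    · intro h y hy
      rw [mem_cj] at hy
      have := h _ hy
      have h1 : g⁻¹ * x * g * (g⁻¹ * y * g) = g⁻¹ * (x * y) * g := by group
      have h2 : g⁻¹ * y * g * (g⁻¹ * x * g) = g⁻¹ * (y * x) * g := by group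
      rw [h1, h2] at this
      exact mul_left_cancel (mul_right_cancel this)
    · intro h y hy
      have := h _ (mem_cj_of hy)
      have h1 : g⁻¹ * x * g * y = g⁻¹ * (x * (g * y * g⁻¹)) * g := by group
      have h2 : y * (g⁻¹ * x * g) = g⁻¹ * ((g * y * g⁻¹) * x) * g := by group
      rw [h1, h2, this]
  QS := cj_le_cj g L.QS
  cardQ := by rw [card_cj, L.cardQ]
  abQ := by
    intro A hA hc
    have h1 := L.abQ (H846.cj g⁻¹ A) (by
      have := cj_le_cj g⁻¹ hA
      rwa [cj_cj, inv_mul_cancel, cj_one] at this) (by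
      intro x hx y hy
      rw [mem_cj] at hx hy
      have h := hc _ hx _ hy
      have h1 : g⁻¹⁻¹ * x * g⁻¹ * (g⁻¹⁻¹ * y * g⁻¹) = g * (x * y) * g⁻¹ := by group
      have h2 : g⁻¹⁻¹ * y * g⁻¹ * (g⁻¹⁻¹ * x * g⁻¹) = g * (y * x) * g⁻¹ := by group
      rw [h1, h2] at h
      exact mul_left_cancel (mul_right_cancel h))
    rwa [card_cj] at h1
  commQ := by
    intro x hx y hy
    rw [mem_cj] at hx hy ⊢
    have := L.commQ _ hx _ hy
    have h1 : g⁻¹ * x * g * (g⁻¹ * y * g) * (g⁻¹ * x * g)⁻¹ * (g⁻¹ * y * g)⁻¹ =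
      g⁻¹ * (x * y * x⁻¹ * y⁻¹) * g := by group
    rwa [h1] at this
  nor := by
    intro n hn q hq
    rw [mem_cj] at hq ⊢
    have := L.nor (g⁻¹ * n * g) (fun z hz => by
      have h1 := hn _ (mem_cj_of hz)
      rw [mem_cj] at h1
      have h2 : g⁻¹ * n * g * z * (g⁻¹ * n * g)⁻¹ = g⁻¹ * (n * (g * z * g⁻¹) * n⁻¹) * g := by group
      rwa [h2]) _ hq
    have h2 : g⁻¹ * n * g * (g⁻¹ * q * g) * (g⁻¹ * n * g)⁻¹ = g⁻¹ * (n * q * n⁻¹) * g := by group
    rwa [h2] at this
  cenQ := by
    intro x hx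
    rw [mem_cj]
    apply L.cenQ
    intro q hq
    have := hx _ (mem_cj_of hq)
    have h1 : g⁻¹ * x * g * q = g⁻¹ * (x * (g * q * g⁻¹)) * g := by group
    have h2 : q * (g⁻¹ * x * g) = g⁻¹ * ((g * q * g⁻¹) * x) * g := by group
    rw [h1, h2, this]
  five := by
    obtain ⟨h, h5, h1, hz, hN⟩ := L.five
    refine ⟨g * h * g⁻¹, ?_, ?_, ?_, ?_⟩
    · rw [conj_pow, h5]; group
    · intro hc
      apply h1
      have : h = g⁻¹ * (g * h * g⁻¹) * g := by group
      rw [this, hc]; group
    · intro z hz'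
      rw [mem_cj] at hz'
      have := hz _ hz'
      have e1 : g * h * g⁻¹ * z = g * (h * (g⁻¹ * z * g)) * g⁻¹ := by group
      have e2 : z * (g * h * g⁻¹) = g * ((g⁻¹ * z * g) * h) * g⁻¹ := by group
      rw [e1, e2, this]
    · intro N hNn hSN
      apply hNn.conj_mem
      apply hN N hNn
      intro s hs
      have := hSN (mem_cj_of (g := g) hs)
      have h2 := hNn.conj_mem _ this g⁻¹
      have e : g⁻¹ * (g * s * g⁻¹) * g⁻¹⁻¹ = s := by group
      rwa [e] at h2

end Cfsg.Agent.H846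
end

-- part: H846/Core2
section
/-!
# 3-local recognition of `McL`: the subgroup `J`, first facts (helper846)
-/

set_option autoImplicit false

namespace Cfsg.Agent.H846

open Subgroup

variable {G : Type*} [Group G]

theorem Loc.comm_S {S Z Q : Subgroup G} (L : Loc S Z Q) {z s : G} (hz : z ∈ Z) (hs : s ∈ S) :
    z * s = s * z := ((L.memZ z).1 hz).2 s hs

theorem Loc.Z_le_Q {S Z Q : Subgroup G} (L : Loc S Z Q) : Z ≤ Q := fun _ hz =>
  L.cenQ _ fun _ hq => L.comm_S hz (L.QS hq)

/-- two subgroups of order `3^6` are conjugate -/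
theorem conj_of_card [Finite G] (hn : ¬ 3 ^ 7 ∣ Nat.card G) {S T : Subgroup G}
    (hS : Nat.card S = 3 ^ 6) (hT : Nat.card T = 3 ^ 6) : ∃ g : G, T = cj g S := by
  have := Fact.mk Nat.prime_three
  have hf : (Nat.card G).factorization 3 = 6 := by
    have h0 : Nat.card G ≠ 0 := Nat.card_pos.ne'
    apply le_antisymm
    · by_contra hcon
      push Not at hcon
      exact hn ((Nat.prime_three.pow_dvd_iff_le_factorization h0).2 hcon)
    · rw [← Nat.prime_three.pow_dvd_iff_le_factorization h0, ← hS]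
      exact card_subgroup_dvd_card S
  let S' : Sylow 3 G := Sylow.ofCard S (by rw [hS, hf])
  let T' : Sylow 3 G := Sylow.ofCard T (by rw [hT, hf])
  obtain ⟨g, hg⟩ := MulAction.exists_smul_eq G S' T'
  refine ⟨g, ?_⟩
  have : ((g • S' : Sylow 3 G) : Subgroup G) = T := by rw [hg]; rfl
  rw [← this]
  rfl

/-- a 3-subgroup is contained in a conjugate of `S` -/
theorem le_conj_of_isPGroup [Finite G] (hn : ¬ 3 ^ 7 ∣ Nat.card G) {S A : Subgroup G}
    (hS : Nat.card S = 3 ^ 6) (hA : IsPGroup 3 A) : ∃ g : G, A ≤ cj g S := by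
  have := Fact.mk Nat.prime_three
  obtain ⟨P, hP⟩ := hA.exists_le_sylow
  have hc : Nat.card P = 3 ^ 6 := by
    rw [P.card_eq_multiplicity]
    have h0 : Nat.card G ≠ 0 := Nat.card_pos.ne'
    congr 1
    apply le_antisymm
    · by_contra hcon
      push Not at hcon
      exact hn ((Nat.prime_three.pow_dvd_iff_le_factorization h0).2 hcon)
    · rw [← Nat.prime_three.pow_dvd_iff_le_factorization h0, ← hS]
      exact card_subgroup_dvd_card S
  obtain ⟨g, hg⟩ := conj_of_card hn hS hc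
  exact ⟨g, by rw [← hg]; exact hP⟩

theorem IsE81.isPGroup {A : Subgroup G} (hA : IsE81 A) : IsPGroup 3 A := fun a =>
  ⟨1, Subtype.ext (by simpa only [_root_.pow_one, _root_.SubmonoidClass.coe_pow, _root_.OneMemClass.coe_one] using hA.cube a a.2)⟩

variable {J M : Subgroup G} {π : M →* ASix.A6}

theorem JDat.conj_mem (D : JDat J M π) {m : G} (hm : m ∈ M) {j : G} (hj : j ∈ J) : m * j * m⁻¹ ∈ J := by
  have h := (D.ker (⟨m, hm⟩ * ⟨j, D.JM hj⟩ * ⟨m, hm⟩⁻¹)).1 (by
    rw [map_mul, map_mul, map_inv, (D.ker ⟨j, D.JM hj⟩).2 hj]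
    group)
  exact h

theorem JDat.card_M [Finite G] (D : JDat J M π) : Nat.card M = 3 ^ 6 * 40 := by
  have h1 : π.ker = J.subgroupOf M := by
    ext m
    rw [MonoidHom.mem_ker, D.ker, mem_subgroupOf]
  have h2 : Nat.card π.ker = 81 := by
    rw [h1, Nat.card_congr (subgroupOfEquivOfLe D.JM).toEquiv, D.e81.card]
  have h3 : π.ker.index = 360 := by
    rw [Subgroup.index_ker, MonoidHom.range_eq_top.2 D.surj, Subgroup.card_top, ASix.card]
  have h4 := Subgroup.card_mul_index π.ker
  rw [h2, h3] at h4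
  rw [← h4]
  norm_num

theorem normal_J (D : JDat J M π) : (J.subgroupOf M).Normal := by
  constructor
  intro j hj m
  rw [mem_subgroupOf] at hj ⊢
  exact D.conj_mem m.2 hj

/-- a subgroup of order `3^6` between `J` and `M` -/
theorem JDat.exists_T [Finite G] (D : JDat J M π) : ∃ T : Subgroup G, Nat.card T = 3 ^ 6 ∧ J ≤ T ∧ T ≤ M := by
  have := Fact.mk Nat.prime_three
  have hp : IsPGroup 3 (J.subgroupOf M) := D.e81.isPGroup.of_equiv (subgroupOfEquivOfLe D.JM).symm
  obtain ⟨P, hP⟩ := hp.exists_le_sylow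
  refine ⟨(P : Subgroup M).map M.subtype, ?_, ?_, ?_⟩
  · rw [Subgroup.card_map_of_injective M.subtype_injective]
    have hM := D.card_M
    obtain ⟨k, hk⟩ := (IsPGroup.iff_card (p := 3)).1 P.isPGroup'
    have h1 : 3 ^ 6 ∣ Nat.card P := P.pow_dvd_card_of_pow_dvd_card (by rw [hM]; exact dvd_mul_right _ _)
    have h2 : Nat.card P ∣ 3 ^ 6 * 40 := by rw [← hM]; exact card_subgroup_dvd_card _
    have hk' : Nat.card (P : Subgroup M) = 3 ^ k := hk
    rw [hk] at h1 h2
    rw [hk']
    have h3 : 6 ≤ k := (Nat.pow_dvd_pow_iff_le_right (by norm_num)).1 h1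
    have h4 : k ≤ 6 := by
      by_contra hcon
      have : (3 : ℕ) ^ 7 ∣ 3 ^ 6 * 40 := (pow_dvd_pow 3 (by omega : 7 ≤ k)).trans h2
      revert this
      norm_num
    rw [le_antisymm h4 h3]
  · intro j hj
    exact ⟨⟨j, D.JM hj⟩, hP (mem_subgroupOf.2 hj), rfl⟩
  · rintro x ⟨y, -, rfl⟩
    exact y.2

/-- `C_M(J) = J` -/
theorem JDat.cent_M [Finite G] (D : JDat J M π) {S Z Q : Subgroup G} (L : Loc S Z Q)
    (hn : ¬ 3 ^ 7 ∣ Nat.card G) {m : G} (hm : m ∈ M) (hc : ∀ j ∈ J, m * j = j * m) : m ∈ J := by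
  -- the image of the centraliser is a normal subgroup of `A_6`
  by_contra hmJ
  let C : Subgroup M := (centralizer (J : Set G)).subgroupOf M
  have hCmem : ∀ x : M, x ∈ C ↔ ∀ j ∈ J, (x : G) * j = j * x := by
    intro x
    rw [mem_subgroupOf, mem_centralizer_iff]
    constructor
    · intro h j hj; exact (h j hj).symm
    · intro h j hj; exact (h j hj).symm
  have hCn : C.Normal := by
    constructor
    intro c hc' x
    rw [hCmem] at hc' ⊢
    intro j hj
    have h1 : (x : G)⁻¹ * j * x ∈ J := by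
      have := D.conj_mem (inv_mem x.2) hj
      simpa using this
    have h2 := hc' _ h1
    have e1 : ((x * c * x⁻¹ : M) : G) * j = x * (c * ((x : G)⁻¹ * j * x)) * (x : G)⁻¹ := by
      simp only [Subgroup.coe_mul, Subgroup.coe_inv]; group
    have e2 : j * ((x * c * x⁻¹ : M) : G) = x * (((x : G)⁻¹ * j * x) * c) * (x : G)⁻¹ := by
      simp only [Subgroup.coe_mul, Subgroup.coe_inv]; group
    rw [e1, e2, h2]
  have hsimple := ASix.simple
  have hmap : (C.map π).Normal := hCn.map π D.surj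
  rcases hmap.eq_bot_or_eq_top with h | h
  · have h1 : π ⟨m, hm⟩ ∈ C.map π := mem_map_of_mem π ((hCmem _).2 hc)
    rw [h, mem_bot, D.ker] at h1
    exact hmJ h1
  · -- everything centralises `J`
    have hall : ∀ x ∈ M, ∀ j ∈ J, x * j = j * x := by
      intro x hx
      have h1 : π ⟨x, hx⟩ ∈ C.map π := by rw [h]; exact mem_top _
      obtain ⟨c, hcC, hcx⟩ := mem_map.1 h1
      have h2 : π (c⁻¹ * ⟨x, hx⟩) = 1 := by rw [map_mul, map_inv, hcx]; group
      rw [D.ker] at h2
      have h3 : (c : G)⁻¹ * x ∈ J := h2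
      rw [hCmem] at hcC
      intro j hj
      have e : x = c * ((c : G)⁻¹ * x) := by group
      have h4 := D.e81.comm _ h3 _ hj
      calc x * j = c * (((c : G)⁻¹ * x) * j) := by group
        _ = c * (j * ((c : G)⁻¹ * x)) := by rw [h4]
        _ = (c * j) * ((c : G)⁻¹ * x) := by group
        _ = (j * c) * ((c : G)⁻¹ * x) := by rw [hcC j hj]
        _ = j * x := by group
    obtain ⟨T, hT, hJT, hTM⟩ := D.exists_T
    obtain ⟨g, rfl⟩ := conj_of_card hn L.cardS hT
    have L' := L.cj g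
    have hJZ : J ≤ cj g Z := fun j hj => (L'.memZ j).2 ⟨hJT hj, fun y hy => (hall y (hTM hy) j hj).symm⟩
    have := card_dvd_of_le hJZ
    rw [D.e81.card, L'.cardZ] at this
    omega

/-- elements of order 5 of `M` fix no element of `J` -/
theorem JDat.five_fix [Finite G] (D : JDat J M π) {S Z Q : Subgroup G} (L : Loc S Z Q)
    (hn : ¬ 3 ^ 7 ∣ Nat.card G) {m : G} (hm : m ∈ M) (h5 : m ^ 5 = 1) (h1 : m ≠ 1) {j : G} (hj : j ∈ J)
    (hc : m * j = j * m) : j = 1 := by
  have hmod := card_modEq_fix (by norm_num : Nat.Prime 5) h5 J (fun j hj => D.conj_mem hm hj)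
  obtain ⟨k, hk, hck⟩ := card_pow_of_le (n := 4) Nat.prime_three
    (inf_le_left : (J ⊓ centralizer {m} : Subgroup G) ≤ J) (by rw [D.e81.card]; norm_num)
  rw [D.e81.card, hck] at hmod
  have hmod' : 81 % 5 = 3 ^ k % 5 := hmod
  have hk' : k = 0 ∨ k = 4 := by
    interval_cases k <;> simp_all only [_root_.Nat.reducePow, _root_.ne_eq, _root_.pow_zero, _root_.zero_le, _root_.Subgroup.mem_inf, _root_.Nat.reduceMod, _root_.Nat.one_mod, _root_.OfNat.zero_ne_ofNat, _root_.or_false, _root_.pow_one, _root_.Nat.one_le_ofNat, _root_.OfNat.one_ne_ofNat, _root_.Nat.reduceLeDiff, _root_.Std.le_refl, _root_.OfNat.ofNat_ne_zero, _root_.or_true]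
  rcases hk' with rfl | rfl
  · rw [pow_zero, Subgroup.card_eq_one] at hck
    have : j ∈ (J ⊓ centralizer {m} : Subgroup G) :=
      mem_inf.2 ⟨hj, mem_centralizer_singleton_iff.2 hc.symm⟩
    rw [hck, mem_bot] at this
    exact this
  · exfalso
    have heq : (J ⊓ centralizer {m} : Subgroup G) = J :=
      Subgroup.eq_of_le_of_card_ge inf_le_left (by rw [hck, D.e81.card]; norm_num)
    have hmJ : m ∈ J := D.cent_M L hn hm (fun j hj => by
      rw [← heq] at hj
      exact (mem_centralizer_singleton_iff.1 (mem_inf.1 hj).2).symm)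
    have h3 := D.e81.cube m hmJ
    apply h1
    calc m = (m ^ 3) ^ 2 * (m ^ 5)⁻¹ := by group
      _ = 1 := by rw [h3, h5]; group

/-- `M` contains an element of order 5 -/
theorem JDat.exists_five [Finite G] (D : JDat J M π) : ∃ m ∈ M, m ^ 5 = 1 ∧ m ≠ 1 := by
  have := Fact.mk (by norm_num : Nat.Prime 5)
  have h : 5 ∣ Nat.card M := by rw [D.card_M]; norm_num
  obtain ⟨x, hx⟩ := exists_prime_orderOf_dvd_card' 5 h
  refine ⟨x, x.2, ?_, ?_⟩
  · have : x ^ 5 = 1 := by rw [← hx]; exact pow_orderOf_eq_one x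
    exact congrArg Subtype.val this
  · intro hc
    have : x = 1 := Subtype.ext hc
    rw [this, orderOf_one] at hx
    omega

end Cfsg.Agent.H846
end

-- part: H846/Hyper
section
/-!
# An abelian group of order 81 has at most 40 subgroups of order 27 (helper846)
-/

set_option autoImplicit false

namespace Cfsg.Agent.H846.Hyper

open Subgroup

theorem exists_hom {J : Type*} [CommGroup J] [Finite J] (hJ : Nat.card J = 81) (B : Subgroup J)
    (hB : Nat.card B = 27) : ∃ φ : J →* ℂˣ, φ.ker = B ∧ φ ^ 3 = 1 := by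
  have h1 := Subgroup.card_eq_card_quotient_mul_card_subgroup B
  rw [hJ, hB] at h1
  have h3 : Nat.card (J ⧸ B) = 3 := by omega
  have : Nontrivial (J ⧸ B) := Finite.one_lt_card_iff_nontrivial.1 (by rw [h3]; norm_num)
  obtain ⟨a, ha⟩ := exists_ne (1 : J ⧸ B)
  obtain ⟨ψ, hψ⟩ := CommGroup.exists_apply_ne_one_of_hasEnoughRootsOfUnity (J ⧸ B) ℂ ha
  have hker : ψ.ker = ⊥ := by
    have hp : Fact (Nat.card (J ⧸ B)).Prime := ⟨by rw [h3]; norm_num⟩
    rcases Subgroup.eq_bot_or_eq_top_of_prime_card ψ.ker with h | h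
    · exact h
    · exfalso
      apply hψ
      have : a ∈ ψ.ker := by rw [h]; exact mem_top _
      exact this
  refine ⟨ψ.comp (QuotientGroup.mk' B), ?_, ?_⟩
  · ext x
    rw [MonoidHom.mem_ker, MonoidHom.comp_apply]
    rw [← MonoidHom.mem_ker, hker, mem_bot, QuotientGroup.mk'_apply, QuotientGroup.eq_one_iff]
  · ext x
    have : ((x : J ⧸ B)) ^ 3 = 1 := by rw [← h3]; exact pow_card_eq_one'
    have h2 : (ψ.comp (QuotientGroup.mk' B) x) ^ 3 = 1 := by
      rw [MonoidHom.comp_apply, ← map_pow, QuotientGroup.mk'_apply, this, map_one]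
    rw [MonoidHom.pow_apply, h2]
    rfl

theorem card_le {J : Type*} [CommGroup J] [Finite J] (hJ : Nat.card J = 81) :
    Nat.card {B : Subgroup J // Nat.card B = 27} ≤ 40 := by
  classical
  have hfin : Finite (J →* ℂˣ) := by
    apply Nat.finite_of_card_ne_zero
    rw [CommGroup.card_monoidHom_of_hasEnoughRootsOfUnity, hJ]
    norm_num
  have hcard : Nat.card (J →* ℂˣ) = 81 := by
    rw [CommGroup.card_monoidHom_of_hasEnoughRootsOfUnity, hJ]
  choose φ hφ hφ3 using fun B : {B : Subgroup J // Nat.card B = 27} => exists_hom hJ B.1 B.2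
  have hne : ∀ B, φ B ≠ 1 := by
    intro B h
    have h1 := hφ B
    rw [h] at h1
    have h2 : (1 : J →* ℂˣ).ker = ⊤ := by ext; simp
    rw [h2] at h1
    have h3 := B.2
    rw [← h1, Subgroup.card_top, hJ] at h3
    omega
  have hinv : ∀ B, (φ B)⁻¹ ≠ 1 := by
    intro B h
    apply hne B
    ext x
    have h1 := DFunLike.congr_fun h x
    rw [MonoidHom.inv_apply, MonoidHom.one_apply, inv_eq_one] at h1
    rw [h1]; rfl
  let F : {B : Subgroup J // Nat.card B = 27} ⊕ {B : Subgroup J // Nat.card B = 27} →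
      {ψ : J →* ℂˣ // ψ ≠ 1} := Sum.elim (fun B => ⟨φ B, hne B⟩) (fun B => ⟨(φ B)⁻¹, hinv B⟩)
  have hkinv : ∀ B, ((φ B)⁻¹).ker = B.1 := by
    intro B
    rw [← hφ B]
    ext x
    rw [MonoidHom.mem_ker, MonoidHom.mem_ker, MonoidHom.inv_apply, inv_eq_one]
  have hmix : ∀ B C, φ B ≠ (φ C)⁻¹ := by
    intro B C h
    have h1 : B = C := by
      apply Subtype.ext
      rw [← hφ B, h, hkinv C]
    subst h1
    apply hne B
    ext x
    have h2 := DFunLike.congr_fun h x
    rw [MonoidHom.inv_apply] at h2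
    have h3 := DFunLike.congr_fun (hφ3 B) x
    rw [MonoidHom.pow_apply, MonoidHom.one_apply, pow_succ, pow_two] at h3
    have h4 : φ B x * φ B x = 1 := by
      nth_rewrite 2 [h2]
      exact mul_inv_cancel _
    rw [h4, one_mul] at h3
    rw [h3]; rfl
  have hF : Function.Injective F := by
    intro a b hab
    rcases a with B | B <;> rcases b with C | C
    · have h : φ B = φ C := congrArg Subtype.val hab
      have : B = C := Subtype.ext (by rw [← hφ B, h, hφ C])
      rw [this]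
    · exact absurd (congrArg Subtype.val hab) (hmix B C)
    · exact absurd (congrArg Subtype.val hab).symm (hmix C B)
    · have h : (φ B)⁻¹ = (φ C)⁻¹ := congrArg Subtype.val hab
      have h' : φ B = φ C := inv_injective h
      have : B = C := Subtype.ext (by rw [← hφ B, h', hφ C])
      rw [this]
  have h1 := Nat.card_le_card_of_injective F hF
  rw [Nat.card_sum] at h1
  have h2 : Nat.card {ψ : J →* ℂˣ // ψ ≠ 1} = 80 := by
    let _ : Fintype (J →* ℂˣ) := Fintype.ofFinite _
    rw [Nat.card_eq_fintype_card, Fintype.card_subtype_compl, Fintype.card_subtype_eq,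
      ← Nat.card_eq_fintype_card, hcard]
  omega

end Cfsg.Agent.H846.Hyper
end

-- part: H846/Hyper2
section
/-!
# Hyperplanes of an elementary abelian group of order 81 (helper846)
-/

set_option autoImplicit false

namespace Cfsg.Agent.H846

open Subgroup

variable {G : Type*} [Group G] [Finite G]

/-- an element of odd order normalising `A ≤ J`, `|J : A| = 3`, acts trivially on `J / A` -/
theorem trivial_on_quot {J A : Subgroup G} (hJ : IsE81 J) (hAJ : A ≤ J) (hA : Nat.card A = 27)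
    {x : G} (hxJ : ∀ j ∈ J, x * j * x⁻¹ ∈ J) (hxA : ∀ a ∈ A, x * a * x⁻¹ ∈ A) {n : ℕ}
    (hodd : x ^ (2 * n + 1) = 1) : ∀ j ∈ J, x * j * x⁻¹ * j⁻¹ ∈ A := by
  let _ : CommGroup J := { (inferInstance : Group J) with
    mul_comm := fun a b => Subtype.ext (hJ.comm a a.2 b b.2) }
  obtain ⟨φ, hφ, hφ3⟩ := Hyper.exists_hom (J := J) hJ.card (A.subgroupOf J) (by
    rw [Nat.card_congr (subgroupOfEquivOfLe hAJ).toEquiv, hA])
  have hker : ∀ j : J, φ j = 1 ↔ (j : G) ∈ A := by
    intro j
    rw [← MonoidHom.mem_ker, hφ, mem_subgroupOf]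
  let s : J →* J :=
    { toFun := fun j => ⟨x * j * x⁻¹, hxJ j j.2⟩
      map_one' := Subtype.ext (by simp)
      map_mul' := fun a b => Subtype.ext (by
        change x * (a * b : G) * x⁻¹ = x * a * x⁻¹ * (x * b * x⁻¹)
        group) }
  have hs : ∀ j : J, ((s j : J) : G) = x * j * x⁻¹ := fun j => rfl
  have hcube : ∀ j : J, φ j ^ 3 = 1 := fun j => by
    have := DFunLike.congr_fun hφ3 j
    rwa [MonoidHom.pow_apply, MonoidHom.one_apply] at this
  -- `s` preserves and reflects membership in `A`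
  have hsA : ∀ j : J, (j : G) ∈ A ↔ ((s j : J) : G) ∈ A := by
    intro j
    constructor
    · intro h; exact hxA _ h
    · intro h
      have hmap : A.map (MulAut.conj x).toMonoidHom = A := by
        apply Subgroup.eq_of_le_of_card_ge
        · rintro y ⟨a, ha, rfl⟩
          exact hxA a ha
        · rw [Subgroup.card_map_of_injective (MulAut.conj x).injective]
      rw [← hmap] at h
      obtain ⟨a, ha, hae⟩ := h
      have : a = j := (MulAut.conj x).injective hae
      rw [← this]; exact ha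
  have hpm : ∀ j : J, φ (s j) = φ j ∨ φ (s j) = (φ j)⁻¹ := by
    intro j
    by_cases hj : (j : G) ∈ A
    · left
      rw [(hker j).2 hj, (hker _).2 ((hsA j).1 hj)]
    · have h1 : φ j ≠ 1 := fun h => hj ((hker j).1 h)
      have h2 : φ (s j) ≠ 1 := fun h => hj ((hsA j).2 ((hker _).1 h))
      have key : ∀ u v : ℂˣ, u ^ 3 = 1 → v ^ 3 = 1 → u ≠ 1 → v ≠ 1 → u = v ∨ u = v⁻¹ := by
        intro u v hu hv hu1 hv1
        have hu' : (u : ℂ) ^ 3 = 1 := by rw [← Units.val_pow_eq_pow_val, hu, Units.val_one]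
        have hv' : (v : ℂ) ^ 3 = 1 := by rw [← Units.val_pow_eq_pow_val, hv, Units.val_one]
        have hu2 : (u : ℂ) ≠ 1 := fun h => hu1 (Units.ext h)
        have hv2 : (v : ℂ) ≠ 1 := fun h => hv1 (Units.ext h)
        have eu : (u : ℂ) ^ 2 + u + 1 = 0 := by
          have : ((u : ℂ) - 1) * ((u : ℂ) ^ 2 + u + 1) = 0 := by linear_combination hu'
          rcases mul_eq_zero.1 this with h | h
          · exact absurd (sub_eq_zero.1 h) hu2
          · exact h
        have ev : (v : ℂ) ^ 2 + v + 1 = 0 := by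
          have : ((v : ℂ) - 1) * ((v : ℂ) ^ 2 + v + 1) = 0 := by linear_combination hv'
          rcases mul_eq_zero.1 this with h | h
          · exact absurd (sub_eq_zero.1 h) hv2
          · exact h
        have e : ((u : ℂ) - v) * (u * v - 1) = 0 := by
          have e1 : (u : ℂ) * v * (u - v) - (u - v) = 0 := by
            have hu3 : (u : ℂ) = -(u : ℂ) ^ 2 - 1 := by linear_combination eu
            have : ((u : ℂ) - v) * (u + v + 1) = 0 := by linear_combination eu - ev
            rcases mul_eq_zero.1 this with h | h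
            · rw [h]; ring
            · have hv3 : (v : ℂ) = -1 - u := by linear_combination h
              rw [hv3]
              linear_combination (-(2 * (u : ℂ) + 1)) * eu
          linear_combination e1
        rcases mul_eq_zero.1 e with h | h
        · left; exact Units.ext (sub_eq_zero.1 h)
        · right
          rw [eq_inv_iff_mul_eq_one]
          exact Units.ext (by simpa only [_root_.Units.val_mul, _root_.Units.val_one] using sub_eq_zero.1 h)
      exact key _ _ (hcube _) (hcube _) h2 h1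
  by_cases hall : ∀ j : J, φ (s j) = φ j
  · intro j hj
    have h1 := hall ⟨j, hj⟩
    have h2 : φ (s ⟨j, hj⟩ * (⟨j, hj⟩ : J)⁻¹) = 1 := by rw [map_mul, map_inv, h1, mul_inv_cancel]
    rw [hker] at h2
    exact h2
  · exfalso
    push Not at hall
    obtain ⟨j0, hj0⟩ := hall
    have hj0' : φ (s j0) = (φ j0)⁻¹ := (hpm j0).resolve_left hj0
    have hinv : ∀ j : J, φ (s j) = (φ j)⁻¹ := by
      intro k
      by_contra hk
      have hk' : φ (s k) = φ k := (hpm k).resolve_right hk
      rcases hpm (j0 * k) with h | h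
      · rw [map_mul, map_mul, map_mul, hk'] at h
        exact hj0 (mul_right_cancel h)
      · rw [map_mul, map_mul, map_mul, hj0', mul_inv] at h
        exact hk (mul_left_cancel h)
    have hpow : ∀ m : ℕ, ∀ j : J, φ ((s^[2 * m + 1]) j) = (φ j)⁻¹ := by
      intro m
      induction m with
      | zero => intro j; simpa using hinv j
      | succ m ih =>
        intro j
        have : 2 * (m + 1) + 1 = (2 * m + 1) + 2 := by ring
        rw [this, Function.iterate_add_apply, ih]
        change (φ (s (s j)))⁻¹ = _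
        rw [hinv, hinv, inv_inv]
    have hit : ∀ m : ℕ, ∀ j : J, (((s^[m]) j : J) : G) = x ^ m * j * (x ^ m)⁻¹ := by
      intro m
      induction m with
      | zero => intro j; simp
      | succ m ih =>
        intro j
        rw [Function.iterate_succ_apply', hs, ih, pow_succ']
        group
    have hone : ∀ j : J, φ j = 1 := by
      intro j
      have h1 : (s^[2 * n + 1]) j = j := Subtype.ext (by rw [hit, hodd]; simp)
      have h2 := hpow n j
      rw [h1] at h2
      have h3 : φ j * φ j = 1 := by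
        nth_rewrite 1 [h2]
        exact inv_mul_cancel _
      have h4 := hcube j
      rw [pow_succ, pow_two, h3, one_mul] at h4
      exact h4
    have hJA : J ≤ A := fun j hj => (hker ⟨j, hj⟩).1 (hone _)
    have := card_dvd_of_le hJA
    rw [hJ.card, hA] at this
    omega

/-- the number of subgroups of order 27 of an elementary abelian subgroup of order 81 -/
theorem card_hyper_le {J : Subgroup G} (hJ : IsE81 J) :
    Nat.card {B : Subgroup G // B ≤ J ∧ Nat.card B = 27} ≤ 40 := by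
  let _ : CommGroup J := { (inferInstance : Group J) with
    mul_comm := fun a b => Subtype.ext (hJ.comm a a.2 b b.2) }
  refine le_trans (Nat.card_le_card_of_injective
    (fun B : {B : Subgroup G // B ≤ J ∧ Nat.card B = 27} =>
      (⟨B.1.subgroupOf J, by
        rw [Nat.card_congr (subgroupOfEquivOfLe B.2.1).toEquiv, B.2.2]⟩ :
        {B : Subgroup J // Nat.card B = 27})) ?_) (Hyper.card_le (J := J) hJ.card)
  intro B C h
  have h1 : B.1.subgroupOf J = C.1.subgroupOf J := congrArg Subtype.val h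
  apply Subtype.ext
  have h2 := congrArg (Subgroup.map J.subtype) h1
  rw [subgroupOf_map_subtype, subgroupOf_map_subtype, inf_eq_left.2 B.2.1, inf_eq_left.2 C.2.1] at h2
  exact h2

end Cfsg.Agent.H846
end

-- part: H846/Core3
section
/-!
# 3-local recognition of `McL`: `J` normalises no nontrivial `3'`-subgroup (helper846)
-/

set_option autoImplicit false

namespace Cfsg.Agent.H846

open Subgroup

variable {G : Type*} [Group G] [Finite G] {J M : Subgroup G} {π : M →* ASix.A6}

/-- 3-subgroups of `M` lie in subgroups of order `3^6` containing `J` -/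
theorem JDat.exists_T_of (D : JDat J M π) {P : Subgroup G} (hP : IsPGroup 3 P) (hPM : P ≤ M) :
    ∃ T : Subgroup G, Nat.card T = 3 ^ 6 ∧ J ≤ T ∧ P ≤ T ∧ T ≤ M := by
  have := Fact.mk Nat.prime_three
  have hp : IsPGroup 3 (J.subgroupOf M) := D.e81.isPGroup.of_equiv (subgroupOfEquivOfLe D.JM).symm
  have hP' : IsPGroup 3 (P.subgroupOf M) := hP.of_equiv (subgroupOfEquivOfLe hPM).symm
  have := normal_J D
  obtain ⟨R, hR⟩ := (hP'.to_sup_of_normal_right hp).exists_le_sylow
  refine ⟨(R : Subgroup M).map M.subtype, ?_, ?_, ?_, ?_⟩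
  · rw [Subgroup.card_map_of_injective M.subtype_injective]
    have hM := D.card_M
    obtain ⟨k, hk⟩ := (IsPGroup.iff_card (p := 3)).1 R.isPGroup'
    have h1 : 3 ^ 6 ∣ Nat.card R := R.pow_dvd_card_of_pow_dvd_card (by rw [hM]; exact dvd_mul_right _ _)
    have h2 : Nat.card R ∣ 3 ^ 6 * 40 := by rw [← hM]; exact card_subgroup_dvd_card _
    have hk' : Nat.card (R : Subgroup M) = 3 ^ k := hk
    rw [hk] at h1 h2
    rw [hk']
    have h3 : 6 ≤ k := (Nat.pow_dvd_pow_iff_le_right (by norm_num)).1 h1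
    have h4 : k ≤ 6 := by
      by_contra hcon
      have : (3 : ℕ) ^ 7 ∣ 3 ^ 6 * 40 := (pow_dvd_pow 3 (by omega : 7 ≤ k)).trans h2
      revert this
      norm_num
    rw [le_antisymm h4 h3]
  · intro j hj
    exact ⟨⟨j, D.JM hj⟩, hR (le_sup_right (a := P.subgroupOf M) (mem_subgroupOf.2 hj)), rfl⟩
  · intro j hj
    exact ⟨⟨j, hPM hj⟩, hR (le_sup_left (a := P.subgroupOf M) (mem_subgroupOf.2 hj)), rfl⟩
  · rintro x ⟨y, -, rfl⟩
    exact y.2

/-- commutators of a subgroup of order `3^6` between `J` and `M` are in `J` -/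
theorem JDat.comm_T (D : JDat J M π) {T : Subgroup G} (hT : Nat.card T = 3 ^ 6) (hJT : J ≤ T) (hTM : T ≤ M)
    {a b : G} (ha : a ∈ T) (hb : b ∈ T) : a * b * a⁻¹ * b⁻¹ ∈ J := by
  have := Fact.mk Nat.prime_three
  have hn : (J.subgroupOf T).Normal := by
    constructor
    intro j hj m
    rw [mem_subgroupOf] at hj ⊢
    exact D.conj_mem (hTM m.2) hj
  have h1 := Subgroup.card_eq_card_quotient_mul_card_subgroup (J.subgroupOf T)
  rw [Nat.card_congr (subgroupOfEquivOfLe hJT).toEquiv, D.e81.card, hT] at h1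
  have h9 : Nat.card (T ⧸ J.subgroupOf T) = 3 ^ 2 := by omega
  have hcomm := IsPGroup.commutative_of_card_eq_prime_sq h9
  have h2 : ((⟨a, ha⟩ * ⟨b, hb⟩ * (⟨a, ha⟩ : T)⁻¹ * (⟨b, hb⟩ : T)⁻¹ : T) : T ⧸ J.subgroupOf T) = 1 := by
    rw [QuotientGroup.mk_mul, QuotientGroup.mk_mul, QuotientGroup.mk_mul, QuotientGroup.mk_inv,
      QuotientGroup.mk_inv]
    rw [hcomm ((⟨a, ha⟩ : T) : T ⧸ J.subgroupOf T) _]
    group
  rw [QuotientGroup.eq_one_iff, mem_subgroupOf] at h2
  exact h2

theorem odd_exp {x : G} {k : ℕ} (h : x ^ 3 ^ k = 1) : ∃ n, x ^ (2 * n + 1) = 1 := by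
  obtain ⟨n, hn⟩ := (Odd.pow (by decide : Odd 3) : Odd (3 ^ k))
  exact ⟨n, by rw [← hn, h]⟩

/-- every hyperplane of `J` contains the centre of a Sylow 3-subgroup of `M` -/
theorem JDat.exists_center_le (D : JDat J M π) {S Z Q : Subgroup G} (L : Loc S Z Q)
    (hn : ¬ 3 ^ 7 ∣ Nat.card G) {A : Subgroup G} (hAJ : A ≤ J) (hA : Nat.card A = 27) :
    ∃ g : G, J ≤ cj g S ∧ cj g S ≤ M ∧ cj g Z ≤ A := by
  have h3F := Fact.mk Nat.prime_three
  by_contra hcon
  push Not at hcon
  -- 3-elements of `M` normalising `A` lie in `J`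
  have claim3 : ∀ x ∈ M, (∀ a ∈ A, x * a * x⁻¹ ∈ A) → ∀ k : ℕ, x ^ 3 ^ k = 1 → x ∈ J := by
    intro x hxM hxA k hxk
    by_contra hxJ
    have hP : IsPGroup 3 (zpowers x) := by
      obtain ⟨m, hm, hox⟩ := (Nat.dvd_prime_pow Nat.prime_three).1 (orderOf_dvd_of_pow_eq_one hxk)
      exact IsPGroup.of_card (n := m) (by rw [Nat.card_zpowers, hox])
    obtain ⟨T, hT, hJT, hPT, hTM⟩ := D.exists_T_of hP (by rwa [zpowers_le])
    obtain ⟨g, rfl⟩ := conj_of_card hn L.cardS hT
    have L' := L.cj g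
    have hxT : x ∈ cj g S := hPT (mem_zpowers x)
    obtain ⟨n, hxn⟩ := odd_exp hxk
    have hq := trivial_on_quot D.e81 hAJ hA (fun j hj => D.conj_mem hxM hj) hxA hxn
    let Dx : Subgroup G :=
      { carrier := {y | ∃ j ∈ J, y = x * j * x⁻¹ * j⁻¹}
        one_mem' := ⟨1, one_mem _, by group⟩
        mul_mem' := by
          rintro a b ⟨j, hj, rfl⟩ ⟨k, hk, rfl⟩
          refine ⟨j * k, mul_mem hj hk, ?_⟩
          have h1 := D.conj_mem hxM hk
          have h2 := D.e81.comm _ (inv_mem hj) _ (mul_mem h1 (inv_mem hk))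
          calc x * j * x⁻¹ * j⁻¹ * (x * k * x⁻¹ * k⁻¹)
              = x * j * x⁻¹ * (j⁻¹ * (x * k * x⁻¹ * k⁻¹)) := by group
            _ = x * j * x⁻¹ * ((x * k * x⁻¹ * k⁻¹) * j⁻¹) := by rw [h2]
            _ = x * (j * k) * x⁻¹ * (j * k)⁻¹ := by group
        inv_mem' := by
          rintro a ⟨j, hj, rfl⟩
          refine ⟨j⁻¹, inv_mem hj, ?_⟩
          have h1 := D.conj_mem hxM (inv_mem hj)
          have h2 := D.e81.comm _ hj _ h1
          calc (x * j * x⁻¹ * j⁻¹)⁻¹ = j * (x * j⁻¹ * x⁻¹) := by group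
            _ = (x * j⁻¹ * x⁻¹) * j := by rw [h2]
            _ = x * j⁻¹ * x⁻¹ * j⁻¹⁻¹ := by group }
    have hDx : ∀ y, y ∈ Dx ↔ ∃ j ∈ J, y = x * j * x⁻¹ * j⁻¹ := fun y => Iff.rfl
    have hDA : Dx ≤ A := by
      rintro y ⟨j, hj, rfl⟩
      exact hq j hj
    have hDp : IsPGroup 3 Dx := D.e81.isPGroup.to_le (hDA.trans hAJ)
    have hD1 : Dx ≠ ⊥ := by
      intro h
      apply hxJ
      apply D.cent_M L hn hxM
      intro j hj
      have : x * j * x⁻¹ * j⁻¹ ∈ Dx := ⟨j, hj, rfl⟩
      rw [h, mem_bot, mul_inv_eq_one, mul_inv_eq_iff_eq_mul] at this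
      exact this
    have hTp : IsPGroup 3 (cj g S) := IsPGroup.of_card L'.cardS
    obtain ⟨w, hwD, hw1, hwT⟩ := Cfsg.Agent.Characters.CNBasic.exists_mem_center_of_normal (cj g S) hTp Dx
      hDp hD1 (by
        rintro t ht y ⟨j, hj, rfl⟩
        have hj' := D.conj_mem (hTM ht) hj
        refine ⟨t * j * t⁻¹, hj', ?_⟩
        -- `t x t⁻¹ = u x`, `u ∈ J`
        have hu : t * x * t⁻¹ * x⁻¹ ∈ J := D.comm_T hT hJT hTM ht hxT
        have hv : x * (t * j * t⁻¹) * x⁻¹ ∈ J := D.conj_mem hxM hj'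
        have hc := D.e81.comm _ hu _ hv
        have e1 : t * (x * j * x⁻¹ * j⁻¹) * t⁻¹ =
          (t * x * t⁻¹ * x⁻¹) * (x * (t * j * t⁻¹) * x⁻¹) * (t * x * t⁻¹ * x⁻¹)⁻¹ * (t * j * t⁻¹)⁻¹ := by
          group
        rw [e1, hc]; group)
    have hwZ : w ∈ cj g Z := (L'.memZ w).2 ⟨(hDA.trans hAJ).trans hJT hwD, fun y hy => (hwT y hy).symm⟩
    have hZ : zpowers w = cj g Z := by
      apply Subgroup.eq_of_le_of_card_ge ((zpowers_le (H := cj g Z)).2 hwZ)
      rw [L'.cardZ]
      have h1 : Nat.card (zpowers w) ∣ 3 := by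
        rw [← L'.cardZ]; exact card_dvd_of_le ((zpowers_le (H := cj g Z)).2 hwZ)
      rcases (Nat.dvd_prime Nat.prime_three).1 h1 with h | h
      · exfalso
        apply hw1
        rw [Subgroup.card_eq_one, zpowers_eq_bot] at h
        exact h
      · exact h.ge
    apply hcon g hJT hTM
    rw [← hZ, zpowers_le]
    exact hDA hwD
  -- elements of order 5 of `M` do not normalise `A`
  have claim5 : ∀ x ∈ M, (∀ a ∈ A, x * a * x⁻¹ ∈ A) → x ^ 5 = 1 → x = 1 := by
    intro x hxM hxA hx5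
    by_contra hx1
    have h1 := five_trivial hx5 (k := 3) le_rfl (by rw [hA]; norm_num) hxA
    obtain ⟨a, ha, ha1⟩ : ∃ a ∈ A, a ≠ 1 := by
      have : A ≠ ⊥ := by
        rintro rfl
        rw [Subgroup.card_bot] at hA
        omega
      by_contra hno
      push Not at hno
      exact this ((Subgroup.eq_bot_iff_forall A).2 hno)
    exact ha1 (D.five_fix L hn hxM hx5 hx1 (hAJ ha) (h1 a ha))
  -- the count
  let N : Subgroup M := (normalizer (A : Set G)).subgroupOf M
  have hNmem : ∀ x : M, x ∈ N → ∀ a ∈ A, (x : G) * a * (x : G)⁻¹ ∈ A := by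
    intro x hx a ha
    rw [mem_subgroupOf] at hx
    exact (mem_normalizer_iff.1 hx a).1 ha
  have hM := D.card_M
  have hN5 : ¬ 5 ∣ Nat.card N := by
    intro h
    have := Fact.mk (by norm_num : Nat.Prime 5)
    obtain ⟨x, hx⟩ := exists_prime_orderOf_dvd_card' 5 h
    have hx5 : ((x : M) : G) ^ 5 = 1 := by
      have : x ^ 5 = 1 := by rw [← hx]; exact pow_orderOf_eq_one x
      exact congrArg (fun y : N => ((y : M) : G)) this
    have := claim5 ((x : M) : G) (x : M).2 (hNmem x x.2) hx5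
    have : x = 1 := Subtype.ext (Subtype.ext this)
    rw [this, orderOf_one] at hx
    omega
  have hN3 : ¬ 3 ^ 5 ∣ Nat.card N := by
    intro h
    let P : Sylow 3 N := default
    have hPJ : ((P : Subgroup N).map N.subtype).map M.subtype ≤ J := by
      rintro y ⟨x, ⟨x', hx', rfl⟩, rfl⟩
      obtain ⟨k, hk⟩ := P.isPGroup' ⟨x', hx'⟩
      refine claim3 _ (x' : M).2 (hNmem x' x'.2) k ?_
      have := congrArg (fun y : P => (((y : N) : M) : G)) hk
      simpa only [_root_.Subgroup.subtype_apply, _root_.SubmonoidClass.mk_pow, _root_.SubmonoidClass.coe_pow, _root_.OneMemClass.coe_one] using this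
    have h1 : 3 ^ 5 ∣ Nat.card P := P.pow_dvd_card_of_pow_dvd_card h
    have h2 := card_dvd_of_le hPJ
    rw [Subgroup.card_map_of_injective M.subtype_injective,
      Subgroup.card_map_of_injective N.subtype_injective, D.e81.card] at h2
    have h3 := Nat.le_of_dvd (by norm_num) (h1.trans h2)
    norm_num at h3
  have hNdvd : Nat.card N ∣ 81 * 8 := by
    have h1 : Nat.card N ∣ 3 ^ 6 * 40 := by rw [← hM]; exact card_subgroup_dvd_card N
    have hc5 : Nat.Coprime (Nat.card N) 5 :=
      ((Nat.Prime.coprime_iff_not_dvd (by norm_num)).2 hN5).symm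
    have h2 : Nat.card N ∣ 3 ^ 6 * 8 := by
      have : 3 ^ 6 * 40 = 3 ^ 6 * 8 * 5 := by norm_num
      rw [this] at h1
      exact hc5.dvd_of_dvd_mul_right h1
    obtain ⟨⟨a, ha⟩, ⟨b, hb⟩, hab⟩ : ∃ a : {a // a ∣ 3 ^ 6}, ∃ b : {b // b ∣ 8}, a.1 * b.1 = Nat.card N := by
      obtain ⟨a, b, ha, hb, hab⟩ := (Nat.dvd_mul).1 h2
      exact ⟨⟨a, ha⟩, ⟨b, hb⟩, hab⟩
    obtain ⟨i, hi, rfl⟩ := (Nat.dvd_prime_pow Nat.prime_three).1 ha
    have hi4 : i ≤ 4 := by
      by_contra hcon
      apply hN3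
      rw [← hab]
      exact (pow_dvd_pow 3 (by omega : 5 ≤ i)).trans (dvd_mul_right _ _)
    rw [← hab]
    exact Nat.mul_dvd_mul (by
      have := pow_dvd_pow 3 hi4
      simpa only [_root_.Nat.reducePow] using this) hb
  have hindex : N.index ≤ 40 := by
    rw [Subgroup.index]
    refine le_trans (Nat.card_le_card_of_injective
      (fun q : M ⧸ N => Quotient.liftOn' q
        (fun m : M => (⟨cj (m : G) A, by
          constructor
          · rintro y ⟨a, ha, rfl⟩
            exact D.conj_mem m.2 (hAJ ha)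
          · rw [card_cj, hA]⟩ : {B : Subgroup G // B ≤ J ∧ Nat.card B = 27})) ?_) ?_) (card_hyper_le D.e81)
    · intro a b hab
      rw [QuotientGroup.leftRel_apply] at hab
      apply Subtype.ext
      change cj (a : G) A = cj (b : G) A
      have h1 := hNmem _ hab
      apply (Subgroup.eq_of_le_of_card_ge _ _).symm
      · intro y hy
        rw [mem_cj] at hy ⊢
        have := h1 _ hy
        simp only [Subgroup.coe_mul, Subgroup.coe_inv] at this
        have e : (a : G)⁻¹ * b * ((b : G)⁻¹ * y * b) * ((a : G)⁻¹ * b)⁻¹ = (a : G)⁻¹ * y * a := by group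
        rwa [e] at this
      · rw [card_cj, card_cj]
    · intro q r
      refine Quotient.inductionOn₂' q r ?_
      intro a b h
      have h1 : cj (a : G) A = cj (b : G) A := congrArg Subtype.val h
      apply Quotient.sound'
      rw [QuotientGroup.leftRel_apply, mem_subgroupOf, mem_normalizer_iff]
      intro y
      constructor
      · intro hy
        have h2 : (b : G) * y * (b : G)⁻¹ ∈ cj (b : G) A := mem_cj_of hy
        rw [← h1, mem_cj] at h2
        simp only [Subgroup.coe_mul, Subgroup.coe_inv]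
        have e : (a : G)⁻¹ * b * y * ((a : G)⁻¹ * b)⁻¹ = (a : G)⁻¹ * (b * y * (b : G)⁻¹) * a := by group
        rwa [e]
      · intro hy
        simp only [Subgroup.coe_mul, Subgroup.coe_inv] at hy
        have h2 := mem_cj_of (g := (a : G)) hy
        rw [h1, mem_cj] at h2
        have e : (b : G)⁻¹ * (a * ((a : G)⁻¹ * b * y * ((a : G)⁻¹ * b)⁻¹) * (a : G)⁻¹) * b = y := by group
        rwa [e] at h2
  have h1 := Subgroup.card_mul_index N
  rw [hM] at h1
  have h2 : Nat.card N ≤ 81 * 8 := Nat.le_of_dvd (by norm_num) hNdvd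
  have h3 : Nat.card N * N.index ≤ (81 * 8) * 40 := Nat.mul_le_mul h2 hindex
  rw [h1] at h3
  norm_num at h3

end Cfsg.Agent.H846
end

-- part: H846/Core4
section
/-!
# 3-local recognition of `McL`: `J` normalises no nontrivial `3'`-subgroup (helper846)
-/

set_option autoImplicit false

namespace Cfsg.Agent.H846

open Subgroup

variable {G : Type*} [Group G] [Finite G] {J M : Subgroup G} {π : M →* ASix.A6}

omit [Finite G] in
theorem relIndex_mul_card' (H K : Subgroup G) (h : H ≤ K) : H.relIndex K * Nat.card H = Nat.card K := by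
  have h1 := Subgroup.card_mul_index (H.subgroupOf K)
  rw [Nat.card_congr (subgroupOfEquivOfLe h).toEquiv] at h1
  rw [Subgroup.relIndex, mul_comm]
  exact h1

omit [Finite G] in
theorem eq_one_of_coprime {p : ℕ} (hp : p.Prime) {x : G} {k : ℕ} (hx : x ^ p ^ k = 1) {U : Subgroup G} [Finite U]
    (hU : ¬ p ∣ Nat.card U) (hxU : x ∈ U) : x = 1 := by
  have h1 : orderOf x ∣ p ^ k := orderOf_dvd_of_pow_eq_one hx
  have h2 : orderOf x ∣ Nat.card U := by
    have := _root_.orderOf_dvd_natCard (⟨x, hxU⟩ : U)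
    rwa [Subgroup.orderOf_mk] at this
  rw [← orderOf_eq_one_iff]
  have hc : Nat.Coprime (p ^ k) (Nat.card U) := Nat.Coprime.pow_left _ ((Nat.Prime.coprime_iff_not_dvd hp).2 hU)
  exact Nat.eq_one_of_dvd_coprimes hc h1 h2

omit [Finite G] in
/-- `W ≤ Q` abelian of order 27 is its own centraliser in `Q` -/
theorem Loc.self_cent {S Z Q : Subgroup G} (L : Loc S Z Q) {W : Subgroup G} (hWQ : W ≤ Q)
    (hW : ∀ x ∈ W, ∀ y ∈ W, x * y = y * x) (hc : Nat.card W = 27) {q : G} (hq : q ∈ Q)
    (hqW : ∀ w ∈ W, q * w = w * q) : q ∈ W := by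
  have hQf : Finite Q := Nat.finite_of_card_ne_zero (by rw [L.cardQ]; norm_num)
  let V : Subgroup G := _root_.Subgroup.closure ((W : Set G) ∪ {q})
  have hVQ : V ≤ Q := by
    rw [closure_le]
    rintro x (hx | hx)
    · exact hWQ hx
    · rw [Set.mem_singleton_iff] at hx; rw [hx]; exact hq
  have hVc : ∀ x ∈ V, ∀ y ∈ V, x * y = y * x := by
    intro x hx y hy
    have := Subgroup.closure_induction₂ (p := fun x y _ _ => x * y = y * x) (k := (W : Set G) ∪ {q})
      (fun x y hx hy => by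
        rcases hx with hx | hx <;> rcases hy with hy | hy
        · exact hW x hx y hy
        · rw [Set.mem_singleton_iff] at hy; rw [hy]; exact (hqW x hx).symm
        · rw [Set.mem_singleton_iff] at hx; rw [hx]; exact hqW y hy
        · rw [Set.mem_singleton_iff] at hx hy; rw [hx, hy])
      (fun x _ => by simp) (fun x _ => by simp)
      (fun x y z _ _ _ h1 h2 => by rw [mul_assoc, h2, ← mul_assoc, h1, mul_assoc])
      (fun x y z _ _ _ h1 h2 => by rw [← mul_assoc, h1, mul_assoc, h2, mul_assoc])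
      (fun x y _ _ h => (Commute.inv_left (show Commute x y from h)).eq)
      (fun x y _ _ h => (Commute.inv_right (show Commute x y from h)).eq) hx hy
    exact this
  have hWV : W ≤ V := fun x hx => _root_.Subgroup.subset_closure (Or.inl hx)
  have hVf : Finite V := Finite.of_injective (Subgroup.inclusion hVQ) (Subgroup.inclusion_injective hVQ)
  have h1 := L.abQ V hVQ hVc
  have h2 : W = V := Subgroup.eq_of_le_of_card_ge hWV (by rw [hc]; exact h1)
  rw [h2]
  exact _root_.Subgroup.subset_closure (Or.inr rfl)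

omit [Finite G] in
/-- an element of order prime to 3 centralising `Z` and an abelian subgroup of order 27 of `Q` lies in `Q` -/
theorem Loc.mem_Q {S Z Q : Subgroup G} (L : Loc S Z Q) {W : Subgroup G} (hWQ : W ≤ Q)
    (hW : ∀ x ∈ W, ∀ y ∈ W, x * y = y * x) (hc : Nat.card W = 27) {x : G} (hx3 : ¬ 3 ∣ orderOf x)
    (hxZ : ∀ z ∈ Z, x * z = z * x) (hxW : ∀ w ∈ W, x * w = w * x) : x ∈ Q := by
  have hnor : ∀ q ∈ Q, x * q * x⁻¹ ∈ Q := L.nor x (fun z hz => by
    rw [hxZ z hz, mul_assoc, mul_inv_cancel, mul_one]; exact hz)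
  have hδ : ∀ q ∈ Q, q⁻¹ * (x * q * x⁻¹) ∈ W := by
    intro q hq
    apply L.self_cent hWQ hW hc (mul_mem (inv_mem hq) (hnor q hq))
    intro w hw
    have hzz := L.commQ q hq w (hWQ hw)
    have h1 : x * (q * w * q⁻¹ * w⁻¹) * x⁻¹ = q * w * q⁻¹ * w⁻¹ := by
      rw [hxZ _ hzz, mul_assoc, mul_inv_cancel, mul_one]
    have h2 : x * w * x⁻¹ = w := by rw [hxW w hw, mul_assoc, mul_inv_cancel, mul_one]
    have h3 : (x * q * x⁻¹) * w * (x * q * x⁻¹)⁻¹ * w⁻¹ = q * w * q⁻¹ * w⁻¹ := by
      calc (x * q * x⁻¹) * w * (x * q * x⁻¹)⁻¹ * w⁻¹ = (x * q * x⁻¹) * (x * w * x⁻¹) * (x * q * x⁻¹)⁻¹ * (x * w * x⁻¹)⁻¹ := by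
            rw [h2]
        _ = x * (q * w * q⁻¹ * w⁻¹) * x⁻¹ := by group
        _ = _ := h1
    have h4 : (x * q * x⁻¹) * w * (x * q * x⁻¹)⁻¹ = q * w * q⁻¹ := mul_right_cancel h3
    rw [mul_inv_eq_iff_eq_mul] at h4
    calc q⁻¹ * (x * q * x⁻¹) * w = q⁻¹ * ((x * q * x⁻¹) * w) := by group
      _ = q⁻¹ * (q * w * q⁻¹ * (x * q * x⁻¹)) := by rw [h4]
      _ = w * (q⁻¹ * (x * q * x⁻¹)) := by group
  apply L.cenQ
  intro q hq
  have hd := hδ q hq
  set d := q⁻¹ * (x * q * x⁻¹) with hdd
  have hstep : x * q * x⁻¹ = q * d := by rw [hdd]; group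
  have hxd : x * d * x⁻¹ = d := by rw [hxW d hd, mul_assoc, mul_inv_cancel, mul_one]
  have hpow : ∀ n : ℕ, x ^ n * q * (x ^ n)⁻¹ = q * d ^ n := by
    intro n
    induction n with
    | zero => simp
    | succ n ih =>
      have hxdn : x * d ^ n * x⁻¹ = d ^ n := by
        have := conj_pow (i := n) (a := x) (b := d)
        rw [← this, hxd]
      rw [pow_succ' x]
      calc x * x ^ n * q * (x * x ^ n)⁻¹ = x * (x ^ n * q * (x ^ n)⁻¹) * x⁻¹ := by group
        _ = x * (q * d ^ n) * x⁻¹ := by rw [ih]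
        _ = (x * q * x⁻¹) * (x * d ^ n * x⁻¹) := by group
        _ = q * d * d ^ n := by rw [hstep, hxdn]
        _ = q * d ^ (n + 1) := by rw [pow_succ' d, mul_assoc]
  have h1 := hpow (orderOf x)
  rw [pow_orderOf_eq_one, one_mul, inv_one, mul_one] at h1
  have h2 : d ^ orderOf x = 1 := by
    have := mul_left_cancel (a := q) (b := 1) (c := d ^ orderOf x) (by rw [mul_one]; exact h1)
    exact this.symm
  have hd3 : orderOf d ∣ 3 ^ 5 := by
    have := _root_.orderOf_dvd_natCard (⟨d, hWQ hd⟩ : Q)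
    rwa [Subgroup.orderOf_mk, L.cardQ] at this
  have hd1 : d = 1 := by
    rw [← orderOf_eq_one_iff]
    have hc : Nat.Coprime (3 ^ 5) (orderOf x) :=
      Nat.Coprime.pow_left _ ((Nat.Prime.coprime_iff_not_dvd Nat.prime_three).2 hx3)
    exact Nat.eq_one_of_dvd_coprimes hc hd3 (orderOf_dvd_of_pow_eq_one h2)
  rw [hd1, mul_one, mul_inv_eq_iff_eq_mul] at hstep
  exact hstep

/-- `|J ∩ Q| = 27` -/
theorem Loc.card_inf {S Z Q : Subgroup G} (L : Loc S Z Q) {A : Subgroup G} (hA : IsE81 A) (hAS : A ≤ S) :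
    Nat.card (A ⊓ Q : Subgroup G) = 27 := by
  have h1 : Nat.card (A ⊓ Q : Subgroup G) ≤ 27 :=
    L.abQ _ inf_le_right (fun x hx y hy => hA.comm x (mem_inf.1 hx).1 y (mem_inf.1 hy).1)
  obtain ⟨k, hk, hc⟩ := card_pow_of_le (n := 4) Nat.prime_three
    (inf_le_left : (A ⊓ Q : Subgroup G) ≤ A) (by rw [hA.card]; norm_num)
  have hqn : ∀ s ∈ S, ∀ q ∈ Q, s * q * s⁻¹ ∈ Q := fun s hs => L.nor s (fun z hz => by
    rw [← L.comm_S hz hs, mul_assoc, mul_inv_cancel, mul_one]; exact hz)
  -- index of `Q` in `S` is 3, so `A ∩ Q` has index at most 3 in `A`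
  have h2 : (Q.relIndex S) = 3 := by
    have := relIndex_mul_card' Q S L.QS
    rw [L.cardQ, L.cardS] at this
    omega
  have h3 : Q.relIndex A ≤ 3 := by
    rw [← h2]
    apply Subgroup.relIndex_le_of_le_right hAS
    rw [h2]; norm_num
  have h4 : (A ⊓ Q).relIndex A = Q.relIndex A := Subgroup.inf_relIndex_left _ _
  have h5 := relIndex_mul_card' (A ⊓ Q) A inf_le_left
  rw [h4, hA.card, hc] at h5
  rw [hc] at h1 ⊢
  have h6 : 81 ≤ 3 * 3 ^ k := by
    rw [← h5]; exact Nat.mul_le_mul_right _ h3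
  have h7 : k = 3 := by
    interval_cases k <;> omega
  rw [h7]
  norm_num

/-- 3'-subgroups normalised by `A` and centralised by `Z` are trivial -/
theorem Loc.p_prime {S Z Q : Subgroup G} (L : Loc S Z Q) {A : Subgroup G} (hA : IsE81 A) (hAS : A ≤ S)
    {U : Subgroup G} (hU : ¬ 3 ∣ Nat.card U) (hAU : ∀ a ∈ A, ∀ u ∈ U, a * u * a⁻¹ ∈ U) {x : G} (hxU : x ∈ U)
    (hxZ : ∀ z ∈ Z, x * z = z * x) : x = 1 := by
  have hnor : ∀ q ∈ Q, x * q * x⁻¹ ∈ Q := L.nor x (fun z hz => by
    rw [hxZ z hz, mul_assoc, mul_inv_cancel, mul_one]; exact hz)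
  have hQ1 : ∀ y ∈ Q, y ∈ U → y = 1 := by
    intro y hy hyU
    refine eq_one_of_coprime Nat.prime_three (k := 5) ?_ hU hyU
    have := pow_card_eq_one' (x := (⟨y, hy⟩ : Q))
    rw [L.cardQ] at this
    exact congrArg Subtype.val this
  have hxW : ∀ w ∈ A ⊓ Q, x * w = w * x := by
    intro w hw
    obtain ⟨hwA, hwQ⟩ := mem_inf.1 hw
    have h1 : x * w * x⁻¹ * w⁻¹ = 1 := by
      apply hQ1
      · exact mul_mem (hnor w hwQ) (inv_mem hwQ)
      · have h2 := hAU w hwA x⁻¹ (inv_mem hxU)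
        have e : x * w * x⁻¹ * w⁻¹ = x * (w * x⁻¹ * w⁻¹) := by group
        rw [e]
        exact mul_mem hxU h2
    rw [mul_inv_eq_one, mul_inv_eq_iff_eq_mul] at h1
    exact h1
  apply hQ1 x _ hxU
  refine L.mem_Q (W := A ⊓ Q) inf_le_right
    (fun x hx y hy => hA.comm x (mem_inf.1 hx).1 y (mem_inf.1 hy).1) (L.card_inf hA hAS) ?_ hxZ hxW
  intro h3
  apply hU
  have : orderOf x ∣ Nat.card U := by
    have := _root_.orderOf_dvd_natCard (⟨x, hxU⟩ : U)
    rwa [Subgroup.orderOf_mk] at this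
  exact h3.trans this

/-- **(P)**: `J` normalises no nontrivial 3'-subgroup -/
theorem JDat.no_prime (D : JDat J M π) {S Z Q : Subgroup G} (L : Loc S Z Q)
    (hn : ¬ 3 ^ 7 ∣ Nat.card G) {U : Subgroup G} (hU : ¬ 3 ∣ Nat.card U)
    (hJU : ∀ j ∈ J, ∀ u ∈ U, j * u * j⁻¹ ∈ U) : U = ⊥ := by
  have := Fact.mk Nat.prime_three
  have hEA : Cfsg.IsElementaryAbelian 3 J :=
    ⟨⟨⟨fun a b => Subtype.ext (D.e81.comm a a.2 b b.2)⟩⟩, D.e81.cube⟩
  have hJ1 : J ≠ ⊥ := by
    rintro rfl
    have := D.e81.card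
    rw [Subgroup.card_bot] at this
    omega
  have hJN : J ≤ normalizer (U : Set G) := by
    intro j hj
    rw [mem_normalizer_iff]
    intro u
    constructor
    · exact hJU j hj u
    · intro h
      have := hJU j⁻¹ (inv_mem hj) _ h
      have e : j⁻¹ * (j * u * j⁻¹) * j⁻¹⁻¹ = u := by group
      rwa [e] at this
  rw [← Lib.CoprimeHyperplane.iSup_centralizer_hyperplane hEA hJ1 hU hJN]
  rw [eq_bot_iff]
  refine iSup_le ?_
  rintro ⟨B, hBJ, hB⟩
  intro x hx
  obtain ⟨hxU, hxB⟩ := mem_inf.1 hx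
  have hB27 : Nat.card B = 27 := by
    have := relIndex_mul_card' B J hBJ
    rw [hB, D.e81.card] at this
    omega
  obtain ⟨g, hJg, hgM, hZB⟩ := D.exists_center_le L hn hBJ hB27
  rw [mem_bot]
  refine (L.cj g).p_prime D.e81 hJg hU hJU hxU ?_
  intro z hz
  rw [mem_centralizer_iff] at hxB
  exact (hxB z (hZB hz)).symm

end Cfsg.Agent.H846
end

-- part: H846/Core5
section
/-!
# 3-local recognition of `McL`: `C(J) = J`, uniqueness of `J` (helper846)
-/

set_option autoImplicit false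

namespace Cfsg.Agent.H846

open Subgroup

variable {G : Type*} [Group G] [Finite G] {J M : Subgroup G} {π : M →* ASix.A6}

/-- `C_G(J) = J` -/
theorem JDat.cent (D : JDat J M π) {S Z Q : Subgroup G} (L : Loc S Z Q)
    (hn : ¬ 3 ^ 7 ∣ Nat.card G) {x : G} (hx : ∀ j ∈ J, x * j = j * x) : x ∈ J := by
  have := Fact.mk Nat.prime_three
  let C : Subgroup G := centralizer (J : Set G)
  have hCmem : ∀ y, y ∈ C ↔ ∀ j ∈ J, y * j = j * y := by
    intro y
    rw [mem_centralizer_iff]
    exact ⟨fun h j hj => (h j hj).symm, fun h j hj => (h j hj).symm⟩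
  have hJC : J ≤ C := fun j hj => (hCmem j).2 fun k hk => D.e81.comm j hj k hk
  -- 3-elements of `C` lie in `J`
  have h3 : ∀ y ∈ C, (∃ k : ℕ, y ^ 3 ^ k = 1) → y ∈ J := by
    intro y hy hk
    have hyc := (hCmem y).1 hy
    have hyM : y ∈ M := D.three y (fun j hj => by
      rw [hyc j hj, mul_assoc, mul_inv_cancel, mul_one]; exact hj) hk
    exact D.cent_M L hn hyM hyc
  let N : Subgroup C := J.subgroupOf C
  have hNn : N.Normal := by
    constructor
    intro j hj c
    rw [mem_subgroupOf] at hj ⊢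
    have := (hCmem _).1 c.2 _ hj
    simp only [Subgroup.coe_mul, Subgroup.coe_inv]
    rw [this, mul_assoc, mul_inv_cancel, mul_one]
    exact hj
  have hNc : Nat.card N = 3 ^ 4 := by
    rw [Nat.card_congr (subgroupOfEquivOfLe hJC).toEquiv, D.e81.card]; norm_num
  have hNp : IsPGroup 3 N := IsPGroup.of_card hNc
  have hNS : ∃ P : Sylow 3 C, (P : Subgroup C) = N := by
    obtain ⟨P, hP⟩ := hNp.exists_le_sylow
    refine ⟨P, le_antisymm ?_ hP⟩
    intro y hy
    rw [mem_subgroupOf]
    obtain ⟨k, hk⟩ := P.isPGroup' ⟨y, hy⟩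
    exact h3 y y.2 ⟨k, congrArg (fun z : P => ((z : C) : G)) hk⟩
  obtain ⟨P, hP⟩ := hNS
  have hidx : ¬ 3 ∣ N.index := by
    rw [← hP]
    exact P.not_dvd_index
  have hcop : Nat.Coprime (Nat.card N) N.index := by
    rw [hNc]
    exact Nat.Coprime.pow_left _ ((Nat.Prime.coprime_iff_not_dvd Nat.prime_three).2 hidx)
  obtain ⟨H, hH⟩ := Subgroup.exists_right_complement'_of_coprime hcop
  have hHc : Nat.card H = N.index := by
    have h1 := hH.card_mul
    have h2 := Subgroup.card_mul_index N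
    rw [← h2] at h1
    exact Nat.eq_of_mul_eq_mul_left Nat.card_pos h1
  have hU : ¬ 3 ∣ Nat.card (H.map C.subtype) := by
    rw [Subgroup.card_map_of_injective C.subtype_injective, hHc]
    exact hidx
  have hUb := D.no_prime L hn hU (by
    rintro j hj u ⟨u', hu', rfl⟩
    have h1 := (hCmem _).1 u'.2 j hj
    have h2 : j * (C.subtype u') * j⁻¹ = C.subtype u' := by
      rw [mul_inv_eq_iff_eq_mul]; exact h1.symm
    rw [h2]
    exact ⟨u', hu', rfl⟩)
  have hHb : H = ⊥ := by
    rw [eq_bot_iff]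
    intro y hy
    have : C.subtype y ∈ H.map C.subtype := ⟨y, hy, rfl⟩
    rw [hUb, mem_bot] at this
    rw [mem_bot]
    exact Subtype.ext this
  have hN1 : N.index = 1 := by rw [← hHc, hHb, Subgroup.card_bot]
  have hNt : N = ⊤ := Subgroup.index_eq_one.1 hN1
  have hxC : x ∈ C := (hCmem x).2 hx
  have : (⟨x, hxC⟩ : C) ∈ N := by rw [hNt]; exact mem_top _
  rwa [mem_subgroupOf] at this

/-- `J` is the only elementary abelian subgroup of order 81 of a Sylow 3-subgroup of `M` -/
theorem JDat.unique_T (D : JDat J M π) {S Z Q : Subgroup G} (L : Loc S Z Q)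
    (hn : ¬ 3 ^ 7 ∣ Nat.card G) {T : Subgroup G} (hT : Nat.card T = 3 ^ 6) (hJT : J ≤ T) (hTM : T ≤ M)
    {A : Subgroup G} (hA : IsE81 A) (hAT : A ≤ T) : A = J := by
  have h3F := Fact.mk Nat.prime_three
  by_contra hne
  have hAJ : ¬ A ≤ J := fun h => hne (Subgroup.eq_of_le_of_card_ge h (by rw [hA.card, D.e81.card]))
  obtain ⟨a, haA, haJ⟩ := Set.not_subset.1 hAJ
  have haA : a ∈ A := haA
  have haJ : a ∉ J := haJ
  set B : Subgroup G := A ⊓ J with hB
  have hBA : ∀ b ∈ B, ∀ y ∈ A, b * y = y * b := fun b hb y hy => hA.comm b (mem_inf.1 hb).1 y hy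
  have hBJ : ∀ b ∈ B, ∀ y ∈ J, b * y = y * b := fun b hb y hy => D.e81.comm b (mem_inf.1 hb).2 y hy
  obtain ⟨k, hk, hck⟩ := card_pow_of_le (n := 4) Nat.prime_three
    (inf_le_left : B ≤ A) (by rw [hA.card]; norm_num)
  have hJT9 : J.relIndex T = 9 := by
    have := relIndex_mul_card' J T hJT
    rw [D.e81.card, hT] at this
    omega
  have hrelA : J.relIndex A * Nat.card B = 81 := by
    have h4 : B.relIndex A = J.relIndex A := Subgroup.inf_relIndex_left _ _
    have h5 := relIndex_mul_card' B A inf_le_left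
    rw [h4, hA.card] at h5
    exact h5
  have hk3 : k ≤ 3 := by
    by_contra hcon
    have : k = 4 := by omega
    rw [this] at hck
    have h1 : B = A := Subgroup.eq_of_le_of_card_ge inf_le_left (by rw [hck, hA.card]; norm_num)
    apply hAJ
    rw [← h1]
    exact inf_le_right
  -- `|B| = 27`
  have hB27 : k = 3 := by
    by_contra hcon
    have hk2 : k ≤ 2 := by omega
    let C : Subgroup G := T ⊓ centralizer (B : Set G)
    have hJC : J ≤ C := le_inf hJT fun j hj => mem_centralizer_iff.2 fun b hb => hBJ b hb j hj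
    have hAC : A ≤ C := le_inf hAT fun j hj => mem_centralizer_iff.2 fun b hb => hBA b hb j hj
    obtain ⟨i, hi, hci⟩ := card_pow_of_le Nat.prime_three (inf_le_left : C ≤ T) hT
    have hi6 : i = 6 := by
      by_contra hi6
      have hi5 : i ≤ 5 := by omega
      have h1 := relIndex_mul_card' J C hJC
      rw [hci, D.e81.card] at h1
      have h2 : J.relIndex C ≤ 3 := by
        have : 3 ^ i ≤ 3 ^ 5 := Nat.pow_le_pow_right (by norm_num) hi5
        norm_num at this
        omega
      have h3 : J.relIndex A ≤ 3 := by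
        refine le_trans (Subgroup.relIndex_le_of_le_right hAC ?_) h2
        intro h0
        rw [h0] at h1
        have : 0 < 3 ^ i := by positivity
        omega
      rw [hck] at hrelA
      have h4 : (3 : ℕ) ^ k ≤ 3 ^ 2 := Nat.pow_le_pow_right (by norm_num) hk2
      have h5 : J.relIndex A * 3 ^ k ≤ 3 * 3 ^ 2 := Nat.mul_le_mul h3 h4
      rw [hrelA] at h5
      norm_num at h5
    have hCT : C = T := Subgroup.eq_of_le_of_card_ge inf_le_left (by rw [hci, hT, hi6])
    obtain ⟨g, rfl⟩ := conj_of_card hn L.cardS hT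
    have hBZ : B ≤ cj g Z := by
      intro b hb
      refine ((L.cj g).memZ b).2 ⟨hJT (mem_inf.1 hb).2, fun y hy => ?_⟩
      rw [← hCT] at hy
      exact mem_centralizer_iff.1 (mem_inf.1 hy).2 b hb
    have h1 := card_dvd_of_le hBZ
    rw [(L.cj g).cardZ] at h1
    -- `|B| ≥ 9`
    have h2 : J.relIndex A ≤ 9 := by
      rw [← hJT9]
      exact Subgroup.relIndex_le_of_le_right hAT (by rw [hJT9]; norm_num)
    have h3 : Nat.card B ≤ 3 := Nat.le_of_dvd (by norm_num) h1
    have h4 : J.relIndex A * Nat.card B ≤ 9 * 3 := Nat.mul_le_mul h2 h3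
    rw [hrelA] at h4
    norm_num at h4
  rw [hB27] at hck
  -- a partner
  have haM : a ∈ M := hTM (hAT haA)
  set x : ASix.A6 := π ⟨a, haM⟩ with hx
  have hx3 : x ^ 3 = 1 := by
    rw [hx, ← map_pow]
    have : (⟨a, haM⟩ : M) ^ 3 = 1 := Subtype.ext (hA.cube a haA)
    rw [this, map_one]
  have hx1 : x ≠ 1 := fun h => haJ ((D.ker _).1 h)
  obtain ⟨g, hg, hgx⟩ := ASix.exists_partner hx3 hx1
  obtain ⟨m, hm⟩ := D.surj g
  set y : ASix.A6 := g * x * g⁻¹ with hy
  have hy3 : y ^ 3 = 1 := by rw [hy, conj_pow, hx3]; group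
  have hym : π (m * ⟨a, haM⟩ * m⁻¹) = y := by rw [map_mul, map_mul, map_inv, hm]
  let V : Subgroup ASix.A6 := _root_.Subgroup.closure {x, y}
  have hVx : x ∈ V := _root_.Subgroup.subset_closure (by simp)
  have hVy : y ∈ V := _root_.Subgroup.subset_closure (by simp)
  have hVp : IsPGroup 3 V := by
    have hcomm : ∀ u ∈ ({x, y} : Set ASix.A6), ∀ v ∈ ({x, y} : Set ASix.A6), u * v = v * u := by
      intro u hu v hv
      simp only [Set.mem_insert_iff, Set.mem_singleton_iff] at hu hv
      rcases hu with rfl | rfl <;> rcases hv with rfl | rfl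
      · rfl
      · exact hg
      · exact hg.symm
      · rfl
    let _ : CommGroup V := Subgroup.closureCommGroupOfComm hcomm
    intro v
    refine ⟨1, ?_⟩
    have hker : V ≤ ((powMonoidHom 3 : V →* V).ker).map V.subtype := by
      rw [closure_le]
      intro u hu
      have huV : u ∈ V := _root_.Subgroup.subset_closure hu
      refine ⟨⟨u, huV⟩, ?_, rfl⟩
      rw [SetLike.mem_coe, MonoidHom.mem_ker]
      simp only [Set.mem_insert_iff, Set.mem_singleton_iff] at hu
      change (⟨u, huV⟩ : V) ^ 3 = 1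
      apply Subtype.ext
      change u ^ 3 = 1
      rcases hu with rfl | rfl
      · exact hx3
      · exact hy3
    obtain ⟨w, hw, hwv⟩ := hker v.2
    rw [SetLike.mem_coe, MonoidHom.mem_ker] at hw
    have : w = v := Subtype.ext hwv
    rw [this] at hw
    rw [pow_one]
    exact hw
  have hVc : Nat.card V = 9 := by
    obtain ⟨i, hi⟩ := (IsPGroup.iff_card (p := 3)).1 hVp
    have h1 : Nat.card V ∣ 360 := by rw [← ASix.card]; exact card_subgroup_dvd_card _
    have hi2 : i ≤ 2 := by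
      by_contra hcon
      rw [hi] at h1
      have : (3 : ℕ) ^ 3 ∣ 360 := (pow_dvd_pow 3 (by omega : 3 ≤ i)).trans h1
      omega
    have hzc : Nat.card (zpowers x) = 3 := by
      rw [Nat.card_zpowers]; exact orderOf_eq_prime hx3 hx1
    have h2 : 3 < Nat.card V := by
      by_contra hcon
      push Not at hcon
      have : zpowers x = V := Subgroup.eq_of_le_of_card_ge (by rw [zpowers_le]; exact hVx)
        (by rw [hzc]; exact hcon)
      exact hgx (by rw [this]; exact hVy)
    rw [hi] at h2 ⊢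
    interval_cases i <;> simp_all only [_root_.Nat.reducePow, _root_.ne_eq, _root_.SetLike.mem_coe, _root_.not_false_eq_true, _root_.Subgroup.mem_inf, _root_.and_self, _root_.and_imp, _root_.Nat.reduceLeDiff, _root_.Std.le_refl, _root_.conj_pow, _root_.mul_one, _root_.mul_inv_cancel, _root_.map_mul, _root_.map_inv, _root_.pow_zero, _root_.isUnit_iff_eq_one, _root_.IsUnit.dvd, _root_.Nat.card_eq_fintype_card, _root_.Subgroup.card_eq_one, _root_.zero_le, _root_.Nat.not_ofNat_lt_one, _root_.pow_one, _root_.Nat.reduceDvd, _root_.Nat.one_le_ofNat, _root_.lt_self_iff_false, _root_.Nat.reduceLT]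
  let R : Subgroup M := V.comap π
  have hkerp : IsPGroup 3 π.ker := by
    intro u
    refine ⟨1, Subtype.ext (Subtype.ext ?_)⟩
    have := D.e81.cube _ ((D.ker u.1).1 (MonoidHom.mem_ker.1 u.2))
    simpa only [_root_.pow_one, _root_.SubmonoidClass.coe_pow, _root_.OneMemClass.coe_one] using this
  have hRc : Nat.card R = 3 ^ 6 := by
    have h1 : R.index = V.index := Subgroup.index_comap_of_surjective V D.surj
    have h2 := Subgroup.card_mul_index V
    have h3 := Subgroup.card_mul_index R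
    rw [D.card_M, h1] at h3
    rw [hVc, ASix.card] at h2
    have h4 : V.index = 40 := by omega
    rw [h4] at h3
    exact Nat.eq_of_mul_eq_mul_right (by norm_num) h3
  have hT2c : Nat.card (R.map M.subtype) = 3 ^ 6 := by
    rw [Subgroup.card_map_of_injective M.subtype_injective, hRc]
  obtain ⟨g2, hg2⟩ := conj_of_card hn L.cardS hT2c
  have L2 := L.cj g2
  have hJR : J ≤ cj g2 S := by
    rw [← hg2]
    intro j hj
    refine ⟨⟨j, D.JM hj⟩, ?_, rfl⟩
    rw [SetLike.mem_coe, mem_comap, (D.ker _).2 hj]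
    exact one_mem _
  -- `B ∩ mBm⁻¹` is centralised by `R`
  have hBB : B ⊓ cj (m : G) B ≤ cj g2 Z := by
    intro b hb
    obtain ⟨hb1, hb2⟩ := mem_inf.1 hb
    have hbJ : b ∈ J := (mem_inf.1 hb1).2
    refine (L2.memZ b).2 ⟨hJR hbJ, ?_⟩
    rw [← hg2]
    rintro _ ⟨r, hr, rfl⟩
    have hr' : π r ∈ V := hr
    let K : Subgroup M := (centralizer {b}).subgroupOf M
    have hK : ∀ u : M, u ∈ K ↔ b * (u : G) = u * b := by
      intro u
      rw [mem_subgroupOf, mem_centralizer_singleton_iff]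
      exact ⟨fun h => h.symm, fun h => h.symm⟩
    have haK : (⟨a, haM⟩ : M) ∈ K := (hK _).2 (hBA b hb1 a haA)
    have hmK : m * ⟨a, haM⟩ * m⁻¹ ∈ K := by
      rw [hK]
      rw [mem_cj] at hb2
      have h1 := hBA _ hb2 a haA
      simp only [Subgroup.coe_mul, Subgroup.coe_inv]
      have e1 : b * ((m : G) * a * (m : G)⁻¹) = m * (((m : G)⁻¹ * b * m) * a) * (m : G)⁻¹ := by group
      have e2 : (m : G) * a * (m : G)⁻¹ * b = m * (a * ((m : G)⁻¹ * b * m)) * (m : G)⁻¹ := by group
      rw [e1, e2, h1]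
    have hVK : V ≤ K.map π := by
      rw [closure_le]
      intro u hu
      simp only [Set.mem_insert_iff, Set.mem_singleton_iff] at hu
      rcases hu with rfl | rfl
      · exact ⟨_, haK, hx.symm⟩
      · exact ⟨_, hmK, hym⟩
    obtain ⟨c, hcK, hc⟩ := hVK hr'
    have h1 : π (c⁻¹ * r) = 1 := by rw [map_mul, map_inv, hc]; group
    rw [D.ker] at h1
    have h2 : c⁻¹ * r ∈ K := (hK _).2 (hBJ b hb1 _ h1)
    have h3 : r ∈ K := by
      have := mul_mem hcK h2
      rwa [mul_inv_cancel_left] at this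
    exact (hK r).1 h3
  -- but it has order at least 9
  have hBJle : B ≤ J := inf_le_right
  have hBJ' : cj (m : G) B ≤ J := by
    rintro u ⟨b, hb, rfl⟩
    exact D.conj_mem m.2 (hBJle hb)
  have hrel : ∀ W : Subgroup G, W ≤ J → Nat.card W = 27 → W.relIndex J = 3 := by
    intro W hW hWc
    have := relIndex_mul_card' W J hW
    rw [hWc, D.e81.card] at this
    omega
  have hB27' : Nat.card B = 27 := by rw [hck]; norm_num
  have h5 := Subgroup.relIndex_inf_le (H := B) (K := cj (m : G) B) (L := J)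
  rw [hrel B hBJle hB27', hrel _ hBJ' (by rw [card_cj, hB27'])] at h5
  have h6 := relIndex_mul_card' (B ⊓ cj (m : G) B) J (inf_le_left.trans hBJle)
  rw [D.e81.card] at h6
  have h7 : Nat.card (B ⊓ cj (m : G) B : Subgroup G) ≤ 3 := by
    have := card_dvd_of_le hBB
    rw [L2.cardZ] at this
    exact Nat.le_of_dvd (by norm_num) this
  have h8 : (B ⊓ cj (m : G) B).relIndex J * Nat.card (B ⊓ cj (m : G) B : Subgroup G) ≤ (3 * 3) * 3 :=
    Nat.mul_le_mul h5 h7
  rw [h6] at h8
  norm_num at h8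

theorem cj_inv_le {g : G} {H K : Subgroup G} (h : H ≤ cj g K) : cj g⁻¹ H ≤ K := by
  have := cj_le_cj g⁻¹ h
  rwa [cj_cj, inv_mul_cancel, cj_one] at this

theorem cj_inv_eq {g : G} {H K : Subgroup G} (h : cj g⁻¹ H = K) : H = cj g K := by
  rw [← h, cj_cj, mul_inv_cancel, cj_one]

/-- all elementary abelian subgroups of order 81 are conjugate -/
theorem JDat.exists_conj_e81 (D : JDat J M π) {S Z Q : Subgroup G} (L : Loc S Z Q)
    (hn : ¬ 3 ^ 7 ∣ Nat.card G) {A : Subgroup G} (hA : IsE81 A) : ∃ g : G, A = cj g J := by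
  obtain ⟨T, hT, hJT, hTM⟩ := D.exists_T
  obtain ⟨g, hg⟩ := le_conj_of_isPGroup hn hT hA.isPGroup
  exact ⟨g, cj_inv_eq (D.unique_T L hn hT hJT hTM (hA.cj g⁻¹) (cj_inv_le hg))⟩

/-- subgroups of order `3^6` containing `J` lie in `M` -/
theorem JDat.le_M (D : JDat J M π) {S Z Q : Subgroup G} (L : Loc S Z Q)
    (hn : ¬ 3 ^ 7 ∣ Nat.card G) {T : Subgroup G} (hT : Nat.card T = 3 ^ 6) (hJT : J ≤ T) : T ≤ M := by
  obtain ⟨T₀, hT₀, hJT₀, hTM₀⟩ := D.exists_T
  obtain ⟨g, rfl⟩ := conj_of_card hn hT₀ hT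
  have h1 : J = cj g J :=
    cj_inv_eq (D.unique_T L hn hT₀ hJT₀ hTM₀ (D.e81.cj g⁻¹) (cj_inv_le hJT))
  rintro x ⟨t, ht, rfl⟩
  refine D.norm g (fun j hj => ?_) t (hTM₀ ht)
  rw [h1]
  exact mem_cj_of hj

end Cfsg.Agent.H846
end

-- part: H846/Core6
section
/-!
# 3-local recognition of `McL`: the central elements of `J` (helper846)
-/

set_option autoImplicit false

namespace Cfsg.Agent.H846

open Subgroup

variable {G : Type*} [Group G] [Finite G] {J M : Subgroup G} {π : M →* ASix.A6}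

/-- the nontrivial elements of `A` that are central in some subgroup of order `3^6` containing `A` -/
def XSet (A : Subgroup G) : Set G :=
  {x | x ∈ A ∧ x ≠ 1 ∧ ∃ T : Subgroup G, Nat.card T = 3 ^ 6 ∧ A ≤ T ∧ ∀ t ∈ T, t * x = x * t}

omit [Finite G] in
theorem XSet.conj {A : Subgroup G} {n : G} {x : G} (hx : x ∈ XSet A) :
    n * x * n⁻¹ ∈ XSet (cj n A) := by
  obtain ⟨hxA, hx1, T, hT, hAT, hTx⟩ := hx
  refine ⟨mem_cj_of hxA, ?_, cj n T, by rw [card_cj, hT], cj_le_cj n hAT, ?_⟩
  · intro h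
    apply hx1
    have : x = n⁻¹ * (n * x * n⁻¹) * n := by group
    rw [this, h]; group
  · intro t ht
    rw [mem_cj] at ht
    have h1 := hTx _ ht
    have e1 : t * (n * x * n⁻¹) = n * ((n⁻¹ * t * n) * x) * n⁻¹ := by group
    have e2 : n * x * n⁻¹ * t = n * (x * (n⁻¹ * t * n)) * n⁻¹ := by group
    rw [e1, e2, h1]

theorem cj_eq_of_normalizes {A : Subgroup G} {n : G} (hn : ∀ a ∈ A, n * a * n⁻¹ ∈ A) : cj n A = A := by
  apply Subgroup.eq_of_le_of_card_ge
  · rintro x ⟨a, ha, rfl⟩
    exact hn a ha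
  · rw [card_cj]

theorem XSet.conj_mem {A : Subgroup G} {n : G} (hn : ∀ a ∈ A, n * a * n⁻¹ ∈ A) {x : G} (hx : x ∈ XSet A) :
    n * x * n⁻¹ ∈ XSet A := by
  have := XSet.conj (n := n) hx
  rwa [cj_eq_of_normalizes hn] at this

/-- a nontrivial element central in a subgroup of order `3^6` generates a conjugate of `Z` -/
theorem Loc.zpowers_eq {S Z Q : Subgroup G} (L : Loc S Z Q) (hn : ¬ 3 ^ 7 ∣ Nat.card G) {T : Subgroup G}
    (hT : Nat.card T = 3 ^ 6) {x : G} (hxT : x ∈ T) (hx1 : x ≠ 1) (hc : ∀ t ∈ T, t * x = x * t) :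
    ∃ g : G, T = H846.cj g S ∧ zpowers x = H846.cj g Z := by
  obtain ⟨g, rfl⟩ := conj_of_card hn L.cardS hT
  refine ⟨g, rfl, ?_⟩
  have L' := L.cj g
  have hwZ : x ∈ H846.cj g Z := (L'.memZ x).2 ⟨hxT, fun y hy => (hc y hy).symm⟩
  apply Subgroup.eq_of_le_of_card_ge ((zpowers_le (H := H846.cj g Z)).2 hwZ)
  rw [L'.cardZ]
  have h1 : Nat.card (zpowers x) ∣ 3 := by
    rw [← L'.cardZ]; exact card_dvd_of_le ((zpowers_le (H := H846.cj g Z)).2 hwZ)
  rcases (Nat.dvd_prime Nat.prime_three).1 h1 with h | h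
  · exfalso
    apply hx1
    rw [Subgroup.card_eq_one, zpowers_eq_bot] at h
    exact h
  · exact h.ge

/-- `X` is nonempty -/
theorem JDat.xset_nonempty (D : JDat J M π) {S Z Q : Subgroup G} (L : Loc S Z Q)
    (hn : ¬ 3 ^ 7 ∣ Nat.card G) : (XSet J).Nonempty := by
  obtain ⟨T, hT, hJT, hTM⟩ := D.exists_T
  obtain ⟨g, rfl⟩ := conj_of_card hn L.cardS hT
  have L' := L.cj g
  have hne : cj g Z ≠ ⊥ := by
    intro h
    have := L'.cardZ
    rw [h, Subgroup.card_bot] at this
    omega
  obtain ⟨z, hz, hz1⟩ : ∃ z ∈ cj g Z, z ≠ 1 := by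
    by_contra hno
    push Not at hno
    exact hne ((Subgroup.eq_bot_iff_forall _).2 hno)
  obtain ⟨hzS, hzc⟩ := (L'.memZ z).1 hz
  exact ⟨z, D.cent L hn fun j hj => hzc j (hJT hj), hz1, _, hT, hJT, fun t ht => (hzc t ht).symm⟩

/-- the number of elements of `X` divides 20 -/
theorem JDat.ncard_xset (D : JDat J M π) {S Z Q : Subgroup G} (L : Loc S Z Q)
    (hn : ¬ 3 ^ 7 ∣ Nat.card G) : (XSet J).ncard ∣ 20 := by
  classical
  have h3F := Fact.mk Nat.prime_three
  obtain ⟨x₀, hx₀⟩ := D.xset_nonempty L hn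
  -- subgroups generated by elements of `X`
  let Θ : Set (Subgroup G) := {W | ∃ x ∈ XSet J, W = zpowers x}
  have hord : ∀ x ∈ XSet J, orderOf x = 3 := by
    rintro x ⟨hxJ, hx1, -⟩
    exact orderOf_eq_prime (D.e81.cube x hxJ) hx1
  have hmemX : ∀ x ∈ XSet J, ∀ y ∈ zpowers x, y ≠ 1 → y ∈ XSet J := by
    rintro x ⟨hxJ, hx1, T, hT, hJT, hTx⟩ y hy hy1
    refine ⟨(zpowers_le (H := J)).2 hxJ hy, hy1, T, hT, hJT, ?_⟩
    intro t ht
    obtain ⟨k, rfl⟩ := mem_zpowers_iff.1 hy
    exact ((show Commute t x from hTx t ht).zpow_right k).eq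
  have hgen : ∀ x ∈ XSet J, ∀ y ∈ zpowers x, y ≠ 1 → zpowers y = zpowers x := by
    intro x hx y hy hy1
    apply Subgroup.eq_of_le_of_card_ge (zpowers_le.2 hy)
    rw [Nat.card_zpowers, Nat.card_zpowers, hord x hx, hord y (hmemX x hx y hy hy1)]
  -- `|X| = 2 |Θ|`
  have hXΘ : (XSet J).ncard = Θ.ncard * 2 := by
    let f : XSet J → Θ := fun x => ⟨zpowers (x : G), x, x.2, rfl⟩
    have h1 : Nat.card (XSet J) = Nat.card (Σ W : Θ, {x : XSet J // f x = W}) :=
      Nat.card_congr (Equiv.sigmaFiberEquiv f).symm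
    have h2 : ∀ W : Θ, Nat.card {x : XSet J // f x = W} = 2 := by
      rintro ⟨W, x, hx, rfl⟩
      have e : {y : XSet J // f y = ⟨zpowers x, x, hx, rfl⟩} ≃ {y : G // y ∈ (zpowers x : Subgroup G) ∧ y ≠ 1} :=
        { toFun := fun y => ⟨y.1.1, by
            have : zpowers (y.1 : G) = zpowers x := congrArg Subtype.val y.2
            exact this.le (mem_zpowers (y.1 : G)), y.1.2.2.1⟩
          invFun := fun y => ⟨⟨y.1, hmemX x hx y.1 y.2.1 y.2.2⟩, Subtype.ext (hgen x hx y.1 y.2.1 y.2.2)⟩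
          left_inv := fun y => rfl
          right_inv := fun y => rfl }
      rw [Nat.card_congr e]
      have h3 : Nat.card (zpowers x) = 3 := by rw [Nat.card_zpowers]; exact hord x hx
      have h4 : ({y : G | y ∈ (zpowers x : Subgroup G) ∧ y ≠ 1}) = ((zpowers x : Subgroup G) : Set G) \ {1} := by
        ext y; simp
      have h5 : Nat.card {y : G // y ∈ (zpowers x : Subgroup G) ∧ y ≠ 1} =
        (((zpowers x : Subgroup G) : Set G) \ {1}).ncard := by rw [← h4]; rfl
      rw [h5, Set.ncard_sdiff_singleton_of_mem (one_mem _)]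
      have h6 : ((zpowers x : Subgroup G) : Set G).ncard = 3 := h3
      rw [h6]
    have h3 : Nat.card (Σ W : Θ, {x : XSet J // f x = W}) = Nat.card Θ * 2 := by
      have : Fintype Θ := Fintype.ofFinite _
      rw [Nat.card_sigma]
      simp only [h2]
      simp only [_root_.Finset.sum_const, _root_.Finset.card_univ, _root_.Set.fintypeCard_eq_ncard, _root_.smul_eq_mul, _root_.Nat.card_eq_fintype_card]
    calc (XSet J).ncard = Nat.card (XSet J) := rfl
      _ = Nat.card Θ * 2 := by rw [h1, h3]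
      _ = Θ.ncard * 2 := rfl
  -- `Θ` is an orbit of `M`
  let W₀ : Subgroup G := zpowers x₀
  have hΘ : Θ = {W | ∃ m ∈ M, W = cj m W₀} := by
    ext W
    constructor
    · rintro ⟨x, hx, rfl⟩
      obtain ⟨hxJ, hx1, T, hT, hJT, hTx⟩ := hx
      obtain ⟨hx₀J, hx₀1, T₀, hT₀, hJT₀, hTx₀⟩ := hx₀
      have hTM := D.le_M L hn hT hJT
      have hTM₀ := D.le_M L hn hT₀ hJT₀
      -- conjugate in `M`
      have hMn : ¬ 3 ^ 7 ∣ Nat.card M := fun h => hn (h.trans (card_subgroup_dvd_card M))
      obtain ⟨m, hm⟩ := conj_of_card hMn (S := T₀.subgroupOf M) (T := T.subgroupOf M)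
        (by rw [Nat.card_congr (subgroupOfEquivOfLe hTM₀).toEquiv, hT₀])
        (by rw [Nat.card_congr (subgroupOfEquivOfLe hTM).toEquiv, hT])
      have hm' : T = cj (m : G) T₀ := by
        have h1 := congrArg (Subgroup.map M.subtype) hm
        rw [subgroupOf_map_subtype, inf_eq_left.2 hTM] at h1
        rw [h1]
        ext y
        constructor
        · rintro ⟨_, ⟨t, ht, rfl⟩, rfl⟩
          exact ⟨t, mem_subgroupOf.1 ht, rfl⟩
        · rintro ⟨t, ht, rfl⟩
          exact ⟨m * ⟨t, hTM₀ ht⟩ * m⁻¹, ⟨⟨t, hTM₀ ht⟩, mem_subgroupOf.2 ht, rfl⟩, rfl⟩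
      refine ⟨m, m.2, ?_⟩
      -- both are the centre of `T`
      obtain ⟨g, hg, hgx⟩ := L.zpowers_eq hn hT (hJT hxJ) hx1 hTx
      have hx0' : (m : G) * x₀ * (m : G)⁻¹ ∈ cj g Z := by
        rw [(L.cj g).memZ, ← hg, hm']
        refine ⟨mem_cj_of (hJT₀ hx₀J), fun y hy => ?_⟩
        rw [mem_cj] at hy
        have h1 := hTx₀ _ hy
        have e1 : y * (m * x₀ * (m : G)⁻¹) = m * (((m : G)⁻¹ * y * m) * x₀) * (m : G)⁻¹ := by group
        have e2 : m * x₀ * (m : G)⁻¹ * y = m * (x₀ * ((m : G)⁻¹ * y * m)) * (m : G)⁻¹ := by group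
        rw [e1, e2, h1]
      rw [hgx]
      symm
      apply Subgroup.eq_of_le_of_card_ge
      · rintro y ⟨w, hw, rfl⟩
        obtain ⟨k, rfl⟩ := mem_zpowers_iff.1 hw
        have : (MulAut.conj (m : G)).toMonoidHom (x₀ ^ k) = ((m : G) * x₀ * (m : G)⁻¹) ^ k := by
          rw [map_zpow]; rfl
        rw [this]
        exact zpow_mem hx0' k
      · rw [(L.cj g).cardZ, card_cj, Nat.card_zpowers, orderOf_eq_prime (D.e81.cube x₀ hx₀J) hx₀1]
    · rintro ⟨m, hm, rfl⟩
      refine ⟨m * x₀ * m⁻¹, XSet.conj_mem (fun j hj => D.conj_mem hm hj) hx₀, ?_⟩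
      change (zpowers x₀).map (MulAut.conj m).toMonoidHom = _
      rw [MonoidHom.map_zpowers]
      rfl
  -- orbit-stabiliser
  let N : Subgroup M :=
    { carrier := {m | ∀ w ∈ W₀, (m : G) * w * (m : G)⁻¹ ∈ W₀}
      one_mem' := fun w hw => by simpa using hw
      mul_mem' := by
        intro a b ha hb w hw
        have := ha _ (hb w hw)
        have e : (a : G) * (b * w * (b : G)⁻¹) * (a : G)⁻¹ = ((a * b : M) : G) * w * ((a * b : M) : G)⁻¹ := by
          simp only [Subgroup.coe_mul]; group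
        rwa [e] at this
      inv_mem' := by
        intro a ha w hw
        have h1 : cj (a : G) W₀ = W₀ := cj_eq_of_normalizes ha
        rw [← h1, mem_cj] at hw
        simpa only [_root_.InvMemClass.coe_inv, _root_.inv_inv] using hw }
  have hNmem : ∀ m : M, m ∈ N ↔ cj (m : G) W₀ = W₀ := by
    intro m
    constructor
    · intro h; exact cj_eq_of_normalizes h
    · intro h w hw
      have := mem_cj_of (g := (m : G)) hw
      rwa [h] at this
  have hΘc : Θ.ncard = N.index := by
    rw [hΘ, Subgroup.index]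
    change Nat.card {W : Subgroup G | ∃ m ∈ M, W = cj m W₀} = _
    refine (Nat.card_congr (Equiv.ofBijective (fun q : M ⧸ N => Quotient.liftOn' q
        (fun m : M => (⟨cj (m : G) W₀, m, m.2, rfl⟩ : {W : Subgroup G | ∃ m ∈ M, W = cj m W₀})) ?_) ⟨?_, ?_⟩)).symm
    · intro a b hab
      rw [QuotientGroup.leftRel_apply] at hab
      apply Subtype.ext
      change cj (a : G) W₀ = cj (b : G) W₀
      have h1 := (hNmem _).1 hab
      have h2 := congrArg (cj (a : G)) h1
      rw [cj_cj] at h2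
      rw [← h2]
      congr 1
      simp only [Subgroup.coe_mul, Subgroup.coe_inv]
      group
    · intro q r
      refine Quotient.inductionOn₂' q r ?_
      intro a b h
      have h1 : cj (a : G) W₀ = cj (b : G) W₀ := congrArg Subtype.val h
      apply Quotient.sound'
      rw [QuotientGroup.leftRel_apply, hNmem]
      have h2 := congrArg (cj (a : G)⁻¹) h1
      rw [cj_cj, cj_cj, inv_mul_cancel, cj_one] at h2
      exact h2.symm
    · rintro ⟨W, m, hm, rfl⟩
      exact ⟨Quotient.mk'' ⟨m, hm⟩, rfl⟩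
  -- the normaliser of `T₀` in `M`
  have hN36 : 3 ^ 4 * 36 ∣ Nat.card N := by
    obtain ⟨hx₀J, hx₀1, T₀, hT₀, hJT₀, hTx₀⟩ := hx₀
    have hTM₀ := D.le_M L hn hT₀ hJT₀
    -- the image of `T₀` in `A_6`
    let P₁ : Subgroup ASix.A6 := (T₀.subgroupOf M).map π
    have hkerle : π.ker ≤ T₀.subgroupOf M := by
      intro u hu
      rw [mem_subgroupOf]
      exact hJT₀ ((D.ker u).1 (MonoidHom.mem_ker.1 hu))
    have hPp : IsPGroup 3 P₁ := by
      have : IsPGroup 3 (T₀.subgroupOf M) := IsPGroup.of_card (n := 6)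
        (by rw [Nat.card_congr (subgroupOfEquivOfLe hTM₀).toEquiv, hT₀])
      exact this.map π
    obtain ⟨P, hP⟩ := hPp.exists_le_sylow
    have hP₁ : (P : Subgroup ASix.A6) = P₁ := by
      have h1 : P₁.comap π = T₀.subgroupOf M := by
        rw [Subgroup.comap_map_eq, sup_eq_left.2 hkerle]
      have h2 : P₁.index = (T₀.subgroupOf M).index := by
        rw [← h1, Subgroup.index_comap_of_surjective _ D.surj]
      have h3 := Subgroup.card_mul_index (T₀.subgroupOf M)
      rw [Nat.card_congr (subgroupOfEquivOfLe hTM₀).toEquiv, hT₀, D.card_M] at h3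
      have h4 : (T₀.subgroupOf M).index = 40 := Nat.eq_of_mul_eq_mul_left (by norm_num) h3
      have h5 := Subgroup.card_mul_index P₁
      rw [h2, h4, ASix.card] at h5
      have h6 : Nat.card P₁ = 9 := by omega
      exact (Subgroup.eq_of_le_of_card_ge hP (by
        change Nat.card P ≤ _
        rw [ASix.card_sylow P, h6])).symm
    have h36 := ASix.dvd_normalizer P
    rw [hP₁] at h36
    -- preimage of the normaliser
    have hle : (normalizer (P₁ : Set ASix.A6)).comap π ≤ N := by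
      intro u hu
      rw [mem_comap, mem_normalizer_iff] at hu
      rw [hNmem]
      -- `u` normalises `T₀`
      have h1 : cj (u : G) T₀ = T₀ := by
        apply cj_eq_of_normalizes
        intro t ht
        have h2 : π ⟨t, hTM₀ ht⟩ ∈ P₁ := ⟨⟨t, hTM₀ ht⟩, mem_subgroupOf.2 ht, rfl⟩
        have h3 := (hu _).1 h2
        rw [← map_inv, ← map_mul, ← map_mul] at h3
        obtain ⟨t', ht', htt⟩ := h3
        have h4 : π (t'⁻¹ * (u * ⟨t, hTM₀ ht⟩ * u⁻¹)) = 1 := by
          rw [map_mul, map_inv, htt]; group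
        rw [D.ker] at h4
        have h5 := mul_mem (mem_subgroupOf.1 ht') (hJT₀ h4)
        have e : (t' : G) * ((t'⁻¹ * (u * ⟨t, hTM₀ ht⟩ * u⁻¹) : M) : G) = (u : G) * t * (u : G)⁻¹ := by
          simp only [Subgroup.coe_mul, Subgroup.coe_inv]; group
        rwa [e] at h5
      obtain ⟨g, hg, hgx⟩ := L.zpowers_eq hn hT₀ (hJT₀ hx₀J) hx₀1 hTx₀
      change cj (u : G) (zpowers x₀) = zpowers x₀
      apply cj_eq_of_normalizes
      intro w hw
      rw [hgx] at hw ⊢
      rw [(L.cj g).memZ, ← hg] at hw ⊢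
      obtain ⟨hw1, hw2⟩ := hw
      refine ⟨?_, fun y hy => ?_⟩
      · rw [← h1]; exact mem_cj_of hw1
      · rw [← h1, mem_cj] at hy
        have h3 := hw2 _ hy
        have e1 : (u : G) * w * (u : G)⁻¹ * y = u * (w * ((u : G)⁻¹ * y * u)) * (u : G)⁻¹ := by group
        have e2 : y * ((u : G) * w * (u : G)⁻¹) = u * (((u : G)⁻¹ * y * u) * w) * (u : G)⁻¹ := by group
        rw [e1, e2, h3]
    refine dvd_trans ?_ (card_dvd_of_le hle)
    have h1 := Subgroup.card_mul_index ((normalizer (P₁ : Set ASix.A6)).comap π)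
    rw [Subgroup.index_comap_of_surjective _ D.surj, D.card_M] at h1
    have h2 := Subgroup.card_mul_index (normalizer (P₁ : Set ASix.A6))
    rw [ASix.card] at h2
    have h3 : 3 ^ 4 * Nat.card (normalizer (P₁ : Set ASix.A6)) =
      Nat.card ((normalizer (P₁ : Set ASix.A6)).comap π) := by
      have hpos : 0 < (normalizer (P₁ : Set ASix.A6)).index :=
        Nat.pos_of_ne_zero (by intro h; rw [h] at h2; omega)
      apply Nat.eq_of_mul_eq_mul_right hpos
      rw [h1, mul_assoc, h2]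
      norm_num
    rw [← h3]
    exact Nat.mul_dvd_mul_left _ h36
  have h1 := Subgroup.card_mul_index N
  rw [D.card_M] at h1
  obtain ⟨c, hc⟩ := hN36
  rw [hc] at h1
  have h2 : c * N.index = 10 := by
    have h3 : 3 ^ 4 * 36 * (c * N.index) = 3 ^ 4 * 36 * 10 := by
      rw [← mul_assoc, h1]; norm_num
    exact Nat.eq_of_mul_eq_mul_left (by norm_num) h3
  rw [hXΘ, hΘc]
  have h3 : N.index ∣ 10 := ⟨c, by rw [← h2, mul_comm]⟩
  have := Nat.mul_dvd_mul_right h3 2
  exact this

end Cfsg.Agent.H846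
end

-- part: H846/Core7
section
/-!
# 3-local recognition of `McL`: the simple normal subgroup (helper846)
-/

set_option autoImplicit false

namespace Cfsg.Agent.H846

open Subgroup

variable {G : Type*} [Group G] [Finite G] {J M : Subgroup G} {π : M →* ASix.A6}

/-- the centre is in a subgroup normalised by `S` that meets `S` nontrivially -/
theorem Loc.Z_le_of_normalized {S Z Q : Subgroup G} (L : Loc S Z Q) {N : Subgroup G}
    (hN : ∀ s ∈ S, ∀ n ∈ N, s * n * s⁻¹ ∈ N) (hNS : N ⊓ S ≠ ⊥) : Z ≤ N := by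
  have h3F := Fact.mk Nat.prime_three
  have hSp : IsPGroup 3 S := IsPGroup.of_card L.cardS
  obtain ⟨w, hw, hw1, hwS⟩ := Cfsg.Agent.Characters.CNBasic.exists_mem_center_of_normal S hSp (N ⊓ S)
    (hSp.to_le inf_le_right) hNS (by
      rintro t ht d hd
      exact mem_inf.2 ⟨hN t ht d (mem_inf.1 hd).1, mul_mem (mul_mem ht (mem_inf.1 hd).2) (inv_mem ht)⟩)
  have hwZ : w ∈ Z := (L.memZ w).2 ⟨(mem_inf.1 hw).2, fun y hy => (hwS y hy).symm⟩
  have hz : zpowers w = Z := by
    apply Subgroup.eq_of_le_of_card_ge (zpowers_le.2 hwZ)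
    rw [L.cardZ]
    have h1 : Nat.card (zpowers w) ∣ 3 := by
      rw [← L.cardZ]; exact card_dvd_of_le (zpowers_le.2 hwZ)
    rcases (Nat.dvd_prime Nat.prime_three).1 h1 with h | h
    · exfalso
      apply hw1
      rw [Subgroup.card_eq_one, zpowers_eq_bot] at h
      exact h
    · exact h.ge
  rw [← hz, zpowers_le]
  exact (mem_inf.1 hw).1

/-- a subgroup of order divisible by 3 normalised by `S` meets `S` nontrivially -/
theorem inf_ne_bot {S N : Subgroup G} (hS : Nat.card S = 3 ^ 6) (hn : ¬ 3 ^ 7 ∣ Nat.card G)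
    (hN : ∀ s ∈ S, ∀ n ∈ N, s * n * s⁻¹ ∈ N) (h3 : 3 ∣ Nat.card N) : N ⊓ S ≠ ⊥ := by
  have h3F := Fact.mk Nat.prime_three
  intro hbot
  -- `N S` would have order divisible by `3^7`
  have hSN : S ≤ normalizer (N : Set G) := by
    intro s hs
    rw [mem_normalizer_iff]
    intro n
    constructor
    · exact hN s hs n
    · intro h
      have := hN s⁻¹ (inv_mem hs) _ h
      have e : s⁻¹ * (s * n * s⁻¹) * s⁻¹⁻¹ = n := by group
      rwa [e] at this
  let R : Subgroup G := normalizer (N : Set G)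
  have hNR : N ≤ R := le_normalizer
  let N' : Subgroup R := N.subgroupOf R
  let S' : Subgroup R := S.subgroupOf R
  have hN'n : N'.Normal := Subgroup.normal_in_normalizer
  have hcN : Nat.card N' = Nat.card N := Nat.card_congr (subgroupOfEquivOfLe hNR).toEquiv
  have hcS : Nat.card S' = 3 ^ 6 := by
    rw [Nat.card_congr (subgroupOfEquivOfLe hSN).toEquiv, hS]
  have hinj : Function.Injective ((QuotientGroup.mk' N').comp S'.subtype) := by
    rw [injective_iff_map_eq_one]
    intro s hs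
    have h1 : ((s : R) : R ⧸ N') = 1 := hs
    rw [QuotientGroup.eq_one_iff, mem_subgroupOf] at h1
    have h2 : ((s : R) : G) ∈ N ⊓ S := mem_inf.2 ⟨h1, mem_subgroupOf.1 s.2⟩
    rw [hbot, mem_bot] at h2
    exact Subtype.ext (Subtype.ext h2)
  have h1 : 3 ^ 6 ∣ Nat.card (R ⧸ N') := by
    rw [← hcS]
    have h2 : Nat.card (((QuotientGroup.mk' N').comp S'.subtype).range) = Nat.card S' :=
      (Nat.card_congr (MonoidHom.ofInjective hinj).toEquiv).symm
    rw [← h2]
    exact card_subgroup_dvd_card _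
  have h2 := Subgroup.card_eq_card_quotient_mul_card_subgroup N'
  apply hn
  have h4 : 3 ^ 7 ∣ Nat.card R := by
    rw [h2, hcN]
    have : (3 : ℕ) ^ 7 = 3 ^ 6 * 3 := by norm_num
    rw [this]
    exact Nat.mul_dvd_mul h1 h3
  exact h4.trans (card_subgroup_dvd_card R)

/-- elements of order 5 centralising `Z` fix exactly `Z` in `Q` -/
theorem Loc.five_fix {S Z Q : Subgroup G} (L : Loc S Z Q) {h : G} (h5 : h ^ 5 = 1) (h1 : h ≠ 1)
    (hz : ∀ z ∈ Z, h * z = z * h) {q : G} (hq : q ∈ Q) (hc : h * q = q * h) : q ∈ Z := by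
  have hnor : ∀ q ∈ Q, h * q * h⁻¹ ∈ Q := L.nor h (fun z hz' => by
    rw [hz z hz', mul_assoc, mul_inv_cancel, mul_one]; exact hz')
  have hmod := card_modEq_fix (by norm_num : Nat.Prime 5) h5 Q hnor
  obtain ⟨k, hk, hck⟩ := card_pow_of_le (n := 5) Nat.prime_three
    (inf_le_left : (Q ⊓ centralizer {h} : Subgroup G) ≤ Q) L.cardQ
  rw [L.cardQ, hck] at hmod
  have hmod' : 3 ^ 5 % 5 = 3 ^ k % 5 := hmod
  have hk' : k = 1 ∨ k = 5 := by
    interval_cases k <;> simp_all only [_root_.ne_eq, _root_.Nat.reducePow, _root_.pow_zero, _root_.zero_le, _root_.Subgroup.mem_inf, _root_.Nat.reduceMod, _root_.Nat.one_mod, _root_.OfNat.ofNat_ne_one, _root_.pow_one, _root_.Nat.one_le_ofNat, _root_.OfNat.one_ne_ofNat, _root_.or_false, _root_.Nat.reduceLeDiff, _root_.Nat.reduceEqDiff, _root_.Nat.succ_ne_self, _root_.Std.le_refl, _root_.or_true]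
  have hZle : Z ≤ Q ⊓ centralizer {h} := fun z hz' =>
    mem_inf.2 ⟨L.Z_le_Q hz', mem_centralizer_singleton_iff.2 (hz z hz').symm⟩
  rcases hk' with rfl | rfl
  · have : Z = Q ⊓ centralizer {h} := Subgroup.eq_of_le_of_card_ge hZle (by rw [hck, L.cardZ]; norm_num)
    rw [this]
    exact mem_inf.2 ⟨hq, mem_centralizer_singleton_iff.2 hc.symm⟩
  · exfalso
    have heq : (Q ⊓ centralizer {h} : Subgroup G) = Q :=
      Subgroup.eq_of_le_of_card_ge inf_le_left (by rw [hck, L.cardQ])
    have hmQ : h ∈ Q := L.cenQ h (fun j hj => by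
      rw [← heq] at hj
      exact (mem_centralizer_singleton_iff.1 (mem_inf.1 hj).2).symm)
    have h3 : orderOf h ∣ 3 ^ 5 := by
      have := _root_.orderOf_dvd_natCard (⟨h, hmQ⟩ : Q)
      rwa [Subgroup.orderOf_mk, L.cardQ] at this
    have h4 : orderOf h = 1 := Nat.eq_one_of_dvd_coprimes (by norm_num : Nat.Coprime (3 ^ 5) 5) h3
      (orderOf_dvd_of_pow_eq_one h5)
    exact h1 (orderOf_eq_one_iff.1 h4)

/-- **(N1)** a normal subgroup of order divisible by 3 contains `S` -/
theorem JDat.S_le (D : JDat J M π) {S Z Q : Subgroup G} (L : Loc S Z Q)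
    (hn : ¬ 3 ^ 7 ∣ Nat.card G) (hJS : J ≤ S) {N : Subgroup G} [hNn : N.Normal] (h3 : 3 ∣ Nat.card N) : S ≤ N := by
  have hnorm : ∀ s ∈ S, ∀ n ∈ N, s * n * s⁻¹ ∈ N := fun s _ n hn => hNn.conj_mem n hn s
  have hZN : Z ≤ N := L.Z_le_of_normalized hnorm (inf_ne_bot L.cardS hn hnorm h3)
  have hZJ : Z ≤ J := fun z hz => D.cent L hn fun j hj => L.comm_S hz (hJS hj)
  have hZne : Nat.card Z = 3 := L.cardZ
  -- `J ≤ N`
  have hJN : J ≤ N := by
    obtain ⟨m, hm, hm5, hm1⟩ := D.exists_five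
    have hmod := card_modEq_fix (by norm_num : Nat.Prime 5) hm5 (J ⊓ N) (fun w hw =>
      mem_inf.2 ⟨D.conj_mem hm (mem_inf.1 hw).1, hNn.conj_mem w (mem_inf.1 hw).2 m⟩)
    have hfix : (J ⊓ N) ⊓ centralizer {m} = ⊥ := by
      rw [eq_bot_iff]
      intro w hw
      obtain ⟨hw1, hw2⟩ := mem_inf.1 hw
      exact D.five_fix L hn hm hm5 hm1 (mem_inf.1 hw1).1 (mem_centralizer_singleton_iff.1 hw2).symm
    rw [hfix, Subgroup.card_bot] at hmod
    obtain ⟨k, hk, hck⟩ := card_pow_of_le (n := 4) Nat.prime_three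
      (inf_le_left : (J ⊓ N : Subgroup G) ≤ J) (by rw [D.e81.card]; norm_num)
    rw [hck] at hmod
    have hmod' : 3 ^ k % 5 = 1 % 5 := hmod
    have hk1 : 1 ≤ k := by
      by_contra hcon
      have : k = 0 := by omega
      rw [this, pow_zero] at hck
      have h1 := card_dvd_of_le (le_inf hZJ hZN)
      rw [hck, hZne] at h1
      omega
    have hk4 : k = 4 := by
      interval_cases k <;> simp_all only [_root_.Nat.reducePow, _root_.ne_eq, _root_.pow_one, _root_.Nat.one_le_ofNat, _root_.Subgroup.mem_inf, _root_.Nat.reduceMod, _root_.Nat.one_mod, _root_.OfNat.ofNat_ne_one, _root_.Nat.reduceLeDiff, _root_.Std.le_refl]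
    have : (J ⊓ N : Subgroup G) = J :=
      Subgroup.eq_of_le_of_card_ge inf_le_left (by rw [hck, hk4, D.e81.card]; norm_num)
    rw [← this]; exact inf_le_right
  -- `Q ≤ N`
  have hQN : Q ≤ N := by
    obtain ⟨h, h5, h1, hz, -⟩ := L.five
    have hnor : ∀ q ∈ Q, h * q * h⁻¹ ∈ Q := L.nor h (fun z hz' => by
      rw [hz z hz', mul_assoc, mul_inv_cancel, mul_one]; exact hz')
    have hmod := card_modEq_fix (by norm_num : Nat.Prime 5) h5 (Q ⊓ N) (fun w hw =>
      mem_inf.2 ⟨hnor w (mem_inf.1 hw).1, hNn.conj_mem w (mem_inf.1 hw).2 h⟩)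
    have hfix : (Q ⊓ N) ⊓ centralizer {h} = Z := by
      apply le_antisymm
      · intro w hw
        obtain ⟨hw1, hw2⟩ := mem_inf.1 hw
        exact L.five_fix h5 h1 hz (mem_inf.1 hw1).1 (mem_centralizer_singleton_iff.1 hw2).symm
      · intro z hz'
        exact mem_inf.2 ⟨mem_inf.2 ⟨L.Z_le_Q hz', hZN hz'⟩, mem_centralizer_singleton_iff.2 (hz z hz').symm⟩
    rw [hfix, hZne] at hmod
    obtain ⟨k, hk, hck⟩ := card_pow_of_le (n := 5) Nat.prime_three
      (inf_le_left : (Q ⊓ N : Subgroup G) ≤ Q) L.cardQ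
    have hJQ := L.card_inf D.e81 hJS
    have h27 : 27 ≤ Nat.card (Q ⊓ N : Subgroup G) := by
      rw [← hJQ]
      exact Nat.le_of_dvd Nat.card_pos (card_dvd_of_le (le_inf inf_le_right (inf_le_left.trans hJN)))
    rw [hck] at hmod h27
    have hmod' : 3 ^ k % 5 = 3 % 5 := hmod
    have hk5 : k = 5 := by
      interval_cases k <;> simp_all only [_root_.Nat.reducePow, _root_.ne_eq, _root_.Subgroup.mem_inf, _root_.pow_zero, _root_.zero_le, _root_.Nat.not_ofNat_le_one, _root_.pow_one, _root_.Nat.one_le_ofNat, _root_.Nat.reduceLeDiff, _root_.Std.le_refl, _root_.Nat.reduceMod, _root_.Nat.reduceEqDiff, _root_.OfNat.one_ne_ofNat]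
    have : (Q ⊓ N : Subgroup G) = Q :=
      Subgroup.eq_of_le_of_card_ge inf_le_left (by rw [hck, hk5, L.cardQ])
    rw [← this]; exact inf_le_right
  -- `S = J Q`
  have hSle : S ≤ N ⊓ S := by
    obtain ⟨k, hk, hck⟩ := card_pow_of_le (n := 6) Nat.prime_three
      (inf_le_right : (N ⊓ S : Subgroup G) ≤ S) L.cardS
    have h1 : Q.relIndex J = 3 := by
      have h4 : (J ⊓ Q).relIndex J = Q.relIndex J := Subgroup.inf_relIndex_left _ _
      have h5 := relIndex_mul_card' (J ⊓ Q) J inf_le_left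
      rw [h4, D.e81.card, L.card_inf D.e81 hJS] at h5
      omega
    have hJle : J ≤ N ⊓ S := le_inf hJN hJS
    have hQle : Q ≤ N ⊓ S := le_inf hQN L.QS
    have h2 := relIndex_mul_card' Q (N ⊓ S) hQle
    rw [L.cardQ, hck] at h2
    have h3 : 3 ≤ Q.relIndex (N ⊓ S) := by
      rw [← h1]
      refine Subgroup.relIndex_le_of_le_right hJle ?_
      intro h0
      rw [h0] at h2
      have : 0 < 3 ^ k := by positivity
      omega
    have hk6 : k = 6 := by
      have h4 : 3 * 3 ^ 5 ≤ 3 ^ k := by rw [← h2]; exact Nat.mul_le_mul_right _ h3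
      have h5 : 3 ^ 6 ≤ 3 ^ k := by rw [← pow_succ'] at h4; exact h4
      have := (Nat.pow_le_pow_iff_right (by norm_num)).1 h5
      omega
    exact (Subgroup.eq_of_le_of_card_ge inf_le_right (by rw [hck, hk6, L.cardS])).ge
  exact hSle.trans inf_le_left

/-- normal subgroups of `G` -/
theorem JDat.three_dvd (D : JDat J M π) {S Z Q : Subgroup G} (L : Loc S Z Q)
    (hn : ¬ 3 ^ 7 ∣ Nat.card G) {N : Subgroup G} (hN : ∀ j ∈ J, ∀ n ∈ N, j * n * j⁻¹ ∈ N) (hNb : N ≠ ⊥) :
    3 ∣ Nat.card N := by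
  by_contra h
  exact hNb (D.no_prime L hn h hN)

/-- there is a simple normal subgroup with trivial centraliser -/
theorem JDat.exists_simple (D : JDat J M π) {S Z Q : Subgroup G} (L : Loc S Z Q)
    (hn : ¬ 3 ^ 7 ∣ Nat.card G) (hJS : J ≤ S) : ∃ K : Subgroup G, K.Normal ∧ IsSimpleGroup K ∧ S ≤ K ∧
      ∀ x, (∀ k ∈ K, x * k = k * x) → x = 1 := by
  have h3F := Fact.mk Nat.prime_three
  have hSne : S ≠ ⊥ := by
    intro h
    have := L.cardS
    rw [h, Subgroup.card_bot] at this
    norm_num at this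
  have hTne : (⊤ : Subgroup G) ≠ ⊥ := by
    intro h
    apply hSne
    rw [eq_bot_iff, ← h]
    exact le_top
  obtain ⟨K, ⟨hKn, hKb⟩, hmin⟩ := WellFounded.has_min (wellFounded_lt : WellFounded (α := Subgroup G) (· < ·))
    {N : Subgroup G | N.Normal ∧ N ≠ ⊥} ⟨⊤, inferInstance, hTne⟩
  have hK3 : 3 ∣ Nat.card K := D.three_dvd L hn (fun j _ n hn => hKn.conj_mem n hn j) hKb
  have hSK : S ≤ K := D.S_le L hn hJS hK3
  refine ⟨K, hKn, ?_, hSK, ?_⟩
  · -- simplicity
    have hKnt : Nontrivial K := by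
      rw [Subgroup.nontrivial_iff_ne_bot]; exact hKb
    -- a nontrivial subgroup normalised by `K` contains `Z`
    have hZ : ∀ N : Subgroup G, N ≤ K → (∀ k ∈ K, ∀ n ∈ N, k * n * k⁻¹ ∈ N) → N ≠ ⊥ → Z ≤ N := by
      intro N hNK hN hNb
      have h3 : 3 ∣ Nat.card N := D.three_dvd L hn (fun j hj n hn => hN j (hSK (hJS hj)) n hn) hNb
      exact L.Z_le_of_normalized (fun s hs => hN s (hSK hs)) (inf_ne_bot L.cardS hn (fun s hs => hN s (hSK hs)) h3)
    -- minimal one
    obtain ⟨N, ⟨hNK, hN, hNb⟩, hNmin⟩ := WellFounded.has_min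
      (wellFounded_lt : WellFounded (α := Subgroup G) (· < ·))
      {N : Subgroup G | N ≤ K ∧ (∀ k ∈ K, ∀ n ∈ N, k * n * k⁻¹ ∈ N) ∧ N ≠ ⊥}
      ⟨K, le_rfl, fun k hk n hn => mul_mem (mul_mem hk hn) (inv_mem hk), hKb⟩
    have hZb : Z ≠ ⊥ := by
      intro h
      have := L.cardZ
      rw [h, Subgroup.card_bot] at this
      omega
    have hNG : ∀ g : G, cj g N = N := by
      intro g
      have hgK : cj g N ≤ K := by
        rintro x ⟨n, hn, rfl⟩
        exact hKn.conj_mem n (hNK hn) g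
      have hgN : ∀ k ∈ K, ∀ n ∈ cj g N, k * n * k⁻¹ ∈ cj g N := by
        intro k hk n hn
        rw [mem_cj] at hn ⊢
        have h1 : g⁻¹ * k * g ∈ K := by simpa using hKn.conj_mem k hk g⁻¹
        have h2 := hN _ h1 _ hn
        have e : g⁻¹ * k * g * (g⁻¹ * n * g) * (g⁻¹ * k * g)⁻¹ = g⁻¹ * (k * n * k⁻¹) * g := by group
        rwa [e] at h2
      have hgb : cj g N ≠ ⊥ := by
        intro h
        apply hNb
        rw [← Subgroup.card_eq_one, ← card_cj g, h, Subgroup.card_bot]
      have h1 := hZ _ hgK hgN hgb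
      have h2 := hZ N hNK hN hNb
      have h3 : N ⊓ cj g N ∈ {N : Subgroup G | N ≤ K ∧ (∀ k ∈ K, ∀ n ∈ N, k * n * k⁻¹ ∈ N) ∧ N ≠ ⊥} := by
        refine ⟨inf_le_left.trans hNK, ?_, ?_⟩
        · intro k hk n hn
          exact mem_inf.2 ⟨hN k hk n (mem_inf.1 hn).1, hgN k hk n (mem_inf.1 hn).2⟩
        · intro h
          apply hZb
          rw [eq_bot_iff, ← h]
          exact le_inf h2 h1
      have h4 := hNmin _ h3
      have h5 : N ⊓ cj g N = N := by
        by_contra hne
        exact h4 (lt_of_le_of_ne inf_le_left hne)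
      symm
      apply Subgroup.eq_of_le_of_card_ge
      · exact h5.symm.le.trans inf_le_right
      · rw [card_cj]
    have hNK' : N = K := by
      have hNn : N.Normal := by
        constructor
        intro n hn g
        have := mem_cj_of (g := g) hn
        rwa [hNG g] at this
      by_contra hne
      exact hmin N ⟨hNn, hNb⟩ (lt_of_le_of_ne hNK hne)
    refine { eq_bot_or_eq_top_of_normal := ?_ }
    intro H hH
    by_cases hHb : H = ⊥
    · left; exact hHb
    · right
      have h1 : H.map K.subtype ∈ {N : Subgroup G | N ≤ K ∧ (∀ k ∈ K, ∀ n ∈ N, k * n * k⁻¹ ∈ N) ∧ N ≠ ⊥} := by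
        refine ⟨Subgroup.map_subtype_le H, ?_, ?_⟩
        · rintro k hk _ ⟨n, hn, rfl⟩
          exact ⟨(⟨k, hk⟩ * n * ⟨k, hk⟩⁻¹ :), hH.conj_mem n hn _, rfl⟩
        · intro h
          apply hHb
          rw [Subgroup.map_eq_bot_iff_of_injective _ K.subtype_injective] at h
          exact h
      have h2 := hNmin _ h1
      rw [hNK'] at h2
      have h3 : H.map K.subtype = K := by
        by_contra hne
        exact h2 (lt_of_le_of_ne (Subgroup.map_subtype_le H) hne)
      rw [eq_top_iff]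
      intro k _
      have h4 : (k : G) ∈ H.map K.subtype := by rw [h3]; exact k.2
      obtain ⟨k', hk', he⟩ := h4
      have : k' = k := Subtype.ext he
      rwa [← this]
  · intro x hx
    by_contra hx1
    let C : Subgroup G := centralizer (K : Set G)
    have hCn : C.Normal := Subgroup.normal_centralizer
    have hxC : x ∈ C := mem_centralizer_iff.2 fun k hk => (hx k hk).symm
    have hCb : C ≠ ⊥ := by
      intro h
      rw [h, mem_bot] at hxC
      exact hx1 hxC
    have h3 : 3 ∣ Nat.card C := D.three_dvd L hn (fun j _ n hn => hCn.conj_mem n hn j) hCb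
    have hSC : S ≤ C := D.S_le L hn hJS h3
    have hSZ : S ≤ Z := by
      intro s hs
      refine (L.memZ s).2 ⟨hs, fun y hy => ?_⟩
      exact (mem_centralizer_iff.1 (hSC hs) y (hSK hy)).symm
    have := card_dvd_of_le hSZ
    rw [L.cardS, L.cardZ] at this
    exact absurd this (by norm_num)

end Cfsg.Agent.H846
end

-- part: H846/Cond
section
/-!
# 3-local recognition of `McL`: the conditions on the simple group (helper846)
-/

set_option autoImplicit false

namespace Cfsg.Agent.H846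

open Subgroup

/-- what the 3-local analysis gives for the simple group -/
structure Cond (K : Type*) [Group K] : Prop where
  fin : Finite K
  card6 : 3 ^ 6 ∣ Nat.card K
  card7 : ¬ 3 ^ 7 ∣ Nat.card K
  ex81 : ∃ A : Subgroup K, IsE81 A
  exp : ∀ x : K, x ^ 27 = 1 → x ^ 9 = 1
  cent : ∀ A : Subgroup K, IsE81 A → ∀ x, (∀ a ∈ A, x * a = a * x) → x ∈ A
  nop : ∀ A : Subgroup K, IsE81 A → ∀ U : Subgroup K, ¬ 3 ∣ Nat.card U →
    (∀ a ∈ A, ∀ u ∈ U, a * u * a⁻¹ ∈ U) → U = ⊥
  ten : ∀ A : Subgroup K, IsE81 A → (XSet A).Nonempty ∧ (XSet A).ncard ∣ 20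
  five : ∀ A : Subgroup K, IsE81 A → ∃ n, n ^ 5 = 1 ∧ n ≠ 1 ∧ ∀ a ∈ A, n * a * n⁻¹ ∈ A
  center : ∀ T : Subgroup K, Nat.card T = 3 ^ 6 → ∀ x ∈ T, ∀ y ∈ T, (∀ t ∈ T, t * x = x * t) →
    (∀ t ∈ T, t * y = y * t) → x ≠ 1 → y ∈ zpowers x
  cz5 : ∀ z : K, z ≠ 1 → z ^ 3 = 1 → 3 ^ 6 ∣ Nat.card (centralizer ({z} : Set K)) →
    5 ∣ Nat.card (centralizer ({z} : Set K))
  cz2 : ∀ z : K, z ≠ 1 → z ^ 3 = 1 → 3 ^ 6 ∣ Nat.card (centralizer ({z} : Set K)) →
    ¬ 2 ^ 5 ∣ Nat.card (centralizer ({z} : Set K))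

theorem IsE81.map {K H : Type*} [Group K] [Group H] {f : K →* H} (hf : Function.Injective f) {A : Subgroup K}
    (hA : IsE81 A) : IsE81 (A.map f) where
  comm := by
    rintro _ ⟨a, ha, rfl⟩ _ ⟨b, hb, rfl⟩
    rw [← map_mul, ← map_mul, hA.comm a ha b hb]
  cube := by
    rintro _ ⟨a, ha, rfl⟩
    rw [← map_pow, hA.cube a ha, map_one]
  card := by rw [Subgroup.card_map_of_injective hf, hA.card]

theorem IsE81.of_map {K H : Type*} [Group K] [Group H] {f : K →* H} (hf : Function.Injective f) {A : Subgroup K}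
    (hA : IsE81 (A.map f)) : IsE81 A where
  comm := by
    intro a ha b hb
    apply hf
    rw [map_mul, map_mul]
    exact hA.comm _ (mem_map_of_mem f ha) _ (mem_map_of_mem f hb)
  cube := by
    intro a ha
    apply hf
    rw [map_pow, map_one]
    exact hA.cube _ (mem_map_of_mem f ha)
  card := by rw [← Subgroup.card_map_of_injective hf, hA.card]

theorem card_centralizer_congr {K H : Type*} [Group K] [Group H] (e : K ≃* H) (z : K) :
    Nat.card (centralizer ({z} : Set K)) = Nat.card (centralizer ({e z} : Set H)) := by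
  refine Nat.card_congr
    { toFun := fun x => ⟨e x, ?_⟩
      invFun := fun x => ⟨e.symm x, ?_⟩
      left_inv := fun x => Subtype.ext (e.symm_apply_apply _)
      right_inv := fun x => Subtype.ext (e.apply_symm_apply _) }
  · have := mem_centralizer_singleton_iff.1 x.2
    rw [mem_centralizer_singleton_iff, ← map_mul, this, map_mul]
  · have := mem_centralizer_singleton_iff.1 x.2
    rw [mem_centralizer_singleton_iff]
    apply e.injective
    rw [map_mul, map_mul, e.apply_symm_apply, this]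

/-- transport of `XSet` -/
theorem mem_xset_congr {K H : Type*} [Group K] [Group H] (e : K ≃* H) {A : Subgroup K} {x : K}
    (hx : x ∈ XSet A) : e x ∈ XSet (A.map e.toMonoidHom) := by
  obtain ⟨hxA, hx1, T, hT, hAT, hTx⟩ := hx
  refine ⟨mem_map_of_mem _ hxA, ?_, T.map e.toMonoidHom, ?_, Subgroup.map_mono hAT, ?_⟩
  · intro h
    apply hx1
    apply e.injective
    rw [h, map_one]
  · rw [Subgroup.card_map_of_injective e.injective, hT]
  · rintro _ ⟨t, ht, rfl⟩
    change e t * e x = e x * e t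
    rw [← map_mul, ← map_mul, hTx t ht]

theorem xset_congr {K H : Type*} [Group K] [Group H] (e : K ≃* H) (A : Subgroup K) :
    XSet (A.map e.toMonoidHom) = e '' XSet A := by
  ext y
  constructor
  · intro hy
    refine ⟨e.symm y, ?_, e.apply_symm_apply y⟩
    have := mem_xset_congr e.symm hy
    have h2 : (A.map e.toMonoidHom).map e.symm.toMonoidHom = A := by
      rw [Subgroup.map_map]
      have : e.symm.toMonoidHom.comp e.toMonoidHom = MonoidHom.id K := by
        ext x; exact e.symm_apply_apply x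
      rw [this, Subgroup.map_id]
    rwa [h2] at this
  · rintro ⟨x, hx, rfl⟩
    exact mem_xset_congr e hx

theorem Cond.congr {K H : Type*} [Group K] [Group H] (e : K ≃* H) (h : Cond K) : Cond H := by
  have hfin := h.fin
  have hback : ∀ B : Subgroup H, (B.comap e.toMonoidHom).map e.toMonoidHom = B := fun B =>
    Subgroup.map_comap_eq_self_of_surjective e.surjective B
  have hcard : ∀ B : Subgroup H, Nat.card (B.comap e.toMonoidHom) = Nat.card B := fun B => by
    conv_rhs => rw [← hback B, Subgroup.card_map_of_injective e.injective]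
  have h81 : ∀ B : Subgroup H, IsE81 B → IsE81 (B.comap e.toMonoidHom) := fun B hB =>
    IsE81.of_map (f := e.toMonoidHom) e.injective (by rw [hback]; exact hB)
  have hsymm : ∀ y : H, e (e.symm y) = y := e.apply_symm_apply
  refine
    { fin := Finite.of_equiv K e.toEquiv
      card6 := by rw [← Nat.card_congr e.toEquiv]; exact h.card6
      card7 := by rw [← Nat.card_congr e.toEquiv]; exact h.card7
      ex81 := ?_
      exp := ?_
      cent := ?_
      nop := ?_
      ten := ?_
      five := ?_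
      center := ?_
      cz5 := ?_
      cz2 := ?_ }
  · obtain ⟨A, hA⟩ := h.ex81
    exact ⟨A.map e.toMonoidHom, hA.map e.injective⟩
  · intro x hx
    have h1 := h.exp (e.symm x) (by rw [← map_pow, hx, map_one])
    apply e.symm.injective
    rw [map_pow, h1, map_one]
  · intro A hA x hx
    have h1 := h.cent _ (h81 A hA) (e.symm x) (by
      intro a ha
      apply e.injective
      rw [map_mul, map_mul, hsymm]
      exact hx _ ha)
    have h2 : e (e.symm x) ∈ A := h1
    rwa [hsymm] at h2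
  · intro A hA U hU hAU
    have h1 := h.nop _ (h81 A hA) (U.comap e.toMonoidHom) (by rw [hcard]; exact hU) (by
      intro a ha u hu
      change e (a * u * a⁻¹) ∈ U
      rw [map_mul, map_mul, map_inv]
      exact hAU _ ha _ hu)
    rw [← hback U, h1, Subgroup.map_bot]
  · intro A hA
    have h1 := h.ten _ (h81 A hA)
    have h2 := xset_congr e (A.comap e.toMonoidHom)
    rw [hback] at h2
    rw [h2]
    exact ⟨h1.1.image _, by rw [Set.ncard_image_of_injective _ e.injective]; exact h1.2⟩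
  · intro A hA
    obtain ⟨n, hn5, hn1, hn⟩ := h.five _ (h81 A hA)
    refine ⟨e n, by rw [← map_pow, hn5, map_one], fun h => hn1 (e.injective (by rw [h, map_one])), ?_⟩
    intro a ha
    have h1 : e.symm a ∈ A.comap e.toMonoidHom := by
      change e (e.symm a) ∈ A
      rw [hsymm]; exact ha
    have h2 : e (n * e.symm a * n⁻¹) ∈ A := hn _ h1
    rwa [map_mul, map_mul, map_inv, hsymm] at h2
  · intro T hT x hx y hy hxT hyT hx1
    have h1 := h.center _ ((hcard T).trans hT) (e.symm x) (by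
      change e (e.symm x) ∈ T
      rw [hsymm]; exact hx) (e.symm y) (by
      change e (e.symm y) ∈ T
      rw [hsymm]; exact hy) (by
      intro t ht
      apply e.injective
      rw [map_mul, map_mul, hsymm]
      exact hxT _ ht) (by
      intro t ht
      apply e.injective
      rw [map_mul, map_mul, hsymm]
      exact hyT _ ht) (fun h => hx1 (by rw [← hsymm x, h, map_one]))
    obtain ⟨k, hk⟩ := mem_zpowers_iff.1 h1
    refine mem_zpowers_iff.2 ⟨k, ?_⟩
    rw [← hsymm y, ← hk, map_zpow, hsymm]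
  · intro z hz1 hz3 hc
    have h1 := h.cz5 (e.symm z) (fun h => hz1 (by rw [← hsymm z, h, map_one]))
      (by rw [← map_pow, hz3, map_one])
    rw [card_centralizer_congr e, hsymm] at h1
    exact h1 hc
  · intro z hz1 hz3 hc
    have h1 := h.cz2 (e.symm z) (fun h => hz1 (by rw [← hsymm z, h, map_one]))
      (by rw [← map_pow, hz3, map_one])
    rw [card_centralizer_congr e, hsymm] at h1
    exact h1 hc

/-- a 3-element `z` with centraliser of order divisible by `3^6` is central in a subgroup of order `3^6` -/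
theorem exists_sylow_of_central {G : Type*} [Group G] [Finite G] (hn : ¬ 3 ^ 7 ∣ Nat.card G) {z : G} (hz : z ^ 3 = 1)
    (hc : 3 ^ 6 ∣ Nat.card (centralizer ({z} : Set G))) :
    ∃ T : Subgroup G, Nat.card T = 3 ^ 6 ∧ z ∈ T ∧ ∀ t ∈ T, t * z = z * t := by
  have h3F := Fact.mk Nat.prime_three
  let C : Subgroup G := centralizer {z}
  have hzC : z ∈ C := mem_centralizer_singleton_iff.2 rfl
  let z' : C := ⟨z, hzC⟩
  have hzn : (zpowers z').Normal := by
    constructor
    intro n hn g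
    have h1 : g * z' = z' * g := Subtype.ext (mem_centralizer_singleton_iff.1 g.2)
    obtain ⟨k, rfl⟩ := mem_zpowers_iff.1 hn
    have h2 : g * z' ^ k * g⁻¹ = z' ^ k := by
      have := (show Commute g z' from h1).zpow_right k
      rw [this.eq, mul_assoc, mul_inv_cancel, mul_one]
    rw [h2]
    exact zpow_mem (mem_zpowers z') k
  have hzp : IsPGroup 3 (zpowers z') := by
    have h1 : orderOf z' ∣ 3 ^ 1 := orderOf_dvd_of_pow_eq_one (Subtype.ext (by rw [pow_one]; exact hz))
    obtain ⟨k, hk, hk'⟩ := (Nat.dvd_prime_pow Nat.prime_three).1 h1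
    exact IsPGroup.of_card (n := k) (by rw [Nat.card_zpowers, hk'])
  obtain ⟨P, hP⟩ := hzp.exists_le_sylow
  refine ⟨(P : Subgroup C).map C.subtype, ?_, ⟨z', hP (mem_zpowers z'), rfl⟩, ?_⟩
  · rw [Subgroup.card_map_of_injective C.subtype_injective]
    obtain ⟨k, hk⟩ := (IsPGroup.iff_card (p := 3)).1 P.isPGroup'
    have h1 : 3 ^ 6 ∣ Nat.card P := P.pow_dvd_card_of_pow_dvd_card hc
    have hk' : Nat.card (P : Subgroup C) = 3 ^ k := hk
    have h2 : Nat.card (P : Subgroup C) ∣ Nat.card G := (card_subgroup_dvd_card _).trans (card_subgroup_dvd_card C)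
    rw [hk] at h1
    rw [hk'] at h2 ⊢
    have h3 : 6 ≤ k := (Nat.pow_dvd_pow_iff_le_right (by norm_num)).1 h1
    have h4 : k ≤ 6 := by
      by_contra hcon
      exact hn ((pow_dvd_pow 3 (by omega : 7 ≤ k)).trans h2)
    rw [le_antisymm h4 h3]
  · rintro _ ⟨t, -, rfl⟩
    exact mem_centralizer_singleton_iff.1 t.2

end Cfsg.Agent.H846
end

-- part: H846/Frame
section
/-!
# Frames: four commuting elements of order 3 (helper846)

`Four x θ` : `x i`, `i < 4`, commuting elements of order dividing 3 and automorphisms `θ i` fixing `x j` for `j ≠ i` and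
moving `x i`. They generate an elementary abelian group of order 81.
* `Four.contra` : no element outside the group commutes with the `x i`;
* `Four.contra_prime` : no nontrivial 3'-subgroup is normalised by the `x i`;
* `Four.contra_quat` : no automorphisms inducing the quaternion group.
-/

set_option autoImplicit false

namespace Cfsg.Agent.H846

open Subgroup
open Cfsg.Agent.Lib.CoprimeHyperplane (pow_val_add)

variable {K : Type*} [Group K]

structure Four (x : Fin 4 → K) (θ : Fin 4 → MulAut K) : Prop where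
  cube : ∀ i, x i ^ 3 = 1
  comm : ∀ i j, x i * x j = x j * x i
  fix : ∀ i j, i ≠ j → θ i (x j) = x j
  move : ∀ i, θ i (x i) ≠ x i

namespace Four

instance : Fact (Nat.Prime 3) := ⟨Nat.prime_three⟩

/-- the parametrisation -/
def f (x : Fin 4 → K) (v : Fin 4 → ZMod 3) : K :=
  x 0 ^ (v 0).val * x 1 ^ (v 1).val * x 2 ^ (v 2).val * x 3 ^ (v 3).val

variable {x : Fin 4 → K} {θ : Fin 4 → MulAut K}

theorem f_zero : f x 0 = 1 := by simp [f]

theorem f_add (h : Four x θ) (v w : Fin 4 → ZMod 3) : f x (v + w) = f x v * f x w := by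
  have hc : ∀ i j (m n : ℕ), x i ^ m * x j ^ n = x j ^ n * x i ^ m := fun i j m n =>
    ((show Commute (x i) (x j) from h.comm i j).pow_pow m n).eq
  unfold f
  simp only [Pi.add_apply]
  rw [pow_val_add (h.cube 0), pow_val_add (h.cube 1), pow_val_add (h.cube 2), pow_val_add (h.cube 3)]
  set a0 := x 0 ^ (v 0).val
  set b0 := x 0 ^ (w 0).val with hb0
  set a1 := x 1 ^ (v 1).val with ha1
  set b1 := x 1 ^ (w 1).val with hb1
  set a2 := x 2 ^ (v 2).val with ha2
  set b2 := x 2 ^ (w 2).val with hb2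
  set a3 := x 3 ^ (v 3).val with ha3
  set b3 := x 3 ^ (w 3).val
  have e1 : b0 * a1 = a1 * b0 := by rw [hb0, ha1]; exact hc 0 1 _ _
  have e2 : b0 * a2 = a2 * b0 := by rw [hb0, ha2]; exact hc 0 2 _ _
  have e3 : b0 * a3 = a3 * b0 := by rw [hb0, ha3]; exact hc 0 3 _ _
  have e4 : b1 * a2 = a2 * b1 := by rw [hb1, ha2]; exact hc 1 2 _ _
  have e5 : b1 * a3 = a3 * b1 := by rw [hb1, ha3]; exact hc 1 3 _ _
  have e6 : b2 * a3 = a3 * b2 := by rw [hb2, ha3]; exact hc 2 3 _ _
  calc a0 * b0 * (a1 * b1) * (a2 * b2) * (a3 * b3)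
      = a0 * (b0 * a1) * b1 * a2 * b2 * a3 * b3 := by group
    _ = a0 * a1 * b0 * (b1 * a2) * b2 * a3 * b3 := by rw [e1]; group
    _ = a0 * a1 * (b0 * a2) * b1 * b2 * a3 * b3 := by rw [e4]; group
    _ = a0 * a1 * a2 * b0 * b1 * (b2 * a3) * b3 := by rw [e2]; group
    _ = a0 * a1 * a2 * b0 * (b1 * a3) * b2 * b3 := by rw [e6]; group
    _ = a0 * a1 * a2 * (b0 * a3) * b1 * b2 * b3 := by rw [e5]; group
    _ = a0 * a1 * a2 * a3 * (b0 * b1 * b2 * b3) := by rw [e3]; group

/-- the homomorphism -/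
def hom (h : Four x θ) : Multiplicative (Fin 4 → ZMod 3) →* K where
  toFun v := f x v.toAdd
  map_one' := f_zero
  map_mul' v w := h.f_add v.toAdd w.toAdd

theorem pow_move (h : Four x θ) (i : Fin 4) {a : ZMod 3} (ha : x i ^ a.val = θ i (x i) ^ a.val) : a = 0 := by
  have h3 := h.cube i
  have h3' : θ i (x i) ^ 3 = 1 := by rw [← map_pow, h3, map_one]
  have hm := h.move i
  have key : ∀ a : ZMod 3, a = 0 ∨ a.val = 1 ∨ a.val = 2 := by decide
  rcases key a with h0 | h0 | h0
  · exact h0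
  · exfalso
    rw [h0, pow_one, pow_one] at ha
    exact hm ha.symm
  · exfalso
    rw [h0] at ha
    apply hm
    have e1 : x i = (x i ^ 2) ^ 2 := by
      rw [← pow_mul]
      calc x i = x i ^ 3 * x i := by rw [h3, one_mul]
        _ = x i ^ (2 * 2) := by group
    have e2 : θ i (x i) = (θ i (x i) ^ 2) ^ 2 := by
      rw [← pow_mul]
      calc θ i (x i) = θ i (x i) ^ 3 * θ i (x i) := by rw [h3', one_mul]
        _ = θ i (x i) ^ (2 * 2) := by group
    calc θ i (x i) = (θ i (x i) ^ 2) ^ 2 := e2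
      _ = (x i ^ 2) ^ 2 := by rw [ha]
      _ = x i := e1.symm

theorem hom_injective (h : Four x θ) : Function.Injective h.hom := by
  rw [injective_iff_map_eq_one]
  intro v hv
  have hv' : f x v.toAdd = 1 := hv
  have key : ∀ i : Fin 4, v.toAdd i = 0 := by
    intro i
    apply h.pow_move i
    have h1 : θ i (f x v.toAdd) = f x v.toAdd := by rw [hv', map_one]
    unfold f at h1
    simp only [map_mul, map_pow] at h1
    fin_cases i
    · simp only [Fin.zero_eta, Fin.isValue] at h1 ⊢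
      rw [h.fix 0 1 (by decide), h.fix 0 2 (by decide), h.fix 0 3 (by decide)] at h1
      exact (mul_right_cancel (mul_right_cancel (mul_right_cancel h1))).symm
    · simp only [Fin.mk_one, Fin.isValue] at h1 ⊢
      rw [h.fix 1 0 (by decide), h.fix 1 2 (by decide), h.fix 1 3 (by decide)] at h1
      exact (mul_left_cancel (mul_right_cancel (mul_right_cancel h1))).symm
    · simp only [Fin.reduceFinMk, Fin.isValue] at h1 ⊢
      rw [h.fix 2 0 (by decide), h.fix 2 1 (by decide), h.fix 2 3 (by decide)] at h1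
      exact (mul_left_cancel (mul_right_cancel h1)).symm
    · simp only [Fin.reduceFinMk, Fin.isValue] at h1 ⊢
      rw [h.fix 3 0 (by decide), h.fix 3 1 (by decide), h.fix 3 2 (by decide)] at h1
      exact (mul_left_cancel h1).symm
  exact funext key

/-- the group generated -/
def grp (h : Four x θ) : Subgroup K := h.hom.range

theorem mem_grp (h : Four x θ) (i : Fin 4) : x i ∈ h.grp := by
  refine ⟨Multiplicative.ofAdd (Pi.single i 1), ?_⟩
  change f x (Pi.single i 1) = x i
  unfold f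
  have h1 : (1 : ZMod 3).val = 1 := rfl
  (revert i; simp only [h1, _root_.Fin.forall_fin_succ, Fin.isValue, _root_.Pi.single_eq_same, _root_.pow_one, _root_.ne_eq, _root_.one_ne_zero, _root_.not_false_eq_true, _root_.Pi.single_eq_of_ne, _root_.ZMod.val_zero, _root_.pow_zero, _root_.mul_one, Fin.reduceEq, _root_.Fin.succ_ne_zero, _root_.Pi.single_eq_of_ne', _root_.one_mul, _root_.Fin.succ_zero_eq_one, _root_.Fin.succ_one_eq_two, Fin.reduceSucc, _root_.IsEmpty.forall_iff, _root_.and_self])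

theorem grp_le (h : Four x θ) {H : Subgroup K} (hH : ∀ i, x i ∈ H) : h.grp ≤ H := by
  rintro y ⟨v, rfl⟩
  change f x v.toAdd ∈ H
  unfold f
  exact mul_mem (mul_mem (mul_mem (pow_mem (hH 0) _) (pow_mem (hH 1) _)) (pow_mem (hH 2) _)) (pow_mem (hH 3) _)

theorem e81 (h : Four x θ) : IsE81 h.grp where
  comm := by
    rintro _ ⟨v, rfl⟩ _ ⟨w, rfl⟩
    rw [← map_mul, ← map_mul, mul_comm]
  cube := by
    rintro _ ⟨v, rfl⟩
    rw [← map_pow]
    have : v ^ 3 = 1 := by
      have h1 : v ^ 3 = Multiplicative.ofAdd (3 • v.toAdd) := rfl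
      rw [h1]
      have h2 : 3 • v.toAdd = 0 := by
        funext i
        change 3 • (v.toAdd i) = 0
        generalize v.toAdd i = a
        revert a
        decide
      rw [h2]
      rfl
    rw [this, map_one]
  card := by
    have h1 : Nat.card h.hom.range = Nat.card (Multiplicative (Fin 4 → ZMod 3)) :=
      (Nat.card_congr (MonoidHom.ofInjective h.hom_injective).toEquiv).symm
    change Nat.card h.hom.range = 81
    rw [h1]
    change Nat.card (Fin 4 → ZMod 3) = 81
    rw [Nat.card_eq_fintype_card, Fintype.card_fun, ZMod.card, Fintype.card_fin]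
    norm_num

/-- an element commuting with the `x i` lies in the group they generate -/
theorem contra (h : Four x θ) (hK : Cond K) {y : K} (hy : ∀ i, y * x i = x i * y) {φ : MulAut K}
    (hφ : ∀ i, φ (x i) = x i) (hφy : φ y ≠ y) : False := by
  have h1 : y ∈ h.grp := by
    apply hK.cent _ h.e81
    have : h.grp ≤ centralizer {y} := h.grp_le fun i => mem_centralizer_singleton_iff.2 (hy i).symm
    intro a ha
    exact (mem_centralizer_singleton_iff.1 (this ha)).symm
  apply hφy
  have h2 : h.grp ≤ φ.toMonoidHom.eqLocus (MonoidHom.id K) := h.grp_le fun i => hφ i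
  exact h2 h1

/-- an element commuting with the `x i` has order dividing 3 -/
theorem contra_pow (h : Four x θ) (hK : Cond K) {y : K} (hy : ∀ i, y * x i = x i * y) (hy3 : y ^ 3 ≠ 1) : False := by
  have h1 : y ∈ h.grp := by
    apply hK.cent _ h.e81
    have : h.grp ≤ centralizer {y} := h.grp_le fun i => mem_centralizer_singleton_iff.2 (hy i).symm
    intro a ha
    exact (mem_centralizer_singleton_iff.1 (this ha)).symm
  exact hy3 (h.e81.cube _ h1)

/-- the `x i` do not normalise a nontrivial 3'-subgroup -/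
theorem contra_prime (h : Four x θ) (hK : Cond K) {U : Subgroup K} (hU3 : ¬ 3 ∣ Nat.card U) (hU : U ≠ ⊥)
    (hn : ∀ i, ∀ u ∈ U, x i * u * (x i)⁻¹ ∈ U) : False := by
  have hfin := hK.fin
  apply hU
  apply hK.nop _ h.e81 U hU3
  have h1 : h.grp ≤ normalizer (U : Set K) := h.grp_le fun i => by
    rw [mem_normalizer_iff]
    have h2 : U.map (MulAut.conj (x i)).toMonoidHom = U := by
      apply Subgroup.eq_of_le_of_card_ge
      · rintro _ ⟨u, hu, rfl⟩
        exact hn i u hu
      · rw [Subgroup.card_map_of_injective (MulAut.conj (x i)).injective]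
    intro u
    constructor
    · exact hn i u
    · intro hu
      rw [← h2] at hu
      obtain ⟨u', hu', he⟩ := hu
      have : u' = u := (MulAut.conj (x i)).injective he
      rwa [← this]
  intro a ha u hu
  exact (mem_normalizer_iff.1 (h1 ha) u).1 hu

/-! ### the quaternion group -/

/-- the vectors -/
abbrev V4 := Fin 4 → ZMod 3

def Iv (v : V4) : V4 := ![-v 1, v 0, -v 3, v 2]
def Jv (v : V4) : V4 := ![-v 2, v 3, v 0, -v 1]

/-- the orbit of a vector under the quaternion group -/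
def orb (v : V4) : Finset V4 := {v, -v, Iv v, -Iv v, Jv v, -Jv v, Jv (Iv v), -Jv (Iv v)}

theorem Iv_neg (v : V4) : Iv (-v) = -Iv v := by funext i; (revert i; simp only [Iv, _root_.Fin.forall_fin_succ, Fin.isValue, _root_.Pi.neg_apply, _root_.neg_neg, _root_.Matrix.cons_val_zero, _root_.Matrix.cons_val_succ, _root_.Matrix.cons_val_fin_one, _root_.implies_true, _root_.and_self])
theorem Jv_neg (v : V4) : Jv (-v) = -Jv v := by funext i; (revert i; simp only [Jv, _root_.Fin.forall_fin_succ, Fin.isValue, _root_.Pi.neg_apply, _root_.neg_neg, _root_.Matrix.cons_val_zero, _root_.Matrix.cons_val_succ, _root_.Matrix.cons_val_fin_one, _root_.implies_true, _root_.and_self])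
theorem Iv_Iv (v : V4) : Iv (Iv v) = -v := by funext i; fin_cases i <;> simp [Iv]
theorem Jv_Jv (v : V4) : Jv (Jv v) = -v := by funext i; fin_cases i <;> simp [Jv]
theorem Iv_Jv (v : V4) : Iv (Jv v) = -Jv (Iv v) := by funext i; (revert i; simp only [Iv, Jv, _root_.Fin.forall_fin_succ, Fin.isValue, _root_.Matrix.cons_val_one, _root_.Matrix.cons_val_zero, _root_.Matrix.cons_val, _root_.neg_neg, _root_.Pi.neg_apply, _root_.Matrix.cons_val_succ, _root_.Matrix.cons_val_fin_one, _root_.implies_true, _root_.and_self])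

theorem orb_I {v w : V4} (h : w ∈ orb v) : Iv w ∈ orb v := by
  simp only [orb, Finset.mem_insert, Finset.mem_singleton] at h ⊢
  rcases h with rfl | rfl | rfl | rfl | rfl | rfl | rfl | rfl
  · simp
  · simp [Iv_neg]
  · simp [Iv_Iv]
  · simp [Iv_neg, Iv_Iv]
  · simp [Iv_Jv]
  · simp [Iv_neg, Iv_Jv]
  · simp [Iv_Jv, Iv_Iv, Jv_neg]
  · simp [Iv_neg, Iv_Jv, Iv_Iv, Jv_neg]

theorem orb_J {v w : V4} (h : w ∈ orb v) : Jv w ∈ orb v := by
  simp only [orb, Finset.mem_insert, Finset.mem_singleton] at h ⊢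
  rcases h with rfl | rfl | rfl | rfl | rfl | rfl | rfl | rfl
  · simp
  · simp [Jv_neg]
  · simp
  · simp [Jv_neg]
  · simp [Jv_Jv]
  · simp [Jv_neg, Jv_Jv]
  · simp [Jv_Jv]
  · simp [Jv_neg, Jv_Jv]

theorem orb_I' {v w : V4} (h : Iv w ∈ orb v) : w ∈ orb v := by
  have h1 := orb_I (orb_I (orb_I h))
  simpa [Iv_Iv, Iv_neg] using h1

theorem orb_J' {v w : V4} (h : Jv w ∈ orb v) : w ∈ orb v := by
  have h1 := orb_J (orb_J (orb_J h))
  simpa [Jv_Jv, Jv_neg] using h1

theorem card_orb : ∀ v : V4, v ≠ 0 → (orb v).card = 8 := by decide +kernel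

theorem eight_dvd (n : ℕ) : ∀ X : Finset V4, X.card = n → (0 : V4) ∉ X → (∀ v ∈ X, Iv v ∈ X) → (∀ v ∈ X, Jv v ∈ X) →
    8 ∣ X.card := by
  induction n using Nat.strong_induction_on with
  | _ n ih =>
    intro X hX h0 hI hJ
    rcases X.eq_empty_or_nonempty with rfl | ⟨v, hv⟩
    · simp
    · have hv0 : v ≠ 0 := fun h => h0 (h ▸ hv)
      have hsub : orb v ⊆ X := by
        intro w hw
        simp only [orb, Finset.mem_insert, Finset.mem_singleton] at hw
        have hneg : ∀ u ∈ X, -u ∈ X := fun u hu => by rw [← Iv_Iv]; exact hI _ (hI _ hu)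
        rcases hw with rfl | rfl | rfl | rfl | rfl | rfl | rfl | rfl
        · exact hv
        · exact hneg _ hv
        · exact hI _ hv
        · exact hneg _ (hI _ hv)
        · exact hJ _ hv
        · exact hneg _ (hJ _ hv)
        · exact hJ _ (hI _ hv)
        · exact hneg _ (hJ _ (hI _ hv))
      have hc := Finset.card_sdiff_add_card_eq_card hsub
      rw [card_orb v hv0] at hc
      have h4 := ih (X \ orb v).card (by omega) (X \ orb v) rfl
        (fun h => h0 (Finset.mem_sdiff.1 h).1)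
        (fun w hw => Finset.mem_sdiff.2 ⟨hI _ (Finset.mem_sdiff.1 hw).1, fun h => (Finset.mem_sdiff.1 hw).2 (orb_I' h)⟩)
        (fun w hw => Finset.mem_sdiff.2 ⟨hJ _ (Finset.mem_sdiff.1 hw).1, fun h => (Finset.mem_sdiff.1 hw).2 (orb_J' h)⟩)
      rw [← hc]
      exact Nat.dvd_add h4 (dvd_refl 8)

theorem f_Iv (h : Four x θ) {I : MulAut K} (h0 : I (x 0) = x 1) (h1 : I (x 1) = (x 0)⁻¹) (h2 : I (x 2) = x 3)
    (h3 : I (x 3) = (x 2)⁻¹) (v : V4) : I (f x v) = f x (Iv v) := by
  have hneg : ∀ i (a : ZMod 3), (x i)⁻¹ ^ a.val = x i ^ (-a).val := by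
    intro i a
    have hc := h.cube i
    have e : (x i)⁻¹ = x i ^ 2 := by
      rw [inv_eq_iff_mul_eq_one, ← pow_succ']; exact hc
    have key : ∀ a : ZMod 3, ∃ k < 3, 2 * a.val = (-a).val + 3 * k := by decide
    obtain ⟨k, -, hk⟩ := key a
    rw [e, ← pow_mul, hk, pow_add, pow_mul, hc, one_pow, mul_one]
  have hc : ∀ i j (m n : ℕ), x i ^ m * x j ^ n = x j ^ n * x i ^ m := fun i j m n =>
    ((show Commute (x i) (x j) from h.comm i j).pow_pow m n).eq
  unfold f
  simp only [map_mul, map_pow, h0, h1, h2, h3, hneg]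
  change x 1 ^ (v 0).val * x 0 ^ (-v 1).val * x 3 ^ (v 2).val * x 2 ^ (-v 3).val =
    x 0 ^ (-v 1).val * x 1 ^ (v 0).val * x 2 ^ (-v 3).val * x 3 ^ (v 2).val
  rw [hc 1 0, mul_assoc _ (x 3 ^ _) (x 2 ^ _), hc 3 2, ← mul_assoc]

theorem f_Jv (h : Four x θ) {I : MulAut K} (h0 : I (x 0) = x 2) (h1 : I (x 2) = (x 0)⁻¹) (h2 : I (x 1) = (x 3)⁻¹)
    (h3 : I (x 3) = x 1) (v : V4) : I (f x v) = f x (Jv v) := by
  have hneg : ∀ i (a : ZMod 3), (x i)⁻¹ ^ a.val = x i ^ (-a).val := by
    intro i a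
    have hc := h.cube i
    have e : (x i)⁻¹ = x i ^ 2 := by
      rw [inv_eq_iff_mul_eq_one, ← pow_succ']; exact hc
    have key : ∀ a : ZMod 3, ∃ k < 3, 2 * a.val = (-a).val + 3 * k := by decide
    obtain ⟨k, -, hk⟩ := key a
    rw [e, ← pow_mul, hk, pow_add, pow_mul, hc, one_pow, mul_one]
  have hc : ∀ i j (m n : ℕ), x i ^ m * x j ^ n = x j ^ n * x i ^ m := fun i j m n =>
    ((show Commute (x i) (x j) from h.comm i j).pow_pow m n).eq
  unfold f
  simp only [map_mul, map_pow, h0, h1, h2, h3, hneg]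
  change x 2 ^ (v 0).val * x 3 ^ (-v 1).val * x 0 ^ (-v 2).val * x 1 ^ (v 3).val =
    x 0 ^ (-v 2).val * x 1 ^ (v 3).val * x 2 ^ (v 0).val * x 3 ^ (-v 1).val
  rw [hc 2 3, mul_assoc (x 3 ^ _) (x 2 ^ _) (x 0 ^ _), hc 2 0, ← mul_assoc, hc 3 0,
    mul_assoc _ (x 2 ^ _) (x 1 ^ _), hc 2 1, ← mul_assoc, mul_assoc _ (x 3 ^ _) (x 1 ^ _), hc 3 1, ← mul_assoc,
    mul_assoc _ (x 3 ^ _) (x 2 ^ _), hc 3 2, ← mul_assoc]

/-- no automorphisms inducing the quaternion group -/
theorem contra_quat (h : Four x θ) (hK : Cond K) {I J : MulAut K} (I0 : I (x 0) = x 1) (I1 : I (x 1) = (x 0)⁻¹)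
    (I2 : I (x 2) = x 3) (I3 : I (x 3) = (x 2)⁻¹) (J0 : J (x 0) = x 2) (J2 : J (x 2) = (x 0)⁻¹)
    (J1 : J (x 1) = (x 3)⁻¹) (J3 : J (x 3) = x 1) : False := by
  classical
  have hfin := hK.fin
  obtain ⟨hne, hdvd⟩ := hK.ten _ h.e81
  have hmap : ∀ φ : MulAut K, (∀ i, φ (x i) ∈ h.grp) → h.grp.map φ.toMonoidHom = h.grp := by
    intro φ hφ
    apply Subgroup.eq_of_le_of_card_ge
    · rw [Subgroup.map_le_iff_le_comap]
      exact h.grp_le hφ
    · rw [Subgroup.card_map_of_injective φ.injective]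
  have hI : h.grp.map I.toMonoidHom = h.grp := hmap I (by
    intro i
    fin_cases i
    · exact I0 ▸ h.mem_grp 1
    · exact I1 ▸ inv_mem (h.mem_grp 0)
    · exact I2 ▸ h.mem_grp 3
    · exact I3 ▸ inv_mem (h.mem_grp 2))
  have hJ : h.grp.map J.toMonoidHom = h.grp := hmap J (by
    intro i
    fin_cases i
    · exact J0 ▸ h.mem_grp 2
    · exact J1 ▸ inv_mem (h.mem_grp 3)
    · exact J2 ▸ inv_mem (h.mem_grp 0)
    · exact J3 ▸ h.mem_grp 1)
  let X : Finset V4 := Finset.univ.filter fun v => f x v ∈ XSet h.grp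
  have hX : ∀ v, v ∈ X ↔ f x v ∈ XSet h.grp := fun v => by simp [X]
  have h8 := eight_dvd _ X rfl (by
    rw [hX, f_zero]
    rintro ⟨-, h1, -⟩
    exact h1 rfl) (by
    intro v hv
    rw [hX] at hv ⊢
    rw [← h.f_Iv I0 I1 I2 I3]
    have := mem_xset_congr I hv
    rwa [hI] at this) (by
    intro v hv
    rw [hX] at hv ⊢
    rw [← h.f_Jv J0 J2 J1 J3]
    have := mem_xset_congr J hv
    rwa [hJ] at this)
  have hcard : (XSet h.grp).ncard = X.card := by
    have h1 : XSet h.grp = (fun v => f x v) '' (X : Set V4) := by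
      ext y
      constructor
      · intro hy
        obtain ⟨v, hv⟩ := hy.1
        refine ⟨v.toAdd, ?_, hv⟩
        rw [Finset.mem_coe, hX]
        have : f x v.toAdd = y := hv
        rw [this]; exact hy
      · rintro ⟨v, hv, rfl⟩
        exact (hX v).1 hv
    rw [h1, Set.ncard_image_of_injective, Set.ncard_coe_finset]
    intro v w hvw
    exact h.hom_injective (a₁ := Multiplicative.ofAdd v) (a₂ := Multiplicative.ofAdd w) hvw
  rw [hcard] at hdvd
  have h9 := h8.trans hdvd
  omega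

end Four

end Cfsg.Agent.H846
end

-- part: H846/Elim/Val
section
/-!
# 3-adic valuations of `q ^ k ± 1` (helper846)
-/

set_option autoImplicit false

namespace Cfsg.Agent.H846.Val

instance : Fact (Nat.Prime 3) := ⟨Nat.prime_three⟩

abbrev v (n : ℕ) : ℕ := padicValNat 3 n

theorem v_mul {a b : ℕ} (ha : a ≠ 0) (hb : b ≠ 0) : v (a * b) = v a + v b := padicValNat.mul ha hb

theorem v_of_not {n : ℕ} (h : n % 3 ≠ 0) : v n = 0 :=
  padicValNat.eq_zero_of_not_dvd (fun h' => h (Nat.mod_eq_zero_of_dvd h'))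

theorem v_pow (a n : ℕ) : v (a ^ n) = n * v a := padicValNat.pow a n

theorem dvd_iff {n k : ℕ} (hn : n ≠ 0) : 3 ^ k ∣ n ↔ k ≤ v n := padicValNat_dvd_iff_le hn

theorem v_eq {n k : ℕ} (h1 : 3 ^ k ∣ n) (h2 : ¬ 3 ^ (k + 1) ∣ n) (hn : n ≠ 0) : v n = k := by
  rw [dvd_iff hn] at h1 h2
  omega

theorem v_three : v 3 = 1 := by simp [v]

theorem v_mul_three {n : ℕ} (hn : n ≠ 0) : v (3 * n) = 1 + v n := by
  rw [v_mul (by norm_num) hn, v_three]

theorem v_one : v 1 = 0 := v_of_not (by norm_num)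
theorem v_two : v 2 = 0 := v_of_not (by norm_num)
theorem v_four : v 4 = 0 := v_of_not (by norm_num)
theorem v_five : v 5 = 0 := v_of_not (by norm_num)
theorem v_six : v 6 = 1 := by rw [show 6 = 3 * 2 from rfl, v_mul_three (by norm_num), v_two]
theorem v_seven : v 7 = 0 := v_of_not (by norm_num)
theorem v_eight : v 8 = 0 := v_of_not (by norm_num)
theorem v_nine : v 9 = 2 := by rw [show 9 = 3 * 3 from rfl, v_mul_three (by norm_num), v_three]
theorem mod_one_pow {q k : ℕ} (hq : q % 3 = 1) : q ^ k % 3 = 1 := by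
  simp [Nat.pow_mod, hq]

theorem mod_two_pow_odd {q k : ℕ} (hq : q % 3 = 2) (hk : k % 2 = 1) : q ^ k % 3 = 2 := by
  obtain ⟨j, rfl⟩ : ∃ j, k = 2 * j + 1 := ⟨k / 2, by omega⟩
  rw [pow_succ, pow_mul, Nat.mul_mod, Nat.pow_mod, Nat.pow_mod q 2, hq]
  norm_num

theorem mod_two_pow_even {q k : ℕ} (hq : q % 3 = 2) (hk : k % 2 = 0) : q ^ k % 3 = 1 := by
  obtain ⟨j, rfl⟩ : ∃ j, k = 2 * j := ⟨k / 2, by omega⟩
  rw [pow_mul, Nat.pow_mod, Nat.pow_mod q 2, hq]
  norm_num

variable {q : ℕ}

theorem one_lt (hq2 : 2 ≤ q) {k : ℕ} (hk : k ≠ 0) : 1 < q ^ k := Nat.one_lt_pow hk hq2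

theorem sub_ne (hq2 : 2 ≤ q) {k : ℕ} (hk : k ≠ 0) : q ^ k - 1 ≠ 0 := by
  have := one_lt hq2 hk
  omega

/-- `a = v (q² - 1)` for `q ≡ 1` -/
theorem v_sub_one (hq : q % 3 = 1) (hq2 : 2 ≤ q) : v (q - 1) = v (q ^ 2 - 1) := by
  have h1 : q ^ 2 - 1 = (q + 1) * (q - 1) := by
    have := Nat.sq_sub_sq q 1
    rwa [one_pow] at this
  rw [h1, v_mul (by omega) (by omega), v_of_not (n := q + 1) (by omega), zero_add]

theorem v_add_one (hq : q % 3 = 2) : v (q + 1) = v (q ^ 2 - 1) := by
  have h1 : q ^ 2 - 1 = (q + 1) * (q - 1) := by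
    have := Nat.sq_sub_sq q 1
    rwa [one_pow] at this
  rw [h1, v_mul (by omega) (by omega), v_of_not (n := q - 1) (by omega), add_zero]

theorem a_pos (hq : q % 3 ≠ 0) (hq2 : 2 ≤ q) : 1 ≤ v (q ^ 2 - 1) := by
  have h1 : q ^ 2 % 3 = 1 := by
    have : q % 3 = 1 ∨ q % 3 = 2 := by omega
    rcases this with h | h
    · exact mod_one_pow h
    · exact mod_two_pow_even h rfl
  rw [← dvd_iff (sub_ne hq2 (by norm_num)), pow_one]
  have := one_lt hq2 (k := 2) (by norm_num)
  omega

theorem v_even (hq : q % 3 ≠ 0) (hq2 : 2 ≤ q) {k : ℕ} (hk : k ≠ 0) : v (q ^ (2 * k) - 1) = v (q ^ 2 - 1) + v k := by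
  have h1 : q ^ 2 % 3 = 1 := by
    have : q % 3 = 1 ∨ q % 3 = 2 := by omega
    rcases this with h | h
    · exact mod_one_pow h
    · exact mod_two_pow_even h rfl
  have h2 := one_lt hq2 (k := 2) (by norm_num)
  have := padicValNat.pow_sub_pow (p := 3) (x := q ^ 2) (y := 1) (by decide) h2 (by omega) (by omega) hk
  rw [one_pow, ← pow_mul] at this
  exact this

theorem v_any (hq : q % 3 = 1) (hq2 : 2 ≤ q) {k : ℕ} (hk : k ≠ 0) : v (q ^ k - 1) = v (q ^ 2 - 1) + v k := by
  have := padicValNat.pow_sub_pow (p := 3) (x := q) (y := 1) (by decide) (by omega) (by omega) (by omega) hk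
  rw [one_pow] at this
  rw [← v_sub_one hq hq2]
  exact this

theorem v_odd (hq : q % 3 = 2) (hq2 : 2 ≤ q) {k : ℕ} (hk : k % 2 = 1) : v (q ^ k - 1) = 0 := by
  apply v_of_not
  have h1 := mod_two_pow_odd hq hk
  have h2 := one_lt hq2 (k := k) (by omega)
  omega

theorem v_plus_one (hq : q % 3 = 1) {k : ℕ} : v (q ^ k + 1) = 0 := by
  apply v_of_not
  have h1 := mod_one_pow (k := k) hq
  omega

theorem v_plus_even (hq : q % 3 = 2) {k : ℕ} (hk : k % 2 = 0) : v (q ^ k + 1) = 0 := by
  apply v_of_not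
  have h1 := mod_two_pow_even hq hk
  omega

theorem v_plus_odd (hq : q % 3 = 2) {k : ℕ} (hk : k % 2 = 1) : v (q ^ k + 1) = v (q ^ 2 - 1) + v k := by
  have := padicValNat.pow_add_pow (p := 3) (x := q) (y := 1) (by decide) (by omega) (by omega)
    (Nat.odd_iff.2 hk)
  rw [one_pow] at this
  rw [← v_add_one hq]
  exact this

/-- characteristic 3 -/
theorem v_sub_three (hq : q % 3 = 0) (hq2 : 2 ≤ q) {k : ℕ} (hk : k ≠ 0) : v (q ^ k - 1) = 0 := by
  apply v_of_not
  have h1 : q ^ k % 3 = 0 := by simp [Nat.pow_mod, hq, zero_pow hk]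
  have h2 := one_lt hq2 hk
  omega

theorem v_add_three (hq : q % 3 = 0) {k : ℕ} (hk : k ≠ 0) : v (q ^ k + 1) = 0 := by
  apply v_of_not
  have h1 : q ^ k % 3 = 0 := by simp [Nat.pow_mod, hq, zero_pow hk]
  omega

end Cfsg.Agent.H846.Val
end

-- part: H846/Elim/Basic
section
/-!
# Consequences of `Cond` (helper846)
-/

set_option autoImplicit false

namespace Cfsg.Agent.H846

open Subgroup Val

namespace Cond

variable {K : Type*} [Group K]

theorem v_card (h : Cond K) : v (Nat.card K) = 6 := by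
  have := h.fin
  exact v_eq h.card6 h.card7 Nat.card_pos.ne'

theorem no27 (h : Cond K) {x : K} (hx : orderOf x = 27) : False := by
  have h1 : x ^ 27 = 1 := by rw [← hx]; exact pow_orderOf_eq_one x
  have h2 := orderOf_dvd_of_pow_eq_one (h.exp x h1)
  rw [hx] at h2
  omega

/-- an injective image -/
theorem no27_hom (h : Cond K) {H : Type*} [Group H] (f : H →* K) {x : H} (hx : orderOf x = 27)
    (hf : ∀ n < 27, 0 < n → f (x ^ n) ≠ 1) : False := by
  apply h.no27 (x := f x)
  have h1 : (f x) ^ 27 = 1 := by rw [← map_pow, ← hx, pow_orderOf_eq_one, map_one]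
  have h2 : orderOf (f x) ∣ 27 := orderOf_dvd_of_pow_eq_one h1
  have h3 : orderOf (f x) ≤ 27 := Nat.le_of_dvd (by norm_num) h2
  by_contra hne
  have h4 : orderOf (f x) < 27 := lt_of_le_of_ne h3 hne
  have h5 : 0 < orderOf (f x) := Nat.pos_of_ne_zero (fun h0 => by rw [h0] at h2; omega)
  apply hf _ h4 h5
  rw [map_pow, pow_orderOf_eq_one]

end Cond

/-- 3-subgroups of `SL_2(q)` are cyclic: an element of order 27 -/
theorem exists_27 {F : Type*} [Field F] [Fintype F] (h3 : Fintype.card F % 3 ≠ 0) {H : Type*} [Group H] [Finite H]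
    (f : H →* Matrix.SpecialLinearGroup (Fin 2) F) (hf : Function.Injective f) (h27 : 27 ∣ Nat.card H) :
    ∃ x : H, orderOf x = 27 := by
  classical
  have h3F := Fact.mk Nat.prime_three
  obtain ⟨p, hp⟩ := CharP.exists F
  have hpp : Fact p.Prime := ⟨CharP.char_is_prime F p⟩
  have hp3 : 3 ≠ p := by
    rintro rfl
    obtain ⟨n, hn, hc⟩ := FiniteField.card F 3
    rw [hc] at h3
    apply h3
    have : (3 : ℕ) ∣ 3 ^ (n : ℕ) := dvd_pow_self 3 n.pos.ne'
    exact Nat.mod_eq_zero_of_dvd this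
  let P : Sylow 3 H := default
  have hPp : IsPGroup 3 ((P : Subgroup H).map f) := P.isPGroup'.map f
  obtain ⟨R, hR⟩ := hPp.exists_le_sylow
  have hcyc : IsCyclic (R : Subgroup (Matrix.SpecialLinearGroup (Fin 2) F)) :=
    S0262.result p 3 (by norm_num) hp3 R
  have hcycP : IsCyclic P := by
    let g : P →* R :=
      { toFun := fun x => ⟨f x, hR (mem_map_of_mem f x.2)⟩
        map_one' := Subtype.ext (map_one f)
        map_mul' := fun a b => Subtype.ext (map_mul f (a : H) (b : H)) }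
    have hg : Function.Injective g := by
      intro a b hab
      exact Subtype.ext (hf (congrArg Subtype.val hab))
    exact isCyclic_of_injective g hg
  obtain ⟨x, hx⟩ := hcycP.exists_generator
  have hP27 : 3 ^ 3 ∣ Nat.card P := P.pow_dvd_card_of_pow_dvd_card h27
  have ho : orderOf x = Nat.card P := by
    rw [← Nat.card_zpowers]
    have : zpowers x = ⊤ := by
      rw [eq_top_iff]
      intro y _
      exact hx y
    rw [this, Subgroup.card_top]
  obtain ⟨k, hk⟩ := hP27
  refine ⟨((x ^ k : P) : H), ?_⟩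
  rw [Subgroup.orderOf_coe, orderOf_pow, ho, hk]
  have hk0 : 0 < k := by
    rcases Nat.eq_zero_or_pos k with h0 | h0
    · rw [h0, mul_zero] at hk
      exact absurd hk Nat.card_pos.ne'
    · exact h0
  rw [Nat.gcd_eq_right (dvd_mul_left k (3 ^ 3)), Nat.mul_div_cancel _ hk0]
  norm_num

end Cfsg.Agent.H846
end

-- part: H846/Elim/Pi
section
/-!
# `Cond` and commuting subgroups `SL_2(q)` (helper846)
-/

set_option autoImplicit false

namespace Cfsg.Agent.H846.Elim

open Subgroup Matrix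
open Cfsg.Agent.Sigma.Symp (three three_pow upper coe_upper dia coe_dia dia_mul dia_one dia_pow upper_injective dia_upper)

variable {F : Type*} [Field F]

abbrev SL2 (F : Type*) [Field F] := Matrix.SpecialLinearGroup (Fin 2) F

/-- the elementary matrix -/
abbrev up1 (F : Type*) [Field F] : SL2 F := upper F (Multiplicative.ofAdd 1)

/-- the commutator of `up1` and `three` -/
def cc (F : Type*) [Field F] : SL2 F := ⟨!![2, 1; 1, 1], by simp [Matrix.det_fin_two]; norm_num⟩

theorem cc_eq : up1 F * three F = cc F * (three F * up1 F) := by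
  apply Subtype.ext
  simp only [Matrix.SpecialLinearGroup.coe_mul, coe_upper]
  simp only [cc, three]
  ext i j
  (revert i j; simp only [Matrix.mul_apply, Fin.sum_univ_two, _root_.Fin.forall_fin_succ, _root_.Matrix.of_apply, _root_.Matrix.cons_val', _root_.Matrix.cons_val_fin_one, Fin.isValue, _root_.Matrix.cons_val_zero, _root_.Matrix.cons_val_one, _root_.Matrix.cons_mul, _root_.Nat.succ_eq_add_one, Nat.reduceAdd, _root_.Matrix.vecMul_cons, _root_.Matrix.head_cons, _root_.zero_smul, _root_.Matrix.tail_cons, _root_.neg_smul, _root_.one_smul, _root_.Matrix.neg_cons, _root_.neg_zero, _root_.Matrix.neg_empty, _root_.Matrix.empty_vecMul, _root_.add_zero, _root_.zero_add, _root_.Matrix.add_cons, _root_.add_neg_cancel, _root_.Matrix.empty_add_empty, _root_.Matrix.empty_mul, _root_.Equiv.symm_apply_apply, _root_.MulZeroClass.mul_zero, _root_.mul_one, _root_.Matrix.cons_val_succ, _root_.mul_neg, _root_.forall_const, _root_.true_and, _root_.implies_true, _root_.and_true])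 <;> (repeat' with_reducible apply And.intro) <;> norm_num

theorem ne_of_entry {c : SL2 F} (h : (c : Matrix (Fin 2) (Fin 2) F) 0 1 ≠ 0) : ¬ (c = 1 ∨ c = -1) := by
  rintro (rfl | rfl)
  · exact h (by simp)
  · exact h (by simp)

theorem cc_ne : ¬ (cc F = 1 ∨ cc F = -1) := ne_of_entry (by simp [cc])

theorem single_comm {ι M : Type*} [DecidableEq ι] [Group M] (i : ι) {a b : M} (h : a * b = b * a) :
    (Pi.mulSingle i a : ι → M) * Pi.mulSingle i b = Pi.mulSingle i b * Pi.mulSingle i a := by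
  rw [← Pi.mulSingle_mul, ← Pi.mulSingle_mul, h]

theorem three_ne {h3 : Fintype F} (h : Fintype.card F % 3 ≠ 0) : (3 : F) ≠ 0 := by
  intro h0
  obtain ⟨p, hp⟩ := CharP.exists F
  have hpp : Fact p.Prime := ⟨CharP.char_is_prime F p⟩
  have h1 : ((3 : ℕ) : F) = 0 := by exact_mod_cast h0
  rw [CharP.cast_eq_zero_iff F p] at h1
  have h2 := (Nat.prime_dvd_prime_iff_eq hpp.out Nat.prime_three).1 h1
  subst h2
  obtain ⟨n, hn, hc⟩ := FiniteField.card F 3
  rw [hc] at h
  apply h
  have : (3 : ℕ) ∣ 3 ^ (n : ℕ) := dvd_pow_self 3 n.pos.ne'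
  exact Nat.mod_eq_zero_of_dvd this

variable {K : Type*} [Group K]

/-- four commuting copies of a group -/
theorem four_of_pi' {ι M : Type*} [DecidableEq ι] [Group M] (j : Fin 4 → ι) (hj : Function.Injective j)
    (f : (ι → M) →* K) {x g c : M} (hx : x ^ 3 = 1) (hc : g * x = c * (x * g))
    (hf : ∀ i, f (Pi.mulSingle i c) ≠ 1) :
    Four (fun i => f (Pi.mulSingle (j i) x)) (fun i => MulAut.conj (f (Pi.mulSingle (j i) g))) where
  cube i := by rw [← map_pow, ← Pi.mulSingle_pow, hx, Pi.mulSingle_one, map_one]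
  comm i k := by
    rcases eq_or_ne i k with rfl | hik
    · rfl
    · rw [← map_mul, ← map_mul]
      congr 1
      exact (Pi.mulSingle_commute (hj.ne hik) _ _).eq
  fix i k hik := by
    change f (Pi.mulSingle (j i) g) * f (Pi.mulSingle (j k) x) * (f (Pi.mulSingle (j i) g))⁻¹ = _
    rw [← map_mul, (Pi.mulSingle_commute (hj.ne hik) _ _).eq, map_mul, mul_assoc, mul_inv_cancel, mul_one]
  move i := by
    intro h
    change f (Pi.mulSingle (j i) g) * f (Pi.mulSingle (j i) x) * (f (Pi.mulSingle (j i) g))⁻¹ = _ at h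
    rw [mul_inv_eq_iff_eq_mul, ← map_mul, ← map_mul, ← Pi.mulSingle_mul, ← Pi.mulSingle_mul, hc,
      Pi.mulSingle_mul, map_mul] at h
    have h1 : f (Pi.mulSingle (j i) c) = 1 := by
      have := mul_right_cancel (a := f (Pi.mulSingle (j i) c)) (c := 1) (by rw [one_mul]; exact h)
      exact this
    exact hf _ h1

/-- four commuting copies of `SL_2(q)` -/
theorem four_of_pi {ι : Type*} [DecidableEq ι] (j : Fin 4 → ι) (hj : Function.Injective j)
    (f : (ι → SL2 F) →* K) (hf : ∀ i (c : SL2 F), f (Pi.mulSingle i c) = 1 → c = 1 ∨ c = -1) :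
    Four (fun i => f (Pi.mulSingle (j i) (three F))) (fun i => MulAut.conj (f (Pi.mulSingle (j i) (up1 F)))) :=
  four_of_pi' j hj f three_pow cc_eq fun i h => cc_ne (hf i _ h)

/-- five commuting copies -/
theorem pi5 (hK : Cond K) (f : (Fin 5 → SL2 F) →* K)
    (hf : ∀ i (c : SL2 F), f (Pi.mulSingle i c) = 1 → c = 1 ∨ c = -1) : False := by
  have h4 := four_of_pi (F := F) (Fin.castSucc : Fin 4 → Fin 5) (Fin.castSucc_injective _) f hf
  refine h4.contra hK (y := f (Pi.mulSingle 4 (three F))) (φ := MulAut.conj (f (Pi.mulSingle 4 (up1 F)))) ?_ ?_ ?_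
  · intro i
    rw [← map_mul, ← map_mul]
    congr 1
    refine (Pi.mulSingle_commute ?_ _ _).eq
    intro h
    have := congrArg Fin.val h
    simp at this
    omega
  · intro i
    change f (Pi.mulSingle 4 (up1 F)) * f (Pi.mulSingle i.castSucc (three F)) * (f (Pi.mulSingle 4 (up1 F)))⁻¹ = _
    have hne : (4 : Fin 5) ≠ i.castSucc := by
      intro h
      have := congrArg Fin.val h
      simp at this
      omega
    rw [← map_mul, (Pi.mulSingle_commute hne _ _).eq, map_mul, mul_assoc, mul_inv_cancel, mul_one]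
  · intro h
    change f (Pi.mulSingle 4 (up1 F)) * f (Pi.mulSingle 4 (three F)) * (f (Pi.mulSingle 4 (up1 F)))⁻¹ = _ at h
    rw [mul_inv_eq_iff_eq_mul, ← map_mul, ← map_mul, ← Pi.mulSingle_mul, ← Pi.mulSingle_mul, cc_eq,
      Pi.mulSingle_mul, map_mul] at h
    have h1 : f (Pi.mulSingle 4 (cc F)) = 1 := by
      have := mul_right_cancel (a := f (Pi.mulSingle 4 (cc F))) (c := 1) (by rw [one_mul]; exact h)
      exact this
    exact cc_ne (hf _ _ h1)

/-- four copies with nontrivial `-1` -/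
theorem pi4_odd (hK : Cond K) (f : (Fin 4 → SL2 F) →* K)
    (hf : ∀ i (c : SL2 F), f (Pi.mulSingle i c) = 1 → c = 1 ∨ c = -1) (h1 : f (Pi.mulSingle 0 (-1)) ≠ 1) : False := by
  have h4 := four_of_pi (F := F) (id : Fin 4 → Fin 4) Function.injective_id f hf
  refine h4.contra_pow hK (y := f (Pi.mulSingle 0 (-1))) ?_ ?_
  · intro i
    rw [← map_mul, ← map_mul]
    congr 1
    rcases eq_or_ne 0 i with rfl | hi
    · exact single_comm 0 (by rw [neg_one_mul, mul_neg_one])
    · exact (Pi.mulSingle_commute hi _ _).eq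
  · rw [← map_pow, ← Pi.mulSingle_pow]
    have : (-1 : SL2 F) ^ 3 = -1 := by
      rw [pow_succ, neg_one_sq, one_mul]
    rw [this]
    exact h1

/-- four copies, `q ≡ 1 (mod 3)` -/
theorem pi4_one [Finite F] (hK : Cond K) (hq3 : ¬ 3 ∣ Nat.card F) (h3 : (3 : F) ≠ 0) {w : F}
    (hw : w ^ 2 + w + 1 = 0) (f : (Fin 4 → SL2 F) →* K)
    (hf : ∀ i (c : SL2 F), f (Pi.mulSingle i c) = 1 → c = 1 ∨ c = -1) : False := by
  have hw0 : w ≠ 0 := by
    rintro rfl
    simp at hw
  have hw3 : w ^ 3 = 1 := by linear_combination (w - 1) * hw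
  have hw1 : w ^ 2 ≠ 1 := by
    intro h
    apply h3
    have h1 : w = -2 := by linear_combination hw - h
    rw [h1] at h
    linear_combination h
  let u : Fˣ := Units.mk0 w hw0
  have hu3 : u ^ 3 = 1 := Units.ext (by rw [Units.val_pow_eq_pow_val, Units.val_mk0, hw3, Units.val_one])
  let e : SL2 F := dia u
  have he3 : e ^ 3 = 1 := by rw [dia_pow, hu3, dia_one]
  have hconj : ∀ t : F, e * upper F (Multiplicative.ofAdd t) * e⁻¹ = upper F (Multiplicative.ofAdd (w ^ 2 * t)) := by
    intro t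
    rw [mul_inv_eq_iff_eq_mul, dia_upper]
    rfl
  -- the commutator of `up1` and `e`
  have hcomm : up1 F * e = upper F (Multiplicative.ofAdd (1 - w ^ 2)) * (e * up1 F) := by
    have h1 := hconj 1
    rw [mul_inv_eq_iff_eq_mul, mul_one] at h1
    rw [h1, ← mul_assoc, ← map_mul, ← ofAdd_add, sub_add_cancel]
  have hne : ∀ t : F, t ≠ 0 → ¬ (upper F (Multiplicative.ofAdd t) = 1 ∨ upper F (Multiplicative.ofAdd t) = -1) := by
    intro t ht
    apply ne_of_entry
    rw [coe_upper]
    simpa using ht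
  have h4 := four_of_pi' (id : Fin 4 → Fin 4) Function.injective_id f he3 hcomm
    (fun i h => hne _ (sub_ne_zero.2 (Ne.symm hw1)) (hf i _ h))
  -- the unipotent group
  let g : Multiplicative F →* K := (f.comp (MonoidHom.mulSingle (fun _ : Fin 4 => SL2 F) 0)).comp (upper F)
  have hg : ∀ t : F, g (Multiplicative.ofAdd t) = f (Pi.mulSingle 0 (upper F (Multiplicative.ofAdd t))) := fun t => rfl
  refine h4.contra_prime hK (U := g.range) ?_ ?_ ?_
  · intro h
    apply hq3
    have h1 : Nat.card g.range ∣ Nat.card (Multiplicative F) := by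
      rw [← Subgroup.index_ker]
      exact Subgroup.index_dvd_card _
    exact h.trans h1
  · intro h
    have h1 : g (Multiplicative.ofAdd 1) ∈ g.range := ⟨_, rfl⟩
    rw [h, mem_bot, hg] at h1
    exact hne 1 one_ne_zero (hf 0 _ h1)
  · rintro i _ ⟨t, rfl⟩
    change f (Pi.mulSingle i e) * f (Pi.mulSingle 0 (upper F t)) * (f (Pi.mulSingle i e))⁻¹ ∈ g.range
    rcases eq_or_ne i 0 with rfl | hi
    · rw [← map_mul, ← map_inv, ← map_mul]
      refine ⟨Multiplicative.ofAdd (w ^ 2 * t.toAdd), ?_⟩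
      rw [hg]
      congr 1
      have h1 := hconj t.toAdd
      rw [ofAdd_toAdd] at h1
      rw [← h1, Pi.mulSingle_mul, Pi.mulSingle_mul, Pi.mulSingle_inv]
    · have h1 : f (Pi.mulSingle i e) * f (Pi.mulSingle 0 (upper F t)) =
          f (Pi.mulSingle 0 (upper F t)) * f (Pi.mulSingle i e) := by
        rw [← map_mul, ← map_mul]
        congr 1
        exact (Pi.mulSingle_commute hi _ _).eq
      rw [h1, mul_assoc, mul_inv_cancel, mul_one]
      exact ⟨t, rfl⟩

end Cfsg.Agent.H846.Elim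
end

-- part: H846/Elim/PSLa
section
/-!
# `Cond` fails for `PSL_n(q)`, `n ≥ 10`, and for `n ≥ 6`, `q ≡ 1 (mod 3)` (helper846)
-/

set_option autoImplicit false

namespace Cfsg.Agent.H846.Elim.PSL

open Subgroup Matrix
open Cfsg.Agent.Sigma.Symp (three three_pow upper coe_upper dia coe_dia dia_mul dia_one dia_pow upper_injective dia_upper)

variable {F : Type*} [Field F]

/-- change of the index set -/
def re {ι κ : Type*} [Fintype ι] [DecidableEq ι] [Fintype κ] [DecidableEq κ] (e : ι ≃ κ) (F : Type*) [Field F] :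
    _root_.Matrix.SpecialLinearGroup ι F →* _root_.Matrix.SpecialLinearGroup κ F where
  toFun A := ⟨reindex e e A.1, by rw [det_reindex_self]; exact A.2⟩
  map_one' := Subtype.ext (by simp)
  map_mul' A B := Subtype.ext (by
    change reindex e e (A.1 * B.1) = reindex e e A.1 * reindex e e B.1
    simp [Matrix.submatrix_mul_equiv])

/-- block diagonal matrices -/
def bd (m : ℕ) (κ : Type*) [Fintype κ] [DecidableEq κ] (F : Type*) [Field F] :
    (Fin m → SL2 F) →* _root_.Matrix.SpecialLinearGroup ((Fin 2 × Fin m) ⊕ κ) F where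
  toFun A := ⟨fromBlocks (blockDiagonal fun i => (A i).1) 0 0 1, by
    rw [det_fromBlocks_zero₂₁, det_one, mul_one, det_blockDiagonal]
    exact Finset.prod_eq_one fun i _ => (A i).2⟩
  map_one' := Subtype.ext (by
    change fromBlocks (blockDiagonal fun i => ((1 : SL2 F) : Matrix (Fin 2) (Fin 2) F)) 0 0 1 = 1
    rw [← fromBlocks_one]
    congr 1
    rw [Matrix.SpecialLinearGroup.coe_one]
    exact blockDiagonal_one)
  map_mul' A B := Subtype.ext (by
    change fromBlocks (blockDiagonal fun i => (A i).1 * (B i).1) 0 0 1 =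
      fromBlocks (blockDiagonal fun i => (A i).1) 0 0 1 * fromBlocks (blockDiagonal fun i => (B i).1) 0 0 1
    rw [fromBlocks_multiply]
    simp only [blockDiagonal_mul, _root_.Matrix.mul_zero, _root_.add_zero, _root_.Matrix.mul_one, _root_.Matrix.zero_mul, _root_.mul_one, _root_.zero_add])

/-- block diagonal matrices in `PSL` -/
def ff (m n : ℕ) (κ : Type*) [Fintype κ] [DecidableEq κ] (e : (Fin 2 × Fin m) ⊕ κ ≃ Fin n) (F : Type*) [Field F] :
    (Fin m → SL2 F) →* ProjectiveSpecialLinearGroup (Fin n) F :=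
  (QuotientGroup.mk' _).comp ((re e F).comp (bd m κ F))

theorem ff_ker {m n : ℕ} {κ : Type*} [Fintype κ] [DecidableEq κ] {e : (Fin 2 × Fin m) ⊕ κ ≃ Fin n}
    {A : Fin m → SL2 F} (h : ff m n κ e F A = 1) :
    ∃ r : F, (∀ i, (A i : Matrix (Fin 2) (Fin 2) F) = scalar (Fin 2) r) ∧ ∀ _ : κ, r = 1 := by
  have h1 : re e F (bd m κ F A) ∈ center (_root_.Matrix.SpecialLinearGroup (Fin n) F) := (QuotientGroup.eq_one_iff _).1 h
  rw [Matrix.SpecialLinearGroup.mem_center_iff] at h1
  obtain ⟨r, -, hr⟩ := h1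
  have h2 : ∀ x y : (Fin 2 × Fin m) ⊕ κ, (bd m κ F A).1 x y =
      scalar ((Fin 2 × Fin m) ⊕ κ) r x y := by
    intro x y
    have h3 := congrFun (congrFun hr (e x)) (e y)
    have h4 : ((re e F (bd m κ F A) : Matrix.SpecialLinearGroup _ F) : Matrix _ _ F) (e x) (e y) =
        (bd m κ F A).1 x y := by
      change reindex e e _ (e x) (e y) = _
      simp
    rw [← h4, ← h3]
    simp [scalar_apply, diagonal_apply]
  refine ⟨r, fun i => ?_, fun k => ?_⟩
  · ext a b
    have h3 := h2 (Sum.inl (a, i)) (Sum.inl (b, i))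
    have h4 : (bd m κ F A).1 (Sum.inl (a, i)) (Sum.inl (b, i)) = A i a b := by
      change fromBlocks (blockDiagonal fun i => (A i).1) 0 0 1 (Sum.inl (a, i)) (Sum.inl (b, i)) = _
      rw [fromBlocks_apply₁₁, blockDiagonal_apply_eq]
    rw [← h4, h3]
    simp [scalar_apply, diagonal_apply]
  · have h3 := h2 (Sum.inr k) (Sum.inr k)
    have h4 : (bd m κ F A).1 (Sum.inr k) (Sum.inr k) = 1 := by
      change fromBlocks (blockDiagonal fun i => (A i).1) 0 0 1 (Sum.inr k) (Sum.inr k) = _
      rw [fromBlocks_apply₂₂, one_apply_eq]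
    rw [h4] at h3
    simpa [scalar_apply, diagonal_apply] using h3.symm

/-- the kernel for one block, if there is another one -/
theorem ff_single {m n : ℕ} {κ : Type*} [Fintype κ] [DecidableEq κ] {e : (Fin 2 × Fin m) ⊕ κ ≃ Fin n}
    {i : Fin m} {c : SL2 F} (h : ff m n κ e F (Pi.mulSingle i c) = 1) (hi : Nonempty κ ∨ ∃ j, j ≠ i) : c = 1 := by
  obtain ⟨r, h1, h2⟩ := ff_ker h
  have hr : r = 1 := by
    rcases hi with ⟨⟨k⟩⟩ | ⟨j, hj⟩
    · exact h2 k
    · have h3 := h1 j
      rw [Pi.mulSingle_eq_of_ne hj] at h3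
      have h4 := congrFun (congrFun h3 0) 0
      simpa [scalar_apply, diagonal_apply] using h4.symm
  have h3 := h1 i
  rw [Pi.mulSingle_eq_same, hr, map_one] at h3
  exact Subtype.ext h3

theorem big {K : Type*} [Group K] (hK : Cond K) {n : ℕ} (hn : 10 ≤ n) (e : K ≃* ProjectiveSpecialLinearGroup (Fin n) F) :
    False := by
  have e' : (Fin 2 × Fin 5) ⊕ Fin (n - 10) ≃ Fin n := Fintype.equivFinOfCardEq (by simp only [_root_.Fintype.card_sum, _root_.Fintype.card_prod, _root_.Fintype.card_fin, _root_.Nat.reduceMul]; omega)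
  refine pi5 (hK.congr e) (ff 5 n (Fin (n - 10)) e' F) ?_
  intro i c hc
  refine Or.inl (ff_single hc (Or.inr ?_))
  by_cases hi : i = 0
  · exact ⟨1, by rw [hi]; decide⟩
  · exact ⟨0, Ne.symm hi⟩

end Cfsg.Agent.H846.Elim.PSL
end

-- part: H846/Elim/PSLb
section
/-!
# `Cond` fails for `PSL_6(q)`, `q ≡ 1 (mod 3)` (helper846)
-/

set_option autoImplicit false

namespace Cfsg.Agent.H846.Elim

open Subgroup Matrix

/-- the quotient by the centre -/
theorem four_of_center {H : Type*} [Group H] {x g c : Fin 4 → H} (hx : ∀ i, x i ^ 3 = 1)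
    (hc : ∀ i j, x i * x j = x j * x i) (hf : ∀ i j, i ≠ j → g i * x j = x j * g i)
    (hm : ∀ i, g i * x i = c i * (x i * g i)) (hcen : ∀ i, c i ∉ center H) :
    Four (fun i => (QuotientGroup.mk' (center H)) (x i)) (fun i => MulAut.conj (QuotientGroup.mk' (center H) (g i))) where
  cube i := by rw [← map_pow, hx, map_one]
  comm i j := by rw [← map_mul, ← map_mul, hc]
  fix i j hij := by
    change (QuotientGroup.mk' (center H) (g i)) * (QuotientGroup.mk' (center H) (x j)) *
      (QuotientGroup.mk' (center H) (g i))⁻¹ = _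
    rw [← map_mul, hf i j hij, map_mul, mul_assoc, mul_inv_cancel, mul_one]
  move i := by
    intro h
    change (QuotientGroup.mk' (center H) (g i)) * (QuotientGroup.mk' (center H) (x i)) *
      (QuotientGroup.mk' (center H) (g i))⁻¹ = _ at h
    rw [mul_inv_eq_iff_eq_mul, ← map_mul, ← map_mul, hm, map_mul] at h
    have h1 : QuotientGroup.mk' (center H) (c i) = 1 := by
      have := mul_right_cancel (a := QuotientGroup.mk' (center H) (c i)) (c := 1) (by rw [one_mul]; exact h)
      exact this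
    exact hcen i ((QuotientGroup.eq_one_iff _).1 h1)

namespace PSL

variable {F : Type*} [Field F]

/-- transvections -/
def tv {n : ℕ} {i j : Fin n} (hij : i ≠ j) (F : Type*) [Field F] :
    Multiplicative F →* Matrix.SpecialLinearGroup (Fin n) F where
  toFun t := ⟨transvection i j t.toAdd, det_transvection_of_ne i j hij _⟩
  map_one' := Subtype.ext (by simp [transvection])
  map_mul' s t := Subtype.ext (by
    change transvection i j (s.toAdd + t.toAdd) = transvection i j s.toAdd * transvection i j t.toAdd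
    rw [transvection_mul_transvection_same i j hij])

theorem tv_apply {n : ℕ} {i j : Fin n} (hij : i ≠ j) (t : F) (a b : Fin n) :
    (tv hij F (Multiplicative.ofAdd t)).1 a b = (if a = b then 1 else 0) + if a = i ∧ b = j then t else 0 := by
  change transvection i j t a b = _
  rw [transvection, Matrix.add_apply, Matrix.one_apply, Matrix.single_apply]
  congr 1
  simp only [eq_comm (a := i), eq_comm (a := j)]

theorem tv_notMem {n : ℕ} {i j : Fin n} (hij : i ≠ j) {t : F} (ht : t ≠ 0) :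
    tv hij F (Multiplicative.ofAdd t) ∉ center (Matrix.SpecialLinearGroup (Fin n) F) := by
  intro h
  rw [Matrix.SpecialLinearGroup.mem_center_iff] at h
  obtain ⟨r, -, hr⟩ := h
  have h1 := congrFun (congrFun hr i) j
  have h2 := tv_apply hij t i j
  rw [← h1] at h2
  simp [scalar_apply, diagonal_apply, hij] at h2
  exact ht h2.symm

/-- the diagonal entries -/
def dd (w : F) (i : Fin 4) (k : Fin 6) : F := if k = i.castSucc.castSucc then w else if k = 4 then w ^ 2 else 1

theorem prod_dd {w : F} (hw : w ^ 3 = 1) (i : Fin 4) : ∏ k, dd w i k = 1 := by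
  have h1 : w * w ^ 2 = 1 := by rw [← pow_succ', hw]
  rw [Fin.prod_univ_six]
  unfold dd
  fin_cases i <;> repeat (first | rw [if_pos (by decide)] | rw [if_neg (by decide)])
  all_goals linear_combination h1

/-- the diagonal matrices -/
def xx {w : F} (hw : w ^ 3 = 1) (i : Fin 4) : Matrix.SpecialLinearGroup (Fin 6) F :=
  ⟨diagonal (dd w i), by rw [det_diagonal, prod_dd hw]⟩

theorem ne5 (i : Fin 4) : (i.castSucc.castSucc : Fin 6) ≠ 5 := by
  intro h
  have := congrArg Fin.val h
  simp at this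
  omega

theorem dd_five (w : F) (i : Fin 4) : dd w i 5 = 1 := by
  rw [dd, if_neg (Ne.symm (ne5 i)), if_neg (by decide)]

theorem dd_cube {w : F} (hw : w ^ 3 = 1) (i : Fin 4) (k : Fin 6) : dd w i k ^ 3 = 1 := by
  unfold dd
  split_ifs
  · exact hw
  · rw [← pow_mul, mul_comm, pow_mul, hw, one_pow]
  · exact one_pow 3

theorem conj_tv {w : F} (hw : w ^ 3 = 1) (i k : Fin 4) (t : F) :
    xx hw i * tv (ne5 k) F (Multiplicative.ofAdd t) =
      tv (ne5 k) F (Multiplicative.ofAdd (dd w i k.castSucc.castSucc * t)) * xx hw i := by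
  apply Subtype.ext
  change diagonal (dd w i) * (tv (ne5 k) F (Multiplicative.ofAdd t)).1 =
    (tv (ne5 k) F (Multiplicative.ofAdd (dd w i k.castSucc.castSucc * t))).1 * diagonal (dd w i)
  ext a b
  rw [diagonal_mul, mul_diagonal, tv_apply, tv_apply]
  by_cases hab : a = b
  · subst hab
    have h1 : ¬ (a = k.castSucc.castSucc ∧ a = 5) := fun h => ne5 k (h.1 ▸ h.2)
    rw [if_neg h1, if_neg h1]
    ring
  · rw [if_neg hab]
    by_cases h : a = k.castSucc.castSucc ∧ b = 5
    · rw [if_pos h, if_pos h, h.1, h.2, dd_five]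
      ring
    · rw [if_neg h, if_neg h]
      ring

theorem six_one [Finite F] {K : Type*} [Group K] (hK : Cond K) (hq3 : ¬ 3 ∣ Nat.card F) (h3 : (3 : F) ≠ 0) {w : F}
    (hw : w ^ 2 + w + 1 = 0) (e : K ≃* ProjectiveSpecialLinearGroup (Fin 6) F) : False := by
  have hw3 : w ^ 3 = 1 := by linear_combination (w - 1) * hw
  have hw1 : w ≠ 1 := by
    rintro rfl
    apply h3
    linear_combination hw
  have hK' := hK.congr e
  have h4 := four_of_center (H := Matrix.SpecialLinearGroup (Fin 6) F) (x := xx hw3)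
    (g := fun k => tv (ne5 k) F (Multiplicative.ofAdd 1))
    (c := fun k => tv (ne5 k) F (Multiplicative.ofAdd (1 - w))) (by
      intro i
      apply Subtype.ext
      change diagonal (dd w i) ^ 3 = 1
      rw [diagonal_pow]
      have : dd w i ^ 3 = 1 := funext fun k => dd_cube hw3 i k
      rw [this]
      exact diagonal_one) (by
      intro i j
      apply Subtype.ext
      change diagonal _ * diagonal _ = diagonal _ * diagonal _
      rw [diagonal_mul_diagonal, diagonal_mul_diagonal]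
      congr 1
      funext k
      ring) (by
      intro i j hij
      rw [conj_tv hw3 j i 1]
      congr 3
      rw [dd, if_neg, if_neg]
      · ring
      · intro h
        have := congrArg Fin.val h
        simp at this
        omega
      · intro h
        apply hij
        have := congrArg Fin.val h
        simp at this
        exact Fin.ext this) (by
      intro i
      have h1 := conj_tv hw3 i i 1
      rw [dd, if_pos rfl, mul_one] at h1
      rw [h1, ← mul_assoc, ← map_mul, ← ofAdd_add, sub_add_cancel]) (by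
      intro i
      exact tv_notMem _ (sub_ne_zero.2 (Ne.symm hw1)))
  let g : Multiplicative F →* ProjectiveSpecialLinearGroup (Fin 6) F :=
    (QuotientGroup.mk' _).comp (tv (ne5 0) F)
  refine h4.contra_prime hK' (U := g.range) ?_ ?_ ?_
  · intro h
    apply hq3
    have h1 : Nat.card g.range ∣ Nat.card (Multiplicative F) := by
      rw [← Subgroup.index_ker]
      exact Subgroup.index_dvd_card _
    exact h.trans h1
  · intro h
    have h1 : g (Multiplicative.ofAdd 1) ∈ g.range := ⟨_, rfl⟩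
    rw [h, mem_bot] at h1
    exact tv_notMem (ne5 0) one_ne_zero ((QuotientGroup.eq_one_iff _).1 h1)
  · rintro i _ ⟨t, rfl⟩
    have h1 := conj_tv hw3 i 0 t.toAdd
    rw [ofAdd_toAdd] at h1
    refine ⟨Multiplicative.ofAdd (dd w i (Fin.castSucc (Fin.castSucc 0)) * t.toAdd), ?_⟩
    have h2 := congrArg (QuotientGroup.mk' (center (Matrix.SpecialLinearGroup (Fin 6) F))) h1
    rw [map_mul, map_mul] at h2
    rw [eq_mul_inv_iff_mul_eq]
    exact h2.symm

end PSL

end Cfsg.Agent.H846.Elim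
end

-- part: H846/Elim/PSLc
section
/-!
# The groups `PSL_n(q)` of order with 3-part `3^6` (helper846)
-/

set_option autoImplicit false

namespace Cfsg.Agent.H846.Elim

open Subgroup Matrix Val

theorem v_prod {ι : Type*} (s : Finset ι) (f : ι → ℕ) (h : ∀ i ∈ s, f i ≠ 0) : v (∏ i ∈ s, f i) = ∑ i ∈ s, v (f i) := by
  classical
  induction s using Finset.induction_on with
  | empty => simp [v_one]
  | insert i s hi ih =>
    rw [Finset.prod_insert hi, Finset.sum_insert hi, v_mul (h i (Finset.mem_insert_self i s))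
      (Finset.prod_ne_zero_iff.2 fun j hj => h j (Finset.mem_insert_of_mem hj)),
      ih fun j hj => h j (Finset.mem_insert_of_mem hj)]

namespace PSL

theorem psl_v {q : ℕ} (hq : 2 ≤ q) (n : ℕ) :
    v (∏ i : Fin n, (q ^ n - q ^ (i : ℕ))) = ∑ i ∈ Finset.range n, (i * v q + v (q ^ (n - i) - 1)) := by
  have h1 : ∀ i : Fin n, q ^ n - q ^ (i : ℕ) = q ^ (i : ℕ) * (q ^ (n - i) - 1) := by
    intro i
    rw [Nat.mul_sub, mul_one, ← pow_add, Nat.add_sub_cancel' i.2.le]
  have h2 : ∀ i : Fin n, q ^ (n - (i : ℕ)) - 1 ≠ 0 := fun i => sub_ne hq (by omega)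
  have h3 : ∀ i : ℕ, q ^ i ≠ 0 := fun i => pow_ne_zero _ (by omega)
  rw [v_prod _ _ (fun i _ => by rw [h1]; exact mul_ne_zero (h3 _) (h2 i)), Finset.sum_range]
  refine Finset.sum_congr rfl fun i _ => ?_
  rw [h1, v_mul (h3 _) (h2 i), v_pow]

/-- the 3-adic valuation of the order -/
theorem v_eq {K : Type*} [Group K] (hK : Cond K) {F : Type*} [Field F] [Fintype F] {n : ℕ} (hn : 2 ≤ n)
    (e : K ≃* ProjectiveSpecialLinearGroup (Fin n) F) :
    v (Nat.gcd n (Fintype.card F - 1)) + (v (Fintype.card F - 1) + 6) =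
      ∑ i ∈ Finset.range n, (i * v (Fintype.card F) + v (Fintype.card F ^ (n - i) - 1)) := by
  have hq : 2 ≤ Fintype.card F := Fintype.one_lt_card
  have h1 := S0243.result (F := F) rfl n hn
  have h2 := (hK.congr e).v_card
  have h3 := (hK.congr e).fin
  have h4 : Nat.card (ProjectiveSpecialLinearGroup (Fin n) F) ≠ 0 := Nat.card_pos.ne'
  rw [← psl_v hq, ← h1, v_mul (by
    intro h
    have := Nat.eq_zero_of_gcd_eq_zero_left h
    omega) (mul_ne_zero (by omega) h4), v_mul (by omega) h4, h2]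

/-- characteristic prime to 3, `n ≤ 9`: `n ≤ 5` and `27 ∣ q² - 1` or `n = 6`, `q ≡ 1` -/
theorem small {K : Type*} [Group K] (hK : Cond K) {F : Type*} [Field F] [Fintype F] {n : ℕ} (hn : 2 ≤ n) (hn9 : n ≤ 9)
    (h3 : Fintype.card F % 3 ≠ 0) (e : K ≃* ProjectiveSpecialLinearGroup (Fin n) F) :
    3 ≤ v (Fintype.card F ^ 2 - 1) ∨ (n = 6 ∧ Fintype.card F % 3 = 1) := by
  have hq : 2 ≤ Fintype.card F := Fintype.one_lt_card
  have h := v_eq hK hn e
  have ha := a_pos h3 hq
  set q := Fintype.card F with hqq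
  have hv : v q = 0 := v_of_not h3
  rw [hv] at h
  simp only [mul_zero, zero_add] at h
  have hcase : q % 3 = 1 ∨ q % 3 = 2 := by omega
  rcases hcase with h1 | h1
  · -- `q ≡ 1`
    have e1 : v (q ^ 1 - 1) = v (q ^ 2 - 1) := by rw [v_any h1 hq (by norm_num), v_one, add_zero]
    have e3 : v (q ^ 3 - 1) = v (q ^ 2 - 1) + 1 := by rw [v_any h1 hq (by norm_num), v_three]
    have e4 : v (q ^ 4 - 1) = v (q ^ 2 - 1) := by rw [v_any h1 hq (by norm_num), v_four, add_zero]
    have e5 : v (q ^ 5 - 1) = v (q ^ 2 - 1) := by rw [v_any h1 hq (by norm_num), v_five, add_zero]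
    have e6 : v (q ^ 6 - 1) = v (q ^ 2 - 1) + 1 := by rw [v_any h1 hq (by norm_num), v_six]
    have e7 : v (q ^ 7 - 1) = v (q ^ 2 - 1) := by rw [v_any h1 hq (by norm_num), v_seven, add_zero]
    have e8 : v (q ^ 8 - 1) = v (q ^ 2 - 1) := by rw [v_any h1 hq (by norm_num), v_eight, add_zero]
    have e9 : v (q ^ 9 - 1) = v (q ^ 2 - 1) + 2 := by rw [v_any h1 hq (by norm_num), v_nine]
    have hgv : v (Nat.gcd n (q - 1)) ≤ v n := by
      have : Nat.gcd n (q - 1) ∣ n := Nat.gcd_dvd_left _ _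
      obtain ⟨c, hc⟩ := this
      have hc0 : c ≠ 0 := by rintro rfl; omega
      have hg0 : Nat.gcd n (q - 1) ≠ 0 := by
        intro h0
        rw [h0, zero_mul] at hc
        omega
      conv_rhs => rw [hc]
      rw [v_mul hg0 hc0]
      omega
    have hg3 : n = 3 → v (Nat.gcd n (q - 1)) = 1 := by
      rintro rfl
      have h2 : Nat.gcd 3 (q - 1) = 3 := Nat.gcd_eq_left (by omega)
      rw [h2, v_three]
    rw [v_sub_one h1 hq] at h
    interval_cases n
    · simp only [Finset.sum_range_succ, Finset.sum_range_zero] at h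
      norm_num only [v_two] at hgv h
      rw [e1] at h
      (clear * - h; omega)
    · simp only [Finset.sum_range_succ, Finset.sum_range_zero] at h
      norm_num only at hg3 h
      rw [e1, e3] at h
      have := hg3 trivial
      (clear * - h; omega)
    · simp only [Finset.sum_range_succ, Finset.sum_range_zero] at h
      norm_num only [v_four] at hgv h
      rw [e1, e3, e4] at h
      (clear * - hgv h; omega)
    · simp only [Finset.sum_range_succ, Finset.sum_range_zero] at h
      norm_num only [v_five] at hgv h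
      rw [e1, e3, e4, e5] at h
      (clear * - hgv h; omega)
    · right; exact ⟨rfl, h1⟩
    · simp only [Finset.sum_range_succ, Finset.sum_range_zero] at h
      norm_num only [v_seven] at hgv h
      rw [e1, e3, e4, e5, e6, e7] at h
      (clear * - hgv h; omega)
    · simp only [Finset.sum_range_succ, Finset.sum_range_zero] at h
      norm_num only [v_eight] at hgv h
      rw [e1, e3, e4, e5, e6, e7, e8] at h
      (clear * - hgv h; omega)
    · simp only [Finset.sum_range_succ, Finset.sum_range_zero] at h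
      norm_num only [v_nine] at hgv h
      rw [e1, e3, e4, e5, e6, e7, e8, e9] at h
      (clear * - hgv h; omega)
  · -- `q ≡ 2`
    left
    have e1 : v (q ^ 1 - 1) = 0 := v_odd h1 hq rfl
    have e3 : v (q ^ 3 - 1) = 0 := v_odd h1 hq rfl
    have e5 : v (q ^ 5 - 1) = 0 := v_odd h1 hq rfl
    have e7 : v (q ^ 7 - 1) = 0 := v_odd h1 hq rfl
    have e9 : v (q ^ 9 - 1) = 0 := v_odd h1 hq rfl
    have e4 : v (q ^ 4 - 1) = v (q ^ 2 - 1) := by rw [v_even (k := 2) h3 hq (by norm_num), v_two, add_zero]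
    have e6 : v (q ^ 6 - 1) = v (q ^ 2 - 1) + 1 := by rw [v_even (k := 3) h3 hq (by norm_num), v_three]
    have e8 : v (q ^ 8 - 1) = v (q ^ 2 - 1) := by rw [v_even (k := 4) h3 hq (by norm_num), v_four, add_zero]
    have hg0 : v (q - 1) = 0 := v_of_not (by omega)
    have hgv : v (Nat.gcd n (q - 1)) = 0 := by
      have : Nat.gcd n (q - 1) ∣ q - 1 := Nat.gcd_dvd_right _ _
      apply padicValNat.eq_zero_of_not_dvd
      intro h2
      have h4 := h2.trans this
      omega
    rw [hg0, hgv] at h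
    interval_cases n
    · simp only [Finset.sum_range_succ, Finset.sum_range_zero] at h
      norm_num only at h
      rw [e1] at h
      omega
    · simp only [Finset.sum_range_succ, Finset.sum_range_zero] at h
      norm_num only at h
      rw [e1, e3] at h
      omega
    · simp only [Finset.sum_range_succ, Finset.sum_range_zero] at h
      norm_num only at h
      rw [e1, e3, e4] at h
      omega
    · simp only [Finset.sum_range_succ, Finset.sum_range_zero] at h
      norm_num only at h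
      rw [e1, e3, e4, e5] at h
      omega
    · simp only [Finset.sum_range_succ, Finset.sum_range_zero] at h
      norm_num only at h
      rw [e1, e3, e4, e5, e6] at h
      omega
    · simp only [Finset.sum_range_succ, Finset.sum_range_zero] at h
      norm_num only at h
      rw [e1, e3, e4, e5, e6, e7] at h
      omega
    · simp only [Finset.sum_range_succ, Finset.sum_range_zero] at h
      norm_num only at h
      rw [e1, e3, e4, e5, e6, e7, e8] at h
      omega
    · simp only [Finset.sum_range_succ, Finset.sum_range_zero] at h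
      norm_num only at h
      rw [e1, e3, e4, e5, e6, e7, e8, e9] at h
      omega

end PSL

end Cfsg.Agent.H846.Elim
end

-- part: H846/Elim/PSLd
section
/-!
# `Cond` fails for `PSL_n(q)`, `q` prime to 3 (helper846)
-/

set_option autoImplicit false

namespace Cfsg.Agent.H846.Elim

open Subgroup Matrix Val

theorem exists_w {F : Type*} [Field F] [Fintype F] (h : Fintype.card F % 3 = 1) : ∃ w : F, w ^ 2 + w + 1 = 0 := by
  classical
  have := Fact.mk Nat.prime_three
  have h1 : 3 ∣ Nat.card Fˣ := by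
    rw [Nat.card_units, Nat.card_eq_fintype_card]
    have := Fintype.one_lt_card (α := F)
    omega
  obtain ⟨u, hu⟩ := exists_prime_orderOf_dvd_card' 3 h1
  refine ⟨u, ?_⟩
  have h3 : (u : F) ^ 3 = 1 := by
    have : u ^ 3 = 1 := by rw [← hu]; exact pow_orderOf_eq_one u
    rw [← Units.val_pow_eq_pow_val, this, Units.val_one]
  have h4 : (u : F) ≠ 1 := by
    intro h
    have : u = 1 := Units.ext h
    rw [this, orderOf_one] at hu
    omega
  have h5 : ((u : F) - 1) * ((u : F) ^ 2 + u + 1) = 0 := by linear_combination h3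
  exact (mul_eq_zero.1 h5).resolve_left (sub_ne_zero.2 h4)

theorem card_SL2 (F : Type*) [Field F] [Fintype F] :
    Nat.card (SL2 F) = (Fintype.card F ^ 2 - 1) * Fintype.card F := by
  have hq : 2 ≤ Fintype.card F := Fintype.one_lt_card
  have h := S0242.result (F := F) rfl 2 (by norm_num)
  rw [Fin.prod_univ_two] at h
  simp only [Fin.val_zero, Fin.val_one, pow_zero, pow_one] at h
  have h1 : Fintype.card F ^ 2 - Fintype.card F = (Fintype.card F - 1) * Fintype.card F := by
    rw [Nat.sub_mul, one_mul, pow_two]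
  rw [h1] at h
  have h2 : 0 < Fintype.card F - 1 := by omega
  refine Nat.eq_of_mul_eq_mul_left h2 ?_
  rw [h]
  ring

/-- no `SL_2(q)` with `27 ∣ q² - 1` -/
theorem no27_SL2 {F : Type*} [Field F] [Fintype F] {K : Type*} [Group K] (hK : Cond K)
    (h3 : Fintype.card F % 3 ≠ 0) (ha : 3 ≤ v (Fintype.card F ^ 2 - 1)) (f : SL2 F →* K)
    (hf : ∀ c, f c = 1 → c = 1 ∨ c = -1) : False := by
  have hq : 2 ≤ Fintype.card F := Fintype.one_lt_card
  have h27 : 27 ∣ Nat.card (SL2 F) := by
    rw [card_SL2]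
    apply Dvd.dvd.mul_right
    have := (dvd_iff (sub_ne hq (k := 2) (by norm_num))).2 ha
    simpa only [_root_.Nat.reducePow] using this
  obtain ⟨x, hx⟩ := exists_27 h3 (MonoidHom.id (SL2 F)) Function.injective_id h27
  refine hK.no27_hom f hx ?_
  intro n hn hn0 h
  have h1 : x ^ n * x ^ n = 1 := by
    rcases hf _ h with h2 | h2
    · rw [h2, one_mul]
    · rw [h2, neg_mul_neg, one_mul]
  rw [← pow_add] at h1
  have h2 := orderOf_dvd_of_pow_eq_one h1
  rw [hx] at h2
  omega

namespace PSL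

variable {F : Type*} [Field F]

theorem ff_one_ker {n : ℕ} {e : (Fin 2 × Fin 1) ⊕ Fin (n - 2) ≃ Fin n} {c : SL2 F}
    (h : ff 1 n (Fin (n - 2)) e F (Pi.mulSingle 0 c) = 1) : c = 1 ∨ c = -1 := by
  obtain ⟨r, h1, -⟩ := ff_ker h
  have h2 := h1 0
  rw [Pi.mulSingle_eq_same] at h2
  have h3 := c.det_coe
  rw [h2] at h3
  simp only [scalar_apply, det_diagonal, _root_.Finset.prod_const, _root_.Finset.card_univ, _root_.Fintype.card_fin, _root_.sq_eq_one_iff] at h3
  rcases h3 with h3 | h3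
  · left
    apply Subtype.ext
    change (c : Matrix (Fin 2) (Fin 2) F) = 1
    rw [h2, h3, map_one]
  · right
    apply Subtype.ext
    change (c : Matrix (Fin 2) (Fin 2) F) = -1
    rw [h2, h3, map_neg, map_one]

theorem not_three {K : Type*} [Group K] (hK : Cond K) {F : Type*} [Field F] [Fintype F] {n : ℕ} (hn : 2 ≤ n)
    (h3 : Fintype.card F % 3 ≠ 0) (e : K ≃* ProjectiveSpecialLinearGroup (Fin n) F) : False := by
  rcases Nat.lt_or_ge n 10 with hn10 | hn10
  · rcases small hK hn (by omega) h3 e with h | ⟨rfl, h⟩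
    · have e' : (Fin 2 × Fin 1) ⊕ Fin (n - 2) ≃ Fin n := Fintype.equivFinOfCardEq (by simp only [_root_.Fintype.card_sum, _root_.Fintype.card_prod, _root_.Fintype.card_fin, _root_.Fintype.card_unique, _root_.mul_one]; omega)
      refine no27_SL2 (F := F) (hK.congr e) h3 h
        ((ff 1 n (Fin (n - 2)) e' F).comp (MonoidHom.mulSingle (fun _ : Fin 1 => SL2 F) 0)) ?_
      intro c hc
      exact ff_one_ker hc
    · obtain ⟨w, hw⟩ := exists_w h
      refine six_one hK ?_ (three_ne (h3 := inferInstance) h3) hw e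
      rw [Nat.card_eq_fintype_card]
      omega
  · exact big hK hn10 e

end PSL

end Cfsg.Agent.H846.Elim
end

-- part: H846/Elim/Tv
section
/-!
# Fixed vectors of 3-groups in characteristic 3, and what `Cond` gives for central elements (helper846)
-/

set_option autoImplicit false

namespace Cfsg.Agent.H846.Elim

open Subgroup Matrix

theorem dvd_card_sub {F : Type*} [Field F] [Fintype F] {p : ℕ} [Fact p.Prime] [CharP F p] {n : ℕ}
    (W : Submodule F (Fin n → F)) (hW0 : W ≠ ⊥) : p ∣ Nat.card W := by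
  obtain ⟨w, hw, hw0⟩ := (Submodule.ne_bot_iff W).1 hW0
  have h1 : addOrderOf (⟨w, hw⟩ : W) = p := by
    apply addOrderOf_eq_prime
    · apply Subtype.ext
      change p • w = 0
      rw [← Nat.cast_smul_eq_nsmul F, CharP.cast_eq_zero, zero_smul]
    · intro h
      exact hw0 (congrArg Subtype.val h)
  rw [← h1]
  exact addOrderOf_dvd_natCard _

theorem exists_fix {F : Type*} [Field F] [Fintype F] {p : ℕ} [Fact p.Prime] [CharP F p] {n : ℕ} {T : Type*}
    [Group T] (hT : IsPGroup p T) (ρ : T →* Matrix (Fin n) (Fin n) F) (W : Submodule F (Fin n → F))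
    (hW : ∀ t, ∀ w ∈ W, ρ t *ᵥ w ∈ W) (hW0 : W ≠ ⊥) : ∃ w ∈ W, w ≠ 0 ∧ ∀ t, ρ t *ᵥ w = w := by
  let _ : MulAction T W :=
    { smul := fun t w => ⟨ρ t *ᵥ w, hW t w w.2⟩
      one_smul := fun w => Subtype.ext (by
        change ρ 1 *ᵥ (w : Fin n → F) = w
        rw [map_one, one_mulVec])
      mul_smul := fun s t w => Subtype.ext (by
        change ρ (s * t) *ᵥ (w : Fin n → F) = ρ s *ᵥ (ρ t *ᵥ w)
        rw [map_mul, mulVec_mulVec]) }
  have hsm : ∀ (t : T) (w : W), ((t • w : W) : Fin n → F) = ρ t *ᵥ w := fun t w => rfl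
  obtain ⟨b, hb, hb0⟩ := hT.exists_fixed_point_of_prime_dvd_card_of_fixed_point W (dvd_card_sub W hW0) (a := 0)
    (by
      intro t
      apply Subtype.ext
      rw [hsm]
      change ρ t *ᵥ (0 : Fin n → F) = 0
      rw [mulVec_zero])
  refine ⟨b, b.2, fun h => hb0 (Subtype.ext h.symm), fun t => ?_⟩
  rw [← hsm, hb t]

/-- Sylow 3-subgroups of a cover -/
theorem exists_T {K Γ : Type*} [Group K] [Group Γ] [Finite Γ] (hK : Cond K) (f : Γ →* K)
    (hf : Function.Surjective f) (hker : ∀ c, f c = 1 → ∀ k, c ^ 3 ^ k = 1 → c = 1) :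
    ∃ T : Subgroup Γ, Nat.card T = 3 ^ 6 ∧ Nat.card (T.map f) = 3 ^ 6 := by
  have h3F := Fact.mk Nat.prime_three
  have h1 : Nat.card K ∣ Nat.card Γ := Subgroup.card_dvd_of_surjective f hf
  obtain ⟨T, hT⟩ := Sylow.exists_subgroup_card_pow_prime 3 (hK.card6.trans h1)
  refine ⟨T, hT, ?_⟩
  have hinj : Function.Injective (f.comp T.subtype) := by
    rw [injective_iff_map_eq_one]
    intro a ha
    apply Subtype.ext
    refine hker a ha 6 ?_
    have h2 : a ^ Nat.card T = 1 := pow_card_eq_one'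
    rw [hT] at h2
    have := congrArg Subtype.val h2
    simpa only [_root_.Nat.reducePow, _root_.SubmonoidClass.coe_pow, _root_.OneMemClass.coe_one] using this
  have h3 : (f.comp T.subtype).range = T.map f := by
    ext y
    constructor
    · rintro ⟨a, rfl⟩
      exact ⟨a, a.2, rfl⟩
    · rintro ⟨a, ha, rfl⟩
      exact ⟨⟨a, ha⟩, rfl⟩
  rw [← h3, ← Nat.card_congr (MonoidHom.ofInjective hinj).toEquiv, hT]

/-- a 3-element commuting with a Sylow 3-subgroup lies in it -/
theorem mem_of_comm {K : Type*} [Group K] (hK : Cond K) {T : Subgroup K} (hT : Nat.card T = 3 ^ 6) {x : K}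
    (hx : x ^ 3 = 1) (hc : ∀ t ∈ T, t * x = x * t) : x ∈ T := by
  have h3F := Fact.mk Nat.prime_three
  have hfin := hK.fin
  have hTp : IsPGroup 3 T := IsPGroup.of_card hT
  have hxp : IsPGroup 3 (zpowers x) := by
    have h1 : orderOf x ∣ 3 ^ 1 := orderOf_dvd_of_pow_eq_one (by rw [pow_one]; exact hx)
    obtain ⟨k, hk, hk'⟩ := (Nat.dvd_prime_pow Nat.prime_three).1 h1
    exact IsPGroup.of_card (n := k) (by rw [Nat.card_zpowers, hk'])
  have hle : zpowers x ≤ normalizer T := by
    rw [zpowers_le, mem_normalizer_iff]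
    intro t
    constructor
    · intro ht
      rw [← hc t ht, mul_inv_cancel_right]
      exact ht
    · intro ht
      have h2 := hc _ ht
      have h3 : x * t = x * (x * t * x⁻¹) := by
        rw [← h2]; group
      have h4 := mul_left_cancel h3
      rw [h4]; exact ht
  have hsup : IsPGroup 3 (T ⊔ zpowers x : Subgroup K) := hTp.to_sup_of_normal_left' hxp hle
  obtain ⟨k, hk⟩ := (IsPGroup.iff_card (p := 3)).1 hsup
  have h5 : Nat.card (T ⊔ zpowers x : Subgroup K) ∣ Nat.card K := card_subgroup_dvd_card _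
  have h6 : k ≤ 6 := by
    by_contra hcon
    apply hK.card7
    rw [hk] at h5
    exact (pow_dvd_pow 3 (by omega : 7 ≤ k)).trans h5
  have h7 : T = T ⊔ zpowers x := by
    apply Subgroup.eq_of_le_of_card_ge le_sup_left
    rw [hk, hT]
    exact Nat.pow_le_pow_right (by norm_num) h6
  rw [h7]
  exact (le_sup_right : zpowers x ≤ _) (mem_zpowers x)

/-- a vector space of central elements has order 3 -/
theorem card_root {K Γ A : Type*} [Group K] [Group Γ] [Finite Γ] (hK : Cond K) (f : Γ →* K)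
    (hker : ∀ c, f c = 1 → ∀ k, c ^ 3 ^ k = 1 → c = 1) {T : Subgroup Γ}
    (hT : Nat.card (T.map f) = 3 ^ 6) [CommGroup A] (g : A →* Γ) (hg : Function.Injective g)
    (hA : ∀ a : A, a ^ 3 = 1) (hc : ∀ t ∈ T, ∀ a, t * g a = g a * t) : Nat.card A ≤ 3 := by
  by_cases hA1 : ∀ a : A, a = 1
  · have : Subsingleton A := ⟨fun a b => by rw [hA1 a, hA1 b]⟩
    have : Nat.card A ≤ 1 := Finite.card_le_one_iff_subsingleton.2 inferInstance
    omega
  · push Not at hA1
    obtain ⟨x, hx⟩ := hA1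
    have hinj : Function.Injective (f.comp g) := by
      rw [injective_iff_map_eq_one]
      intro a ha
      apply hg
      rw [map_one]
      refine hker _ ha 1 ?_
      rw [pow_one, ← map_pow, hA, map_one]
    have h1 : ∀ a, ∀ t ∈ T.map f, t * (f.comp g) a = (f.comp g) a * t := by
      rintro a _ ⟨t, ht, rfl⟩
      change f t * f (g a) = f (g a) * f t
      rw [← map_mul, hc t ht, map_mul]
    have h2 : ∀ a, (f.comp g) a ∈ T.map f := fun a =>
      mem_of_comm hK hT (by rw [← map_pow, hA, map_one]) (h1 a)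
    have h3 : ∀ a, (f.comp g) a ∈ zpowers ((f.comp g) x) := by
      intro a
      refine hK.center _ hT _ (h2 x) _ (h2 a) (h1 x) (h1 a) ?_
      intro h
      apply hx
      apply hinj
      rw [h, map_one]
    have h4 : (⊤ : Subgroup A) ≤ zpowers x := by
      intro a _
      obtain ⟨k, hk⟩ := mem_zpowers_iff.1 (h3 a)
      refine mem_zpowers_iff.2 ⟨k, hinj ?_⟩
      rw [map_zpow]
      exact hk
    have h5 : Nat.card A = orderOf x := by
      rw [← Nat.card_zpowers, top_le_iff.1 h4, Subgroup.card_top]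
    rw [h5]
    exact Nat.le_of_dvd (by norm_num) (orderOf_dvd_of_pow_eq_one (hA x))

/-- an element of order 5 commuting with a central 3-element -/
theorem exists_five {K Γ : Type*} [Group K] [Group Γ] [Finite Γ] (hK : Cond K) (f : Γ →* K)
    (hf : Function.Surjective f) (hker : ∀ c, f c = 1 → ∀ k, c ^ 3 ^ k = 1 → c = 1)
    (hker4 : ∀ c, f c = 1 → c ^ 4 = 1 ∧ ∀ y, c * y = y * c) {T : Subgroup Γ}
    (hT : Nat.card (T.map f) = 3 ^ 6) {z : Γ} (hz : z ^ 3 = 1) (hz1 : z ≠ 1) (hc : ∀ t ∈ T, t * z = z * t) :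
    ∃ h : Γ, h ^ 5 = 1 ∧ h ≠ 1 ∧ h * z = z * h := by
  have h5F := Fact.mk Nat.prime_five
  have hfin := hK.fin
  have h1 : 3 ^ 6 ∣ Nat.card (centralizer ({f z} : Set K)) := by
    rw [← hT]
    apply card_dvd_of_le
    rintro _ ⟨t, ht, rfl⟩
    rw [mem_centralizer_singleton_iff, ← map_mul, ← map_mul, hc t ht]
  have h2 := hK.cz5 (f z) (fun h => hz1 (hker z h 1 (by rw [pow_one, hz]))) (by rw [← map_pow, hz, map_one]) h1
  obtain ⟨h, hh⟩ := exists_prime_orderOf_dvd_card' 5 h2
  obtain ⟨h', hh'⟩ := hf h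
  have h3 : (h : K) ^ 5 = 1 := by
    have := pow_orderOf_eq_one h
    rw [hh] at this
    exact_mod_cast congrArg Subtype.val this
  have h4 : (h : K) ≠ 1 := by
    intro h0
    have : h = 1 := Subtype.ext h0
    rw [this, orderOf_one] at hh
    omega
  have h5 : (h : K) * f z = f z * h := mem_centralizer_singleton_iff.1 h.2
  -- `h'` commutes with `z`
  have h6 : h' * z = z * h' := by
    have h7 : f (h' * z * h'⁻¹ * z⁻¹) = 1 := by
      rw [map_mul, map_mul, map_mul, map_inv, map_inv, hh', h5]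
      group
    obtain ⟨-, h8⟩ := hker4 _ h7
    have h9 : h' * z * h'⁻¹ = (h' * z * h'⁻¹ * z⁻¹) * z := by group
    have h10 : (h' * z * h'⁻¹ * z⁻¹) ^ 3 = 1 := by
      have h11 : (h' * z * h'⁻¹) ^ 3 = 1 := by
        rw [conj_pow, hz, mul_one, mul_inv_cancel]
      rw [h9, (show Commute _ _ from h8 z).mul_pow, hz, mul_one] at h11
      exact h11
    have h11 := hker _ h7 1 (by rw [pow_one]; exact h10)
    rw [h11, one_mul] at h9
    exact mul_inv_eq_iff_eq_mul.1 h9
  have h7 : f (h' ^ 5) = 1 := by rw [map_pow, hh', h3]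
  refine ⟨h' ^ 4, ?_, ?_, ?_⟩
  · rw [← pow_mul, mul_comm, pow_mul]
    exact (hker4 _ h7).1
  · intro h0
    have h8 : (h : K) ^ 4 = 1 := by rw [← hh', ← map_pow, h0, map_one]
    apply h4
    rw [pow_succ, h8, one_mul] at h3
    exact h3
  · exact ((show Commute h' z from h6).pow_left 4).eq

end Cfsg.Agent.H846.Elim
end

-- part: H846/Elim/PSLe
section
/-!
# `Cond` fails for `PSL_n(3^f)` (helper846)
-/

set_option autoImplicit false

namespace Cfsg.Agent.H846.Elim

open Subgroup Matrix Val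

variable {F : Type*} [Field F]

/-- root groups -/
def tvm {n : ℕ} (e φ : Fin n → F) (h : φ ⬝ᵥ e = 0) : Multiplicative F →* Matrix.SpecialLinearGroup (Fin n) F where
  toFun t := ⟨1 + vecMulVec (t.toAdd • e) φ, by
    rw [vecMulVec_eq (ι := Unit), det_one_add_replicateCol_mul_replicateRow, dotProduct_smul, h, smul_zero, add_zero]⟩
  map_one' := Subtype.ext (by simp)
  map_mul' s t := Subtype.ext (by
    change 1 + vecMulVec ((s.toAdd + t.toAdd) • e) φ =
      (1 + vecMulVec (s.toAdd • e) φ) * (1 + vecMulVec (t.toAdd • e) φ)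
    rw [mul_add, add_mul, add_mul, vecMulVec_mul_vecMulVec, dotProduct_smul, h, smul_zero, add_smul,
      add_vecMulVec]
    simp [add_assoc, add_comm])

theorem tvm_val {n : ℕ} {e φ : Fin n → F} (h : φ ⬝ᵥ e = 0) (t : Multiplicative F) :
    ((tvm e φ h t : Matrix.SpecialLinearGroup (Fin n) F) : Matrix (Fin n) (Fin n) F) =
      1 + vecMulVec (t.toAdd • e) φ := rfl

theorem tvm_injective {n : ℕ} {e φ : Fin n → F} (h : φ ⬝ᵥ e = 0) (he : e ≠ 0) (hφ : φ ≠ 0) :
    Function.Injective (tvm e φ h) := by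
  rw [injective_iff_map_eq_one]
  intro t ht
  obtain ⟨i, hi⟩ := Function.ne_iff.1 he
  obtain ⟨j, hj⟩ := Function.ne_iff.1 hφ
  have h1 := congrArg (fun g : Matrix.SpecialLinearGroup (Fin n) F => (g : Matrix (Fin n) (Fin n) F)) ht
  simp only [tvm_val] at h1
  rw [Matrix.SpecialLinearGroup.coe_one, add_eq_left] at h1
  have h2 := congrFun (congrFun h1 i) j
  rw [vecMulVec_apply] at h2
  simp only [Pi.smul_apply, smul_eq_mul, Matrix.zero_apply, mul_eq_zero] at h2
  rcases h2 with (h2 | h2) | h2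
  · exact h2
  · exact absurd h2 hi
  · exact absurd h2 hj

theorem comm_tvm {n : ℕ} {e φ : Fin n → F} (h : φ ⬝ᵥ e = 0) {g : Matrix.SpecialLinearGroup (Fin n) F}
    (h1 : (g : Matrix (Fin n) (Fin n) F) *ᵥ e = e) (h2 : φ ᵥ* (g : Matrix (Fin n) (Fin n) F) = φ)
    (t : Multiplicative F) : g * tvm e φ h t = tvm e φ h t * g := by
  apply Subtype.ext
  rw [Matrix.SpecialLinearGroup.coe_mul, Matrix.SpecialLinearGroup.coe_mul, tvm_val, mul_add, add_mul, mul_one,
    one_mul, mul_vecMulVec, vecMulVec_mul, mulVec_smul, h1, h2]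

/-- the transpose inverse -/
def dualHom (n : ℕ) (F : Type*) [Field F] : Matrix.SpecialLinearGroup (Fin n) F →* Matrix (Fin n) (Fin n) F where
  toFun g := ((g⁻¹ : Matrix.SpecialLinearGroup (Fin n) F) : Matrix (Fin n) (Fin n) F)ᵀ
  map_one' := by simp
  map_mul' a b := by rw [_root_.mul_inv_rev, Matrix.SpecialLinearGroup.coe_mul, transpose_mul]

/-- the vectors orthogonal to `e` -/
def perp {n : ℕ} (e : Fin n → F) : Submodule F (Fin n → F) where
  carrier := {φ | φ ⬝ᵥ e = 0}
  zero_mem' := zero_dotProduct e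
  add_mem' {a b} ha hb := by
    change (a + b) ⬝ᵥ e = 0
    rw [add_dotProduct, ha, hb, add_zero]
  smul_mem' c a ha := by
    change (c • a) ⬝ᵥ e = 0
    rw [smul_dotProduct, ha, smul_zero]

theorem mem_perp {n : ℕ} {e φ : Fin n → F} : φ ∈ perp e ↔ φ ⬝ᵥ e = 0 := Iff.rfl

theorem perp_ne_bot {n : ℕ} (hn : 2 ≤ n) {e : Fin n → F} (he : e ≠ 0) : perp e ≠ ⊥ := by
  obtain ⟨i, hi⟩ := Function.ne_iff.1 he
  have hne : ∃ j : Fin n, j ≠ i := by
    by_cases h : i = ⟨0, by omega⟩
    · refine ⟨⟨1, by omega⟩, ?_⟩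
      rw [h]
      simp
    · exact ⟨_, Ne.symm h⟩
  obtain ⟨j, hj⟩ := hne
  rw [Submodule.ne_bot_iff]
  refine ⟨Pi.single j (e i) - Pi.single i (e j), ?_, ?_⟩
  · rw [mem_perp, sub_dotProduct, single_dotProduct, single_dotProduct]
    ring
  · intro h
    have h1 := congrFun h j
    simp only [Pi.sub_apply, Pi.single_eq_same, Pi.single_eq_of_ne hj, Pi.zero_apply, sub_zero] at h1
    exact hi h1

/-- the matrices of a subgroup -/
def valHom {n : ℕ} (T : Subgroup (Matrix.SpecialLinearGroup (Fin n) F)) : T →* Matrix (Fin n) (Fin n) F where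
  toFun t := ((t : Matrix.SpecialLinearGroup (Fin n) F) : Matrix (Fin n) (Fin n) F)
  map_one' := rfl
  map_mul' _ _ := rfl

/-- a 3-subgroup of `SL_n` centralises a transvection -/
theorem exists_tv [Fintype F] {p : ℕ} [Fact p.Prime] [CharP F p] {n : ℕ} (hn : 2 ≤ n)
    (T : Subgroup (Matrix.SpecialLinearGroup (Fin n) F)) (hT : IsPGroup p T) :
    ∃ (e φ : Fin n → F) (h : φ ⬝ᵥ e = 0), e ≠ 0 ∧ φ ≠ 0 ∧
      ∀ t ∈ T, ∀ s, t * tvm e φ h s = tvm e φ h s * t := by
  obtain ⟨e, -, he, h1⟩ := exists_fix hT (valHom T) ⊤ (fun _ _ _ => trivial) (by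
      intro h
      have hn0 : Nonempty (Fin n) := ⟨⟨0, by omega⟩⟩
      have : Nontrivial (Fin n → F) := inferInstance
      exact top_ne_bot h)
  have h1' : ∀ t ∈ T, (t : Matrix (Fin n) (Fin n) F) *ᵥ e = e := fun t ht => h1 ⟨t, ht⟩
  obtain ⟨φ, hφe, hφ, h2⟩ := exists_fix hT ((dualHom n F).comp T.subtype) (perp e) (by
      rintro t w hw
      change (((t : Matrix.SpecialLinearGroup (Fin n) F)⁻¹ : Matrix.SpecialLinearGroup (Fin n) F) :
        Matrix (Fin n) (Fin n) F)ᵀ *ᵥ w ∈ perp e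
      rw [mem_perp, mulVec_transpose, ← dotProduct_mulVec, h1' _ (inv_mem t.2)]
      exact hw) (perp_ne_bot hn he)
  refine ⟨e, φ, hφe, he, hφ, ?_⟩
  intro t ht s
  apply comm_tvm _ (h1' t ht)
  have h3 : (((t⁻¹)⁻¹ : Matrix.SpecialLinearGroup (Fin n) F) : Matrix (Fin n) (Fin n) F)ᵀ *ᵥ φ = φ :=
    h2 ⟨t⁻¹, inv_mem ht⟩
  rw [inv_inv, mulVec_transpose] at h3
  exact h3

theorem eq_one_of_pow_char {F : Type*} [Field F] [CharP F 3] {r : F} {k : ℕ} (h : r ^ 3 ^ k = 1) : r = 1 := by
  have h3F := Fact.mk Nat.prime_three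
  have h1 : (r - 1) ^ 3 ^ k = 0 := by rw [sub_pow_char_pow, h, one_pow, sub_self]
  exact sub_eq_zero.1 (pow_eq_zero_iff (pow_ne_zero k (by norm_num)) |>.1 h1)

theorem sl_ker {F : Type*} [Field F] [CharP F 3] {n : ℕ} (hn : 2 ≤ n) (c : Matrix.SpecialLinearGroup (Fin n) F)
    (hc : (QuotientGroup.mk' (center (Matrix.SpecialLinearGroup (Fin n) F))) c = 1) (k : ℕ) (h : c ^ 3 ^ k = 1) :
    c = 1 := by
  have h1 := (QuotientGroup.eq_one_iff _).1 hc
  rw [Matrix.SpecialLinearGroup.mem_center_iff] at h1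
  obtain ⟨r, -, hr⟩ := h1
  have h2 : scalar (Fin n) (r ^ 3 ^ k) = (1 : Matrix (Fin n) (Fin n) F) := by
    rw [map_pow, hr]
    have := congrArg (fun g : Matrix.SpecialLinearGroup (Fin n) F => (g : Matrix (Fin n) (Fin n) F)) h
    simpa only [_root_.Matrix.SpecialLinearGroup.coe_pow, _root_.Matrix.SpecialLinearGroup.coe_one] using this
  have h3 : r ^ 3 ^ k = 1 := by
    have := congrFun (congrFun h2 ⟨0, by omega⟩) ⟨0, by omega⟩
    simpa [scalar_apply, diagonal_apply] using this
  apply Subtype.ext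
  rw [← hr, eq_one_of_pow_char h3, map_one]
  rfl

end Cfsg.Agent.H846.Elim
end

private theorem dce_1f73145c1782 : _root_.True := by
  try have : _root_.True := by simp only [_root_.Cfsg.Agent.H846.Four.Jv.eq_1]
  try have : _root_.True := by simp only [_root_.Cfsg.Agent.H846.Elim.PSL.dd.eq_1]
  try have : _root_.True := by simp only [_root_.Cfsg.Agent.H846.Four.Iv.eq_1]
  try have : _root_.True := by simp only [_root_.Cfsg.Agent.H846.Four.f.eq_1]
  try have : _root_.True := by simp only [_root_.Cfsg.Agent.H846.Four.grp.congr_simp]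
  try have : _root_.True := by simp only [_root_.Cfsg.Agent.H846.Elim.tvm.congr_simp]
  try have : _root_.True := by simp only [_root_.Cfsg.Agent.H846.Four.orb.eq_1]
  try have : _root_.True := by simp only [_root_.Cfsg.Agent.H846.Elim.cc.eq_1]
  exact _root_.True.intro
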